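import Mathlib
import Cfsg.Agent.Lib.Dade.Sec

/-!
# The row orthogonality of a block with a cyclic defect group
-/

set_option linter.unusedSectionVars false
set_option linter.style.haveILetI false
set_option autoImplicit false

namespace Cfsg.Agent.Lib.Dade.Row

open Cfsg MonoidAlgebra
open Cfsg.Agent.Lib.Blocks.Local Cfsg.Agent.Lib.Blocks.Central Cfsg.Agent.Lib.Blocks.Brauer
open Cfsg.Agent.Lib.BlockH.Transport Cfsg.Agent.Lib.BlockH.Subpair Cfsg.Agent.Lib.BlockH.SubpairLE
open Cfsg.Agent.Lib.BlockH.ConjPair Cfsg.Agent.Lib.BlockH.Descent Cfsg.Agent.Lib.BlockH.MaxPair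
open Cfsg.Agent.Lib.BlockH.InducedPairs Cfsg.Agent.Lib.BlockH.AbelianDefect
open Cfsg.Agent.Lib.BP.StarDefs Cfsg.Agent.Lib.BP.Star1
open Cfsg.Agent.Lib.BP.Star2 Cfsg.Agent.Lib.BP.Star3 Cfsg.Agent.Lib.BP.Rob1 Cfsg.Agent.Lib.BP.Rob2
open Cfsg.Agent.Lib.BP.Nil1 Cfsg.Agent.Lib.BP.Nil2 Cfsg.Agent.Lib.BP.Nil3 Cfsg.Agent.Lib.BP.Nil4
open Cfsg.Agent.Lib.Contrib.Section
open Cfsg.Agent.Lib.Char.Basic Cfsg.Agent.Lib.Char.Complete Cfsg.Agent.Lib.Char.Ortho Cfsg.Agent.Lib.Char.GenLattice
open Cfsg.Agent.Lib.Char.Degree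
open Cfsg.Agent.Lib.Dade.Base Cfsg.Agent.Lib.Dade.NilDual Cfsg.Agent.Lib.Dade.Gen Cfsg.Agent.Lib.Dade.Loc
open scoped ComplexConjugate

universe u

variable {G : Type u} [Group G] [Fintype G] {p : ℕ} {M : Ideal AlgInt}

attribute [local instance] fK fIrr fBl fDual

variable {P : Subgroup G} {e : Set (IrrCharacter (Subgroup.centralizer (P : Set G)))} {B : Set (IrrCharacter G)}

/-! ### The polarized form of the sum over pairs -/

/-- The function on pairs. -/
noncomputable def hh2 (lam mu : P → ℂ) (χ ψ : G → ℂ) (p : ℕ) (M : Ideal AlgInt)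
    (e : Set (IrrCharacter (Subgroup.centralizer (P : Set G)))) (x : XX M G) : ℂ :=
  Wt p M e lam x.1 x.2.1 * conj (Wt p M e mu x.1 x.2.1) * NN p χ ψ x.1 x.2.1 / (nU p M e x.1 x.2.1 : ℂ)

theorem hh2_tau [M.IsPrime] {lam mu : P → ℂ} (hlam : IsStableLam p M e lam) (hmu : IsStableLam p M e mu)
    {χ ψ : G → ℂ} (hχ : IsClassFunction G χ) (hψ : IsClassFunction G ψ) (t : G) (x : XX M G) :
    hh2 lam mu χ ψ p M e (tau t x) = hh2 lam mu χ ψ p M e x := by
  obtain ⟨r, c⟩ := x
  simp only [hh2, tau]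
  rw [Wt_cjBl hlam, Wt_cjBl hmu, NN_cjBl hχ hψ, nU_cjBl]

open Classical in
/-- **The scalar product as a sum over pairs under `(P, e)`.** -/
theorem sum_star_eq_pairs2 (hM : IsPModular p M) [Fact p.Prime] {lam mu : P → ℂ} (hlam : IsStableLam p M e lam)
    (hmu : IsStableLam p M e mu) (hP : IsPGroup p P) {χ ψ : G → ℂ} (hχ : IsClassFunction G χ)
    (hψ : IsClassFunction G ψ) :
    ∑ g : G, starFun p M e lam χ g * conj (starFun p M e mu ψ g) =
      (Fintype.card G : ℂ) * ∑ x : XX M G, if IsUnder p M e x.1 x.2.1 1 then hh2 lam mu χ ψ p M e x else 0 := by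
  haveI := isPrime_of_pModular hM
  rw [sum_star_mul_conj hM lam mu hχ hψ]
  -- sum over all pairs
  have h1 : (∑ r : G, if (∃ k : ℕ, orderOf r = p ^ k) then
        ∑ c : {c : Set (IrrCharacter (cZ r)) // IsPBlock M c},
          Wt p M e lam r c.1 * conj (Wt p M e mu r c.1) * NN p χ ψ r c.1 else 0) =
      ∑ x : XX M G, Wt p M e lam x.1 x.2.1 * conj (Wt p M e mu x.1 x.2.1) * NN p χ ψ x.1 x.2.1 := by
    rw [Fintype.sum_sigma]
    refine Finset.sum_congr rfl fun r _ => ?_
    by_cases hr : ∃ k : ℕ, orderOf r = p ^ k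
    · rw [if_pos hr]
    · rw [if_neg hr]
      symm
      refine Finset.sum_eq_zero fun c _ => ?_
      rw [Wt_of_not, zero_mul, zero_mul]
      rintro ⟨t, ht⟩
      apply hr
      have h2 := Cfsg.Agent.Lib.Blocks.Third.orderOf_of_mem_isPGroup hP (conj_mem_of_isUnder ht)
      rwa [orderOf_conj'] at h2
  rw [h1]
  -- insert the fibres
  have h2 : ∀ x : XX M G, Wt p M e lam x.1 x.2.1 * conj (Wt p M e mu x.1 x.2.1) * NN p χ ψ x.1 x.2.1 =
      ∑ t : G, if IsUnder p M e x.1 x.2.1 t then hh2 lam mu χ ψ p M e x else 0 := by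
    intro x
    by_cases hu : ∃ t, IsUnder p M e x.1 x.2.1 t
    · have hn : (nU p M e x.1 x.2.1 : ℂ) ≠ 0 := by
        obtain ⟨t, ht⟩ := hu
        have : 0 < nU p M e x.1 x.2.1 := Finset.card_pos.mpr ⟨t, by simpa using ht⟩
        exact_mod_cast this.ne'
      rw [Finset.sum_ite, Finset.sum_const_zero, add_zero, Finset.sum_const, nsmul_eq_mul]
      have : (Finset.univ.filter fun t : G => IsUnder p M e x.1 x.2.1 t).card = nU p M e x.1 x.2.1 := rfl
      rw [this, hh2]
      field_simp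
    · rw [Wt_of_not hu, zero_mul, zero_mul]
      symm
      refine Finset.sum_eq_zero fun t _ => ?_
      rw [if_neg (fun ht => hu ⟨t, ht⟩)]
  simp_rw [h2]
  rw [Finset.sum_comm]
  have h3 : ∀ t : G, (∑ x : XX M G, if IsUnder p M e x.1 x.2.1 t then hh2 lam mu χ ψ p M e x else 0) =
      ∑ x : XX M G, if IsUnder p M e x.1 x.2.1 1 then hh2 lam mu χ ψ p M e x else 0 := by
    intro t
    rw [← (tau_bijective (M := M) t).sum_comp (fun x : XX M G =>
      if IsUnder p M e x.1 x.2.1 1 then hh2 lam mu χ ψ p M e x else 0)]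
    refine Finset.sum_congr rfl fun x _ => ?_
    rw [hh2_tau hlam hmu hχ hψ]
    have h4 : IsUnder p M e (tau t x).1 (tau t x).2.1 1 ↔ IsUnder p M e x.1 x.2.1 t := by
      have := isUnder_cjBl (p := p) (M := M) (e := e) (x := t) (r := x.1) (t := 1) (c := x.2.1)
      rwa [one_mul] at this
    simp only [h4]
  simp_rw [h3]
  rw [Finset.sum_const, nsmul_eq_mul, Finset.card_univ]

open Classical in
/-- Sum over the pairs below `(P, e)`. -/
theorem sum_pairs_eq2 (hM : IsPModular p M) [Fact p.Prime] (hmax : IsMaximalBrauerPair p M B P e) {lam mu : P → ℂ}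
    (hlam : IsStableLam p M e lam) (hmu : IsStableLam p M e mu) (χ ψ : G → ℂ) :
    (∑ x : XX M G, if IsUnder p M e x.1 x.2.1 1 then hh2 lam mu χ ψ p M e x else 0) =
      ∑ w : P, lam w * conj (mu w) * (NN p χ ψ w (bb p M e w) / (nU p M e w (bb p M e w) : ℂ)) := by
  rw [Fintype.sum_sigma]
  rw [Cfsg.Agent.Lib.Blocks.Induced.sum_eq_sum_subgroup P _ (by
    intro g hg
    refine Finset.sum_eq_zero fun c _ => ?_
    rw [if_neg]
    exact fun h => hg (mem_of_isUnder_one h))]
  refine Finset.sum_congr rfl fun w _ => ?_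
  obtain ⟨h1, h2⟩ := bb_spec hM hmax w.2
  rw [Finset.sum_eq_single (⟨bb p M e w, h1⟩ : {c : Set (IrrCharacter (cZ (w : G))) // IsPBlock M c})]
  · simp only
    rw [if_pos h2, hh2]
    simp only
    have h3 : (⟨1 * (w : G) * 1⁻¹, conj_mem_of_isUnder h2⟩ : P) = w := Subtype.ext (by simp)
    rw [Wt_eq hlam h2, Wt_eq hmu h2, h3]
    ring
  · intro c _ hne
    rw [if_neg]
    intro h
    apply hne
    exact Subtype.ext (isUnder_one_unique hM hmax c.2 h1 h h2)
  · intro h
    exact absurd (Finset.mem_univ _) h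

/-- **The scalar product of two characters of the block as a sum over the defect group.** -/
theorem classInner_eq_sum (hM : IsPModular p M) [Fact p.Prime] (hmax : IsMaximalBrauerPair p M B P e)
    {χ ψ : IrrCharacter G} (hχ : χ ∈ B) (hψ : ψ ∈ B) :
    ∑ g : G, (χ : G → ℂ) g * conj ((ψ : G → ℂ) g) =
      (Nat.card G : ℂ) * ∑ w : P, NN p (χ : G → ℂ) (ψ : G → ℂ) w (bb p M e w) / (nU p M e w (bb p M e w) : ℂ) := by
  classical
  have hst := isStableLam_const (p := p) (M := M) (e := e) (1 : ℂ)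
  have h1 := sum_star_eq_pairs2 hM hst hst hmax.1.1.1 (class_irr χ) (class_irr ψ)
  rw [sum_pairs_eq2 hM hmax hst hst] at h1
  simp only [map_one, mul_one, one_mul] at h1
  rw [Nat.card_eq_fintype_card, ← h1]
  refine Finset.sum_congr rfl fun g _ => ?_
  rw [starFun_const hM hmax 1 hχ, starFun_const hM hmax 1 hψ, one_mul, one_mul]

/-! ### The block at the identity -/

/-- Conjugation by an element of the centralizer does not change a pair. -/
theorem isUnder_of_mem_cZ [M.IsPrime] {w t : G} (ht : t ∈ cZ w) {c : Set (IrrCharacter (cZ w))} (hc : IsPBlock M c) :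
    IsUnder p M e w c t ↔ IsUnder p M e w c 1 := by
  have hZ : (Subgroup.zpowers w).map (MulAut.conj t).toMonoidHom = Subgroup.zpowers w :=
    map_conj_eq_of_mem_normalizer (Cfsg.Agent.Lib.BlockH.Sylow.centralizer_le_normalizer'' _ ht)
  rw [isUnder_iff hZ, blockMap_eq_of_stabilizes hZ hc (Cfsg.Agent.Lib.BlockH.Defects.stabilizesBlock_of_mem _ _ ht),
    isUnder_one_iff]

section

variable [Fact p.Prime]

theorem one_mem_P : (1 : G) ∈ P := P.one_mem

/-- The section at the identity. -/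
theorem Fs_one (hM : IsPModular p M) (hmax : IsMaximalBrauerPair p M B P e) {χ : IrrCharacter G} (hχ : χ ∈ B)
    {y : G} (hy : ¬ p ∣ orderOf y) : Fs (χ : G → ℂ) 1 (bb p M e 1) y = (χ : G → ℂ) y := by
  haveI := isPrime_of_pModular hM
  have h0 := sum_Fs (M := M) (χ : G → ℂ) 1 y
  rw [one_mul] at h0
  obtain ⟨h1, h2⟩ := bb_spec hM hmax (one_mem_P (P := P))
  rw [← h0, Finset.sum_eq_single (⟨bb p M e 1, h1⟩ : {c : Set (IrrCharacter (cZ (1 : G))) // IsPBlock M c})]
  · intro c _ hne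
    have hr : ∃ k : ℕ, orderOf (1 : G) = p ^ k := ⟨0, by simp⟩
    refine Fs_eq_zero_of_not_under hM hmax hχ hr c.2 ?_ (by rw [mem_cZ]; exact Commute.one_right y) hy
    rintro ⟨t, ht⟩
    have ht' : t ∈ cZ (1 : G) := by
      rw [mem_cZ]
      exact Commute.one_right t
    have h3 := (isUnder_of_mem_cZ ht' c.2).mp ht
    exact hne (Subtype.ext (isUnder_one_unique hM hmax c.2 h1 h3 h2))
  · intro h
    exact absurd (Finset.mem_univ _) h

/-- The number of conjugations at the identity. -/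
theorem nU_one (hM : IsPModular p M) (hmax : IsMaximalBrauerPair p M B P e) :
    nU p M e 1 (bb p M e 1) = Nat.card G := by
  classical
  haveI := isPrime_of_pModular hM
  obtain ⟨h1, h2⟩ := bb_spec hM hmax (one_mem_P (P := P))
  rw [nU, Nat.card_eq_fintype_card]
  rw [Finset.filter_true_of_mem, Finset.card_univ]
  intro t _
  have ht' : t ∈ cZ (1 : G) := by
    rw [mem_cZ]
    exact Commute.one_right t
  exact (isUnder_of_mem_cZ ht' h1).mpr h2

/-- The term of the identity. -/
theorem NN_one_div (hM : IsPModular p M) (hmax : IsMaximalBrauerPair p M B P e) {χ ψ : IrrCharacter G} (hχ : χ ∈ B)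
    (hψ : ψ ∈ B) :
    NN p (χ : G → ℂ) (ψ : G → ℂ) 1 (bb p M e 1) / (nU p M e 1 (bb p M e 1) : ℂ) =
      (Nat.card G : ℂ)⁻¹ * ∑ y : G, (open Classical in if ¬ p ∣ orderOf y then (χ : G → ℂ) y * conj ((ψ : G → ℂ) y) else 0) := by
  classical
  rw [nU_one hM hmax, NN, div_eq_inv_mul]
  congr 1
  refine Finset.sum_congr rfl fun y _ => ?_
  by_cases hy : ¬ p ∣ orderOf y
  · rw [if_pos ⟨by rw [mem_cZ]; exact Commute.one_right y, hy⟩, if_pos hy, Fs_one hM hmax hχ hy, Fs_one hM hmax hψ hy]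
  · rw [if_neg (fun h => hy h.2), if_neg hy]

/-! ### The blocks below the maximal pair -/

variable {c : Set (IrrCharacter (Subgroup.centralizer (P : Set G)))}

/-- In the cyclic case the conjugations below `(P, c)` of the block below `(P, c)` form its stabilizer. -/
theorem isUnder_iff_mem_stab (hM : IsPModular p M) (hmax : IsMaximalBrauerPair p M B P c) (hcyc : IsCyclic P)
    {w : G} (hw : w ∈ P) {t : G} :
    IsUnder p M c w (bb p M c w) t ↔ t ∈ stabSub (Subgroup.zpowers w) (bb p M c w) := by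
  haveI := isPrime_of_pModular hM
  obtain ⟨h1, h2⟩ := bb_spec hM hmax hw
  constructor
  · intro ht
    have hle := le_of_subpairLE ht
    have hle2 : Subgroup.zpowers w ≤ P := (Subgroup.zpowers_le).mpr hw
    have hcard : Nat.card ((Subgroup.zpowers w).map (MulAut.conj t).toMonoidHom : Subgroup G) =
        Nat.card (Subgroup.zpowers w) :=
      Subgroup.card_map_of_injective (MulAut.conj t).injective
    haveI : IsCyclic P := hcyc
    have hsub : ((Subgroup.zpowers w).map (MulAut.conj t).toMonoidHom).subgroupOf P = (Subgroup.zpowers w).subgroupOf P := by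
      apply eq_of_card_eq_of_cyclic
      rw [Nat.card_congr (Subgroup.subgroupOfEquivOfLe hle).toEquiv,
        Nat.card_congr (Subgroup.subgroupOfEquivOfLe hle2).toEquiv, hcard]
    have hQ : (Subgroup.zpowers w).map (MulAut.conj t).toMonoidHom = Subgroup.zpowers w := by
      rw [← Subgroup.map_subgroupOf_eq_of_le hle, hsub, Subgroup.map_subgroupOf_eq_of_le hle2]
    rw [isUnder_iff hQ] at ht
    have h3 := bb_eq hM hmax (isPBlock_blockMap _ h1) (isUnder_one_iff.mpr ht)
    exact ⟨Cfsg.Agent.Lib.BlockH.Saturation.mem_normalizer_of_map_eq hQ, stabilizesBlock_of_eq hQ h1 h3.symm⟩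
  · intro ht
    have hQ := map_conj_eq_of_mem_normalizer ht.1
    rw [isUnder_iff hQ, blockMap_eq_of_stabilizes hQ h1 ht.2]
    exact isUnder_one_iff.mp h2

/-- The number of conjugations below the maximal pair. -/
theorem nU_bb (hM : IsPModular p M) (hmax : IsMaximalBrauerPair p M B P c) (hP1 : P ≠ ⊥) (hcyc : IsCyclic P)
    {w : G} (hw : w ∈ P) (h1 : w ≠ 1) :
    nU p M c w (bb p M c w) = (Subgroup.centralizer (P : Set G)).relIndex (stabSub P c) * Nat.card (cZ w) := by
  classical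
  haveI := isPrime_of_pModular hM
  obtain ⟨h2, h3⟩ := bb_spec hM hmax hw
  have hPp : IsPGroup p P := hmax.1.1.1
  have hab := hab_of_cyclic hcyc
  have hQP : Subgroup.zpowers w ≤ P := (Subgroup.zpowers_le).mpr hw
  have hQ1 : Subgroup.zpowers w ≠ ⊥ := by
    intro h
    rw [Subgroup.zpowers_eq_bot] at h
    exact h1 h
  have hPC : P ≤ Subgroup.centralizer ((Subgroup.zpowers w : Subgroup G) : Set G) := by
    intro a ha
    rw [Subgroup.mem_centralizer_iff]
    intro q hq
    exact hab q (hQP hq) a ha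
  have hle := isUnder_one_iff.mp h3
  have hnor := isNormalSubpair_of_subpairLE hM ⟨hPp.to_le hQP, h2⟩ hle
    (fun x hx => Cfsg.Agent.Lib.BlockH.Sylow.centralizer_le_normalizer'' _ (hPC hx))
  have hind := (isInducedBlockIn_iff_isNormalSubpair hM hPp hQP hPC).mpr hnor
  obtain ⟨-, h4, -, -⟩ := local_package hM hmax hP1 hcyc hQP hQ1 hind
    (stabSub (Subgroup.zpowers w) (bb p M c w)) (fun _ => Iff.rfl)
  have h5 : nU p M c w (bb p M c w) = Nat.card (stabSub (Subgroup.zpowers w) (bb p M c w)) := by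
    rw [nU, Nat.card_eq_fintype_card, Fintype.card_subtype]
    congr 1
    ext t
    simp only [Finset.mem_filter, Finset.mem_univ, true_and]
    exact isUnder_iff_mem_stab hM hmax hcyc hw
  have hCT : cZ w ≤ stabSub (Subgroup.zpowers w) (bb p M c w) := fun u hu =>
    ⟨Cfsg.Agent.Lib.BlockH.Sylow.centralizer_le_normalizer'' _ hu,
      Cfsg.Agent.Lib.BlockH.Defects.stabilizesBlock_of_mem _ _ hu⟩
  rw [h5, ← h4, Subgroup.relIndex]
  have h6 := Subgroup.index_mul_card ((cZ w).subgroupOf (stabSub (Subgroup.zpowers w) (bb p M c w)))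
  rw [Nat.card_congr (Subgroup.subgroupOfEquivOfLe hCT).toEquiv] at h6
  exact h6.symm

end

end Cfsg.Agent.Lib.Dade.Row
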