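import Mathlib

/-!
# The structure of an algebra which is a full matrix algebra over a truncated polynomial ring

`Core` collects the properties of the block algebra of a nilpotent block with a cyclic defect group of order `q`:
a central element `U` with `U ^ q = 0`, an idempotent `P` with `P x P` a polynomial in `U` times `P`,
and elements `a j`, `b j` with `∑ a j b j = e`.
-/

set_option autoImplicit false
set_option linter.unusedSectionVars false

namespace Cfsg.Agent.Lib.Dade.MA

open Module
open scoped BigOperators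

section Alg

variable {A : Type*} [Ring A] {k : Type*} [Field k] [Algebra k A]

variable (k) in
/-- The polynomials in `U` times `P`. -/
def WW (U P : A) : Submodule k A := Submodule.span k (Set.range fun i : ℕ => U ^ i * P)

/-- The structure of the block algebra. -/
structure Core {J : Type*} (q : ℕ) (e U P : A) (θ : A →ₗ[k] k) (s : Finset J) (a b : J → A) : Prop where
  hq : 2 ≤ q
  e2 : e * e = e
  ecen : ∀ x, x * e = e * x
  ucen : ∀ x, x * U = U * x
  eU : e * U = U
  Uq : U ^ q = 0
  P2 : P * P = P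
  eP : e * P = P
  aP : ∀ j ∈ s, a j * P = a j
  Pb : ∀ j ∈ s, P * b j = b j
  sum : ∑ j ∈ s, a j * b j = e
  θc : ∀ x y, θ (x * y) = θ (y * x)
  θP : θ P = 1
  θU : ∀ x, θ (U * x) = 0
  corner : ∀ x, P * x * P ∈ WW k U P
  top : U ^ (q - 1) * P ≠ 0

variable {J : Type*} {q : ℕ} {e U P : A} {θ : A →ₗ[k] k} {s : Finset J} {a b : J → A}

namespace Core

variable (h : Core q e U P θ s a b)
include h

theorem comm_pow (x : A) (n : ℕ) : x * U ^ n = U ^ n * x :=
  (Commute.pow_right (show Commute x U from h.ucen x) n).eq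

theorem Pe : P * e = P := by rw [h.ecen, h.eP]

theorem eU_pow {n : ℕ} (hn : 1 ≤ n) : e * U ^ n = U ^ n := by
  obtain ⟨m, rfl⟩ : ∃ m, n = m + 1 := ⟨n - 1, by omega⟩
  rw [pow_succ, ← mul_assoc, h.comm_pow, mul_assoc, h.eU]

theorem decomp {y : A} (hy : y ∈ WW k U P) : ∃ y' ∈ WW k U P, y = θ y • P + U * y' := by
  unfold WW at hy
  induction hy using Submodule.span_induction with
  | mem y hy =>
    obtain ⟨i, rfl⟩ := hy
    cases i with
    | zero =>
      refine ⟨0, Submodule.zero_mem _, ?_⟩
      simp [h.θP]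
    | succ i =>
      refine ⟨U ^ i * P, Submodule.subset_span ⟨i, rfl⟩, ?_⟩
      have h1 : U ^ (i + 1) * P = U * (U ^ i * P) := by rw [pow_succ', mul_assoc]
      simp only
      rw [h1, h.θU, zero_smul, zero_add]
  | zero =>
    refine ⟨0, Submodule.zero_mem _, ?_⟩
    simp
  | add y z _ _ hy hz =>
    obtain ⟨y', hy', e1⟩ := hy
    obtain ⟨z', hz', e2⟩ := hz
    refine ⟨y' + z', Submodule.add_mem _ hy' hz', ?_⟩
    rw [map_add, add_smul, mul_add]
    nth_rw 1 [e1, e2]
    abel
  | smul c y _ hy =>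
    obtain ⟨y', hy', e1⟩ := hy
    refine ⟨c • y', Submodule.smul_mem _ _ hy', ?_⟩
    rw [map_smul, smul_eq_mul, mul_smul, mul_smul_comm, ← smul_add, ← e1]

theorem pow_mul_W {y : A} (hy : y ∈ WW k U P) : U ^ (q - 1) * y = θ y • (U ^ (q - 1) * P) := by
  obtain ⟨y', -, e1⟩ := h.decomp hy
  nth_rw 1 [e1]
  have h2 : U ^ (q - 1) * (U * y') = 0 := by
    rw [← mul_assoc, ← pow_succ, Nat.sub_add_cancel (by have := h.hq; omega), h.Uq, zero_mul]
  rw [mul_add, h2, add_zero, mul_smul_comm]

theorem U_mul_mem {y : A} (hy : y ∈ WW k U P) : U * y ∈ WW k U P := by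
  unfold WW at hy
  induction hy using Submodule.span_induction with
  | mem y hy =>
    obtain ⟨i, rfl⟩ := hy
    refine Submodule.subset_span ⟨i + 1, ?_⟩
    simp only
    rw [pow_succ', mul_assoc]
  | zero => simp
  | add y z _ _ hy hz =>
    rw [mul_add]
    exact Submodule.add_mem _ hy hz
  | smul c y _ hy =>
    rw [mul_smul_comm]
    exact Submodule.smul_mem _ _ hy

theorem P_mul_W {y : A} (hy : y ∈ WW k U P) : P * y = y := by
  unfold WW at hy
  induction hy using Submodule.span_induction with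
  | mem y hy =>
    obtain ⟨i, rfl⟩ := hy
    simp only
    rw [← mul_assoc, h.comm_pow, mul_assoc, h.P2]
  | zero => simp
  | add y z _ _ hy hz => rw [mul_add, hy, hz]
  | smul c y _ hy => rw [mul_smul_comm, hy]

theorem W_mul_P {y : A} (hy : y ∈ WW k U P) : y * P = y := by
  unfold WW at hy
  induction hy using Submodule.span_induction with
  | mem y hy =>
    obtain ⟨i, rfl⟩ := hy
    simp only
    rw [mul_assoc, h.P2]
  | zero => simp
  | add y z _ _ hy hz => rw [add_mul, hy, hz]
  | smul c y _ hy => rw [smul_mul_assoc, hy]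

/-- **The kernel of `U` on the polynomials in `U`.** -/
theorem W_top {y : A} (hy : y ∈ WW k U P) (hU : U * y = 0) : ∃ c : k, y = c • (U ^ (q - 1) * P) := by
  have hq := h.hq
  have key : ∀ i, i ≤ q - 1 → ∃ y₁ ∈ WW k U P, y = U ^ i * y₁ := by
    intro i
    induction i with
    | zero =>
      intro _
      exact ⟨y, hy, by simp⟩
    | succ i ih =>
      intro hi
      obtain ⟨y₁, hy₁, rfl⟩ := ih (by omega)
      have h1 : U ^ (q - 1) * y₁ = 0 := by
        have h2 : q - 1 = (q - 1 - (i + 1)) + (i + 1) := by omega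
        rw [h2, pow_add, mul_assoc, pow_succ, mul_assoc]
        have h3 : U ^ i * (U * y₁) = U * (U ^ i * y₁) := by
          rw [← mul_assoc, ← mul_assoc, (show U ^ i * U = U * U ^ i from by rw [← pow_succ, pow_succ'])]
        rw [h3, hU, mul_zero]
      rw [h.pow_mul_W hy₁] at h1
      have h2 : θ y₁ = 0 := by
        by_contra hne
        exact h.top ((smul_eq_zero.mp h1).resolve_left hne)
      obtain ⟨y', hy', e1⟩ := h.decomp hy₁
      rw [h2, zero_smul, zero_add] at e1
      refine ⟨y', hy', ?_⟩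
      rw [pow_succ, mul_assoc, ← e1]
  obtain ⟨y₁, hy₁, rfl⟩ := key (q - 1) le_rfl
  exact ⟨θ y₁, h.pow_mul_W hy₁⟩

/-- `e x` as a double sum. -/
theorem e_mul_eq (x : A) : e * x = ∑ j ∈ s, ∑ l ∈ s, a j * (b j * x * a l) * b l := by
  have h1 : e * x = e * x * e := by rw [mul_assoc, h.ecen, ← mul_assoc, h.e2]
  rw [h1]
  nth_rw 2 [← h.sum]
  nth_rw 1 [← h.sum]
  rw [Finset.sum_mul, Finset.sum_mul]
  refine Finset.sum_congr rfl fun j _ => ?_
  rw [Finset.mul_sum]
  refine Finset.sum_congr rfl fun l _ => ?_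
  simp only [mul_assoc]

theorem corner_ba {j l : J} (hj : j ∈ s) (hl : l ∈ s) (x : A) : b j * x * a l ∈ WW k U P := by
  have h1 : b j * x * a l = P * (b j * x * a l) * P := by
    calc b j * x * a l = (P * b j) * x * (a l * P) := by rw [h.Pb j hj, h.aP l hl]
      _ = _ := by simp only [mul_assoc]
  rw [h1]
  exact h.corner _

/-- **The kernel of `U`.** -/
theorem ker_U {x : A} (hx : U * (e * x) = 0) : ∃ y, e * x = U ^ (q - 1) * y := by
  classical
  have h0 : U * x = 0 := by
    have h2 : U * x = U * (e * x) := by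
      rw [← mul_assoc, ← h.ucen e, h.eU]
    rw [h2, hx]
  have h1 : ∀ j ∈ s, ∀ l ∈ s, ∃ c : k, b j * x * a l = c • (U ^ (q - 1) * P) := by
    intro j hj l hl
    refine h.W_top (h.corner_ba hj hl x) ?_
    rw [← mul_assoc, ← mul_assoc, ← h.ucen, mul_assoc (b j), h0, mul_zero, zero_mul]
  choose! c hc using h1
  refine ⟨∑ j ∈ s, ∑ l ∈ s, c j l • (a j * b l), ?_⟩
  rw [h.e_mul_eq x, Finset.mul_sum]
  refine Finset.sum_congr rfl fun j hj => ?_
  rw [Finset.mul_sum]
  refine Finset.sum_congr rfl fun l hl => ?_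
  rw [hc j hj l hl, mul_smul_comm, smul_mul_assoc, mul_smul_comm]
  congr 1
  calc a j * (U ^ (q - 1) * P) * b l = a j * U ^ (q - 1) * (P * b l) := by simp only [mul_assoc]
    _ = U ^ (q - 1) * (a j * b l) := by rw [h.Pb l hl, h.comm_pow, mul_assoc]

/-- **A central element below `e` with a nonzero value at `P` is invertible below `e`.** -/
theorem exists_inv {x : A} (hxc : ∀ y, y * x = x * y) (hex : e * x = x) (hθ : θ (x * P) ≠ 0) :
    ∃ v : A, (∀ y, y * v = v * y) ∧ v * x = e := by
  classical
  have hq := h.hq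
  set c := θ (x * P) with hc
  have hW : x * P ∈ WW k U P := by
    have h1 : x * P = P * x * P := by
      rw [hxc P, mul_assoc, h.P2]
    rw [h1]
    exact h.corner x
  obtain ⟨y', -, e1⟩ := h.decomp hW
  rw [← hc] at e1
  -- the expansion of `x`
  have h2 : x = c • e + U * ∑ j ∈ s, a j * y' * b j := by
    have h3 : ∀ j ∈ s, a j * b j * x = c • (a j * b j) + U * (a j * y' * b j) := by
      intro j hj
      have h4 : a j * b j * x = a j * (x * P) * b j := by
        calc a j * b j * x = a j * (b j * x) := mul_assoc _ _ _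
          _ = a j * (x * b j) := by rw [hxc]
          _ = a j * (x * (P * b j)) := by rw [h.Pb j hj]
          _ = _ := by simp only [mul_assoc]
      rw [h4, e1, mul_add, add_mul, mul_smul_comm, smul_mul_assoc, h.aP j hj]
      congr 1
      calc a j * (U * y') * b j = (a j * U) * y' * b j := by simp only [mul_assoc]
        _ = (U * a j) * y' * b j := by rw [h.ucen]
        _ = _ := by simp only [mul_assoc]
    calc x = e * x := hex.symm
      _ = (∑ j ∈ s, a j * b j) * x := by rw [h.sum]
      _ = ∑ j ∈ s, (c • (a j * b j) + U * (a j * y' * b j)) := by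
          rw [Finset.sum_mul]
          exact Finset.sum_congr rfl h3
      _ = c • ∑ j ∈ s, a j * b j + U * ∑ j ∈ s, a j * y' * b j := by
          rw [Finset.sum_add_distrib, Finset.smul_sum, Finset.mul_sum]
      _ = _ := by rw [h.sum]
  set y := ∑ j ∈ s, a j * y' * b j with hy
  set n := U * y with hn
  have hn2 : n = x - c • e := by
    rw [eq_sub_iff_add_eq, add_comm]
    exact h2.symm
  have hnc : ∀ z, z * n = n * z := by
    intro z
    rw [hn2, mul_sub, sub_mul, hxc, mul_smul_comm, smul_mul_assoc, h.ecen]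
  have hen : e * n = n := by
    rw [hn2, mul_sub, hex, mul_smul_comm, h.e2]
  have hnq : n ^ q = 0 := by
    have hcomm : Commute U y := (h.ucen y).symm
    rw [hn, hcomm.mul_pow, h.Uq, zero_mul]
  have hc0 : c ≠ 0 := hθ
  set t : A := -(c⁻¹ • n) with ht
  have htc : ∀ z, z * t = t * z := by
    intro z
    rw [ht, mul_neg, neg_mul, mul_smul_comm, smul_mul_assoc, hnc]
  have htq : t ^ q = 0 := by
    have h3 : t = (-c⁻¹) • n := by
      rw [ht, neg_smul]
    rw [h3, smul_pow, hnq, smul_zero]
  have het : e * t = t := by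
    rw [ht, mul_neg, mul_smul_comm, hen]
  have hx : x = c • (e - t) := by
    rw [smul_sub, ht, smul_neg, smul_smul, mul_inv_cancel₀ hc0, one_smul, sub_neg_eq_add]
    exact h2
  have hpc : ∀ (z : A), (∀ w, w * z = z * w) → ∀ m : ℕ, ∀ w, w * z ^ m = z ^ m * w := by
    intro z hz m w
    exact ((show Commute w z from hz w).pow_right m).eq
  refine ⟨c⁻¹ • ∑ j ∈ Finset.range q, t ^ j, ?_, ?_⟩
  · intro z
    rw [mul_smul_comm, smul_mul_assoc, Finset.mul_sum, Finset.sum_mul]
    congr 1
    exact Finset.sum_congr rfl fun j _ => hpc t htc j z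
  · rw [hx, smul_mul_assoc, mul_smul_comm, smul_smul, inv_mul_cancel₀ hc0, one_smul]
    have h3 : (∑ j ∈ Finset.range q, t ^ j) * (t - 1) = t ^ q - 1 := geom_sum_mul t q
    have h4 : e - t = - (e * (t - 1)) := by
      rw [mul_sub, het, mul_one]
      abel
    rw [h4, mul_neg, ← mul_assoc, h.ecen, mul_assoc, h3, htq]
    simp

end Core

end Alg

end Cfsg.Agent.Lib.Dade.MA
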