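import Mathlib
import Cfsg.Agent.Lib.Dade.MA
import Cfsg.Agent.Lib.D1.Res
import Cfsg.Agent.Lib.BK.HC
import Cfsg.Agent.Lib.BlockAlg.GroupAlg

/-!
# Reduction of the coefficients of the group algebra modulo a valuation subring of `ℂ`
-/

set_option autoImplicit false
set_option linter.unusedSectionVars false
set_option linter.style.haveILetI false

namespace Cfsg.Agent.Lib.Dade.LA

open Cfsg MonoidAlgebra Cfsg.Agent.Lib.D1.Res Cfsg.Agent.Lib.BlockAlg
open Cfsg.Agent.Lib.Blocks.Local Cfsg.Agent.Lib.Blocks.Central Cfsg.Agent.Lib.Blocks.Brauer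
open scoped BigOperators

universe u

variable {Γ : Type u} [Group Γ] [Fintype Γ] {V : ValuationSubring ℂ}

/-- All coefficients are in `V`. -/
def RV (V : ValuationSubring ℂ) (x : GA Γ) : Prop := ∀ g, x.coeff g ∈ V

/-- Reduction of the coefficients. -/
noncomputable def rd (V : ValuationSubring ℂ) (x : GA Γ) : MonoidAlgebra (K V) Γ :=
  ofFunK fun g => red V (x.coeff g)

@[simp] theorem coeff_rd (x : GA Γ) (g : Γ) : (rd V x).coeff g = red V (x.coeff g) := rfl

theorem RV.add {x y : GA Γ} (hx : RV V x) (hy : RV V y) : RV V (x + y) := fun g => V.add_mem _ _ (hx g) (hy g)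

theorem RV.sub {x y : GA Γ} (hx : RV V x) (hy : RV V y) : RV V (x - y) := fun g => by
  rw [coeff_sub']
  exact V.toSubring.sub_mem (hx g) (hy g)

theorem RV.smul {c : ℂ} (hc : c ∈ V) {x : GA Γ} (hx : RV V x) : RV V (c • x) := fun g => by
  rw [coeff_smul']
  exact V.mul_mem _ _ hc (hx g)

theorem RV.mul {x y : GA Γ} (hx : RV V x) (hy : RV V y) : RV V (x * y) := fun g => by
  rw [coeff_mul_sum]
  exact sum_mem' _ _ fun h _ => V.mul_mem _ _ (hx h) (hy _)

theorem RV.one : RV V (1 : GA Γ) := fun g => by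
  classical
  rw [coeff_one']
  split_ifs
  · exact V.one_mem
  · exact V.zero_mem

theorem RV.zero : RV V (0 : GA Γ) := fun _ => V.zero_mem

theorem RV.sum {ι : Type*} (s : Finset ι) (f : ι → GA Γ) (h : ∀ i ∈ s, RV V (f i)) : RV V (∑ i ∈ s, f i) := fun g => by
  rw [coeff_sum']
  exact sum_mem' _ _ fun i hi => h i hi g

theorem RV.single (g : Γ) {c : ℂ} (hc : c ∈ V) : RV V (single g c : GA Γ) := fun h => by
  classical
  rw [coeff_single, Finsupp.single_apply]
  split_ifs
  · exact hc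
  · exact V.zero_mem

theorem RV.pow {x : GA Γ} (hx : RV V x) (n : ℕ) : RV V (x ^ n) := by
  induction n with
  | zero => simpa using RV.one
  | succ n ih =>
    rw [pow_succ]
    exact ih.mul hx

theorem RV.of_rc {M : Ideal AlgInt} (hV : ∀ z, MemLocalRing M z → z ∈ V) {x : GA Γ} (hx : Rc M x) : RV V x :=
  fun g => hV _ (hx g)

theorem rd_add {x y : GA Γ} (hx : RV V x) (hy : RV V y) : rd V (x + y) = rd V x + rd V y := by
  ext g
  exact red_add (hx g) (hy g)

theorem rd_sub {x y : GA Γ} (hx : RV V x) (hy : RV V y) : rd V (x - y) = rd V x - rd V y := by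
  ext g
  rw [coeff_rd, coeff_sub', coeff_subK, red_sub (hx g) (hy g)]
  rfl

theorem rd_mul {x y : GA Γ} (hx : RV V x) (hy : RV V y) : rd V (x * y) = rd V x * rd V y := by
  ext g
  rw [coeff_rd, coeff_mul_sum, coeff_mul_sumK, red_sum _ _ fun h _ => V.mul_mem _ _ (hx h) (hy _)]
  refine Finset.sum_congr rfl fun h _ => ?_
  rw [red_mul (hx h) (hy _)]
  rfl

theorem rd_smul {c : ℂ} (hc : c ∈ V) {x : GA Γ} (hx : RV V x) : rd V (c • x) = red V c • rd V x := by
  ext g
  change red V (c * x.coeff g) = red V c * red V (x.coeff g)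
  exact red_mul hc (hx g)

theorem rd_one : rd V (1 : GA Γ) = 1 := by
  classical
  ext g
  rw [coeff_rd, coeff_one', coeff_oneK]
  split_ifs
  · exact Cfsg.Agent.Lib.D1.Res.red_one
  · exact Cfsg.Agent.Lib.D1.Res.red_zero

theorem rd_zero : rd V (0 : GA Γ) = 0 := by
  ext g
  exact Cfsg.Agent.Lib.D1.Res.red_zero

theorem rd_sum {ι : Type*} (s : Finset ι) (f : ι → GA Γ) (h : ∀ i ∈ s, RV V (f i)) :
    rd V (∑ i ∈ s, f i) = ∑ i ∈ s, rd V (f i) := by
  classical
  induction s using Finset.induction_on with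
  | empty => simp [rd_zero]
  | insert a s ha ih =>
    rw [Finset.sum_insert ha, Finset.sum_insert ha,
      rd_add (h a (Finset.mem_insert_self _ _)) (RV.sum s f fun i hi => h i (Finset.mem_insert_of_mem hi)),
      ih fun i hi => h i (Finset.mem_insert_of_mem hi)]

theorem rd_single (g : Γ) {c : ℂ} (hc : c ∈ V) : rd V (single g c : GA Γ) = single g (red V c) := by
  classical
  ext h
  rw [coeff_rd, coeff_single, coeff_single, Finsupp.single_apply, Finsupp.single_apply]
  split_ifs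
  · rfl
  · exact Cfsg.Agent.Lib.D1.Res.red_zero

theorem exists_lift (z : MonoidAlgebra (K V) Γ) : ∃ x : GA Γ, RV V x ∧ rd V x = z := by
  classical
  choose s hs hrs using fun c : K V => red_surj c
  refine ⟨ofFun fun g => s (z.coeff g), fun g => hs _, ?_⟩
  ext g
  exact hrs _

/-- The linear form attached to a function on the group. -/
noncomputable def thF (V : ValuationSubring ℂ) (ξ : Γ → ℂ) : MonoidAlgebra (K V) Γ →ₗ[K V] K V where
  toFun x := ∑ g : Γ, x.coeff g * red V (ξ g)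
  map_add' x y := by
    simp only [coeff_addK, add_mul, Finset.sum_add_distrib]
  map_smul' c x := by
    simp only [coeff_smulK, RingHom.id_apply, smul_eq_mul, Finset.mul_sum, mul_assoc]

theorem thF_apply (ξ : Γ → ℂ) (x : MonoidAlgebra (K V) Γ) : thF V ξ x = ∑ g : Γ, x.coeff g * red V (ξ g) := rfl

theorem thF_rd {ξ : Γ → ℂ} (hξ : ∀ g, ξ g ∈ V) {x : GA Γ} (hx : RV V x) : thF V ξ (rd V x) = red V (lin ξ x) := by
  rw [thF_apply, lin_apply, red_sum _ _ fun g _ => V.mul_mem _ _ (hx g) (hξ g)]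
  refine Finset.sum_congr rfl fun g _ => ?_
  rw [red_mul (hx g) (hξ g)]
  rfl

theorem lin_mem {ξ : Γ → ℂ} (hξ : ∀ g, ξ g ∈ V) {x : GA Γ} (hx : RV V x) : lin ξ x ∈ V := by
  rw [lin_apply]
  exact sum_mem' _ _ fun g _ => V.mul_mem _ _ (hx g) (hξ g)

end Cfsg.Agent.Lib.Dade.LA
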