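import Mathlib
import Cfsg.Agent.Lib.Dade.LA
import Cfsg.Agent.Lib.Glauberman.Act
import Cfsg.Agent.Lib.ModTI.Cyclic

/-!
# The central elements of a block whose members are parametrized by the dual of a group
-/

set_option autoImplicit false
set_option linter.unusedSectionVars false
set_option linter.style.haveILetI false

namespace Cfsg.Agent.Lib.Dade.LB

open Cfsg MonoidAlgebra Cfsg.Agent.Lib.D1.Res Cfsg.Agent.Lib.BlockAlg Cfsg.Agent.Lib.Dade.LA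
open Cfsg.Agent.Lib.Blocks.Local Cfsg.Agent.Lib.Blocks.Central Cfsg.Agent.Lib.Blocks.Brauer
open Cfsg.Agent.Lib.BK.Coef Cfsg.Agent.Lib.BK.HC
open Cfsg.Agent.Lib.Char.Basic Cfsg.Agent.Lib.Char.Complete
open scoped BigOperators ComplexConjugate

universe u v

variable {Γ : Type u} [Group Γ] [Fintype Γ] [Fintype (IrrCharacter Γ)] {V : ValuationSubring ℂ}
  {A : Type v} [Group A] [Fintype A] [Fintype (A →* ℂˣ)]

/-- The members of `f` are parametrized by the dual of `A`. -/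
structure TwData (V : ValuationSubring ℂ) (f : Set (IrrCharacter Γ)) (ξ : (A →* ℂˣ) → IrrCharacter Γ)
    (φ : A → Γ → ℂ) (d : ℂ) : Prop where
  hcomm : ∀ a b : A, a * b = b * a
  mem : ∀ γ, ξ γ ∈ f
  surj : ∀ χ ∈ f, ∃ γ, ξ γ = χ
  inj : Function.Injective ξ
  expand : ∀ γ x, (ξ γ : Γ → ℂ) x = ∑ w : A, ((γ w : ℂˣ) : ℂ) * φ w x
  loc : ∀ w x, φ w x ∈ V
  deg : ∀ γ, (ξ γ : Γ → ℂ) 1 = d
  kap : (Nat.card A : ℂ) * d / Nat.card Γ ∈ V
  kapu : (Nat.card Γ : ℂ) / ((Nat.card A : ℂ) * d) ∈ V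

/-- The central elements. -/
noncomputable def zz (ξ : (A →* ℂˣ) → IrrCharacter Γ) (g : A) : Subalgebra.center ℂ (GA Γ) :=
  ∑ γ : A →* ℂˣ, ((γ g : ℂˣ) : ℂ) • idem ({ξ γ} : Set (IrrCharacter Γ))

theorem coeff_idem_singleton (χ : IrrCharacter Γ) (h : Γ) :
    ((idem ({χ} : Set (IrrCharacter Γ)) : Subalgebra.center ℂ (GA Γ)) : GA Γ).coeff h =
      (Nat.card Γ : ℂ)⁻¹ * ((χ : Γ → ℂ) 1 * (χ : Γ → ℂ) h⁻¹) := by
  classical
  rw [coeff_idem, blockCoeff_eq_sum, Finset.sum_eq_single χ]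
  · rw [if_pos (Set.mem_singleton χ), Cfsg.Agent.Lib.Char.Ortho.char_inv_eq_conj (isCharacter_of_isIrrCharacter χ.2)]
  · intro ψ _ hψ
    rw [if_neg (by simpa using hψ)]
  · intro h0
    exact absurd (Finset.mem_univ _) h0

theorem coeff_zz_expand (ξ : (A →* ℂˣ) → IrrCharacter Γ) (g : A) (h : Γ) :
    ((zz ξ g : Subalgebra.center ℂ (GA Γ)) : GA Γ).coeff h =
      ∑ γ : A →* ℂˣ, ((γ g : ℂˣ) : ℂ) * ((Nat.card Γ : ℂ)⁻¹ * ((ξ γ : Γ → ℂ) 1 * (ξ γ : Γ → ℂ) h⁻¹)) := by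
  rw [zz]
  rw [show ((∑ γ : A →* ℂˣ, ((γ g : ℂˣ) : ℂ) • idem ({ξ γ} : Set (IrrCharacter Γ)) :
      Subalgebra.center ℂ (GA Γ)) : GA Γ) =
      ∑ γ : A →* ℂˣ, ((γ g : ℂˣ) : ℂ) • ((idem ({ξ γ} : Set (IrrCharacter Γ)) :
        Subalgebra.center ℂ (GA Γ)) : GA Γ) from by
    rw [AddSubmonoidClass.coe_finsetSum]
    rfl]
  rw [coeff_sum']
  refine Finset.sum_congr rfl fun γ _ => ?_
  rw [coeff_smul', coeff_idem_singleton]

section Main

variable {f : Set (IrrCharacter Γ)} {ξ : (A →* ℂˣ) → IrrCharacter Γ} {φ : A → Γ → ℂ} {d : ℂ}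
  (hT : TwData V f ξ φ d)

include hT

theorem omega_zz (γ₀ : A →* ℂˣ) (g : A) : omegaHom (ξ γ₀) (zz ξ g) = ((γ₀ g : ℂˣ) : ℂ) := by
  classical
  rw [zz, map_sum, Finset.sum_eq_single γ₀]
  · rw [map_smul, omegaHom_idem, if_pos (Set.mem_singleton _), smul_eq_mul, mul_one]
  · intro γ _ hγ
    rw [map_smul, omegaHom_idem, if_neg, smul_zero]
    intro h
    exact hγ (hT.inj h).symm
  · intro h0
    exact absurd (Finset.mem_univ _) h0

theorem omega_zz_of_not {χ : IrrCharacter Γ} (hχ : χ ∉ f) (g : A) : omegaHom χ (zz ξ g) = 0 := by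
  classical
  rw [zz, map_sum]
  refine Finset.sum_eq_zero fun γ _ => ?_
  rw [map_smul, omegaHom_idem, if_neg, smul_zero]
  intro h
  apply hχ
  rw [Set.mem_singleton_iff.mp h]
  exact hT.mem γ

theorem zz_mul (g g' : A) : zz ξ g * zz ξ g' = zz ξ (g * g') := by
  apply omegaHom_injective
  intro χ
  by_cases hχ : χ ∈ f
  · obtain ⟨γ, rfl⟩ := hT.surj χ hχ
    rw [map_mul, omega_zz hT, omega_zz hT, omega_zz hT, map_mul]
    rfl
  · rw [map_mul, omega_zz_of_not hT hχ, omega_zz_of_not hT hχ, omega_zz_of_not hT hχ, mul_zero]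

theorem zz_one : zz ξ (1 : A) = idem f := by
  classical
  apply omegaHom_injective
  intro χ
  rw [omegaHom_idem]
  by_cases hχ : χ ∈ f
  · obtain ⟨γ, rfl⟩ := hT.surj χ hχ
    rw [if_pos hχ, omega_zz hT, map_one]
    rfl
  · rw [if_neg hχ, omega_zz_of_not hT hχ]

theorem zz_idem (g : A) : zz ξ g * idem f = zz ξ g := by
  rw [← zz_one hT, zz_mul hT, mul_one]

theorem coeff_zz (g : A) (h : Γ) :
    ((zz ξ g : Subalgebra.center ℂ (GA Γ)) : GA Γ).coeff h =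
      (Nat.card A : ℂ) * d / Nat.card Γ * φ g⁻¹ h⁻¹ := by
  classical
  have hfacts := Cfsg.Agent.Lib.Glauberman.Act.dual_facts hT.hcomm
  have h1 : ((zz ξ g : Subalgebra.center ℂ (GA Γ)) : GA Γ).coeff h =
      ∑ γ : A →* ℂˣ, ((γ g : ℂˣ) : ℂ) * ((Nat.card Γ : ℂ)⁻¹ * ((ξ γ : Γ → ℂ) 1 * (ξ γ : Γ → ℂ) h⁻¹)) :=
    coeff_zz_expand ξ g h
  rw [h1]
  have h2 : ∀ γ : A →* ℂˣ, ((γ g : ℂˣ) : ℂ) * ((Nat.card Γ : ℂ)⁻¹ * ((ξ γ : Γ → ℂ) 1 * (ξ γ : Γ → ℂ) h⁻¹)) =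
      (Nat.card Γ : ℂ)⁻¹ * d * ∑ w : A, ((γ (g * w) : ℂˣ) : ℂ) * φ w h⁻¹ := by
    intro γ
    rw [hT.deg, hT.expand, Finset.mul_sum, Finset.mul_sum, Finset.mul_sum, Finset.mul_sum]
    refine Finset.sum_congr rfl fun w _ => ?_
    rw [map_mul, Units.val_mul]
    ring
  rw [Finset.sum_congr rfl fun γ _ => h2 γ, ← Finset.mul_sum, Finset.sum_comm]
  have h3 : ∀ w : A, ∑ γ : A →* ℂˣ, ((γ (g * w) : ℂˣ) : ℂ) * φ w h⁻¹ =
      (if g * w = 1 then (Nat.card A : ℂ) else 0) * φ w h⁻¹ := by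
    intro w
    rw [← Finset.sum_mul, Cfsg.Agent.Lib.Glauberman.Act.sum_dual hT.hcomm, hfacts.2.1]
  rw [Finset.sum_congr rfl fun w _ => h3 w, Finset.sum_eq_single g⁻¹]
  · rw [if_pos (by group)]
    ring
  · intro w _ hw
    rw [if_neg, zero_mul]
    intro h4
    exact hw (eq_inv_of_mul_eq_one_right h4)
  · intro h0
    exact absurd (Finset.mem_univ _) h0

theorem rv_zz (g : A) : RV V ((zz ξ g : Subalgebra.center ℂ (GA Γ)) : GA Γ) := fun h => by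
  rw [coeff_zz hT]
  exact V.mul_mem _ _ hT.kap (hT.loc _ _)

/-- The sum of the central elements. -/
theorem coeff_sum_zz (h : Γ) :
    (∑ g : A, ((zz ξ g : Subalgebra.center ℂ (GA Γ)) : GA Γ)).coeff h =
      (Nat.card A : ℂ) * d / Nat.card Γ * (ξ 1 : Γ → ℂ) h⁻¹ := by
  rw [coeff_sum']
  simp_rw [coeff_zz hT]
  rw [← Finset.mul_sum, hT.expand]
  congr 1
  simp only [MonoidHom.one_apply, Units.val_one, one_mul]
  exact Fintype.sum_equiv (Equiv.inv A) _ _ fun g => rfl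

/-- The corner is spanned by the multiples of `i`. -/
theorem corner_eq {M : Ideal AlgInt} {i : GA Γ} {J : Type*} {s : Finset J} {u w : J → GA Γ}
    (h : HCData M f i s u w) {a : GA Γ} (ha : i * a * i = a) :
    a = ∑ g : A, lin (φ g) a • ((zz ξ g : Subalgebra.center ℂ (GA Γ)) : GA Γ) * i := by
  classical
  rw [← sub_eq_zero]
  apply eq_zero_of_lin
  intro χ x
  by_cases hχ : χ ∈ f
  · obtain ⟨γ, rfl⟩ := hT.surj χ hχ
    have hc := isCharacter_of_isIrrCharacter (ξ γ).2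
    have hli := h.lin_one _ hχ
    rw [lin_swap, mul_sub, map_sub, lin_mul_corner hc h.ii hli ha, sub_eq_zero, Finset.mul_sum, map_sum]
    have h1 : ∀ g : A, lin (ξ γ : Γ → ℂ) (x * (lin (φ g) a • ((zz ξ g : Subalgebra.center ℂ (GA Γ)) : GA Γ) * i)) =
        lin (φ g) a * ((γ g : ℂˣ) : ℂ) * lin (ξ γ : Γ → ℂ) (x * i) := by
      intro g
      have e1 : x * (lin (φ g) a • ((zz ξ g : Subalgebra.center ℂ (GA Γ)) : GA Γ) * i) =
          lin (φ g) a • (((zz ξ g : Subalgebra.center ℂ (GA Γ)) : GA Γ) * (x * i)) := by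
        rw [smul_mul_assoc, mul_smul_comm, ← mul_assoc x, central_comm, mul_assoc]
      rw [e1, map_smul, lin_central_eq, omega_zz hT, smul_eq_mul, mul_assoc]
    rw [Finset.sum_congr rfl fun g _ => h1 g, ← Finset.sum_mul]
    congr 1
    have h2 : ∑ g : A, lin (φ g) a * ((γ g : ℂˣ) : ℂ) = ∑ y : Γ, a.coeff y * ∑ g : A, ((γ g : ℂˣ) : ℂ) * φ g y := by
      simp only [lin_apply, Finset.sum_mul, Finset.mul_sum]
      rw [Finset.sum_comm]
      refine Finset.sum_congr rfl fun y _ => Finset.sum_congr rfl fun g _ => ?_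
      ring
    rw [h2, lin_apply]
    refine Finset.sum_congr rfl fun y _ => ?_
    rw [hT.expand]
  · have h1 : ((idem f : Subalgebra.center ℂ (GA Γ)) : GA Γ) *
        ((a - ∑ g : A, lin (φ g) a • ((zz ξ g : Subalgebra.center ℂ (GA Γ)) : GA Γ) * i) * x) =
        (a - ∑ g : A, lin (φ g) a • ((zz ξ g : Subalgebra.center ℂ (GA Γ)) : GA Γ) * i) * x := by
      rw [← mul_assoc, mul_sub, e_mul_corner h ha, Finset.mul_sum]
      congr 2
      refine Finset.sum_congr rfl fun g _ => ?_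
      have h2 : ((idem f : Subalgebra.center ℂ (GA Γ)) : GA Γ) * ((zz ξ g : Subalgebra.center ℂ (GA Γ)) : GA Γ) =
          ((zz ξ g : Subalgebra.center ℂ (GA Γ)) : GA Γ) := by
        rw [← central_comm]
        exact congrArg Subtype.val (zz_idem hT g)
      rw [smul_mul_assoc, mul_smul_comm, ← mul_assoc, h2]
    rw [← h1, lin_idem_mul, if_neg hχ]

end Main

end Cfsg.Agent.Lib.Dade.LB
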