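import Mathlib
import Cfsg.Agent.Lib.Dade.LB
import Cfsg.Agent.Lib.D1.Modl
import Cfsg.Agent.Lib.BlockP.Stable

/-!
# The structure of the reduced block algebra
-/

set_option autoImplicit false
set_option linter.unusedSectionVars false
set_option linter.style.haveILetI false

namespace Cfsg.Agent.Lib.Dade.LC

open Cfsg MonoidAlgebra Cfsg.Agent.Lib.D1.Res Cfsg.Agent.Lib.BlockAlg Cfsg.Agent.Lib.Dade.LA Cfsg.Agent.Lib.Dade.LB
open Cfsg.Agent.Lib.Dade.MA
open Cfsg.Agent.Lib.Blocks.Local Cfsg.Agent.Lib.Blocks.Central Cfsg.Agent.Lib.Blocks.Brauer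
open Cfsg.Agent.Lib.BK.Coef Cfsg.Agent.Lib.BK.HC
open Cfsg.Agent.Lib.Char.Basic Cfsg.Agent.Lib.Char.Complete
open scoped BigOperators ComplexConjugate

universe u v

variable {Γ : Type u} [Group Γ] [Fintype Γ] [Fintype (IrrCharacter Γ)] {V : ValuationSubring ℂ}
  {A : Type v} [Group A] [Fintype A] [Fintype (A →* ℂˣ)]

theorem rd_central {x : GA Γ} (hx : IsCentral x) (y : MonoidAlgebra (K V) Γ) : y * rd V x = rd V x * y := by
  apply central_of_coeff
  intro g h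
  rw [coeff_rd, coeff_rd, hx]

/-- The reduced idempotent. -/
noncomputable abbrev eb (V : ValuationSubring ℂ) (f : Set (IrrCharacter Γ)) : MonoidAlgebra (K V) Γ :=
  rd V ((idem f : Subalgebra.center ℂ (GA Γ)) : GA Γ)

/-- The reduced central elements. -/
noncomputable abbrev zb (V : ValuationSubring ℂ) (ξ : (A →* ℂˣ) → IrrCharacter Γ) (g : A) : MonoidAlgebra (K V) Γ :=
  rd V ((zz ξ g : Subalgebra.center ℂ (GA Γ)) : GA Γ)

/-- The generator. -/
noncomputable def ub (V : ValuationSubring ℂ) (f : Set (IrrCharacter Γ)) (ξ : (A →* ℂˣ) → IrrCharacter Γ) (g₀ : A) :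
    MonoidAlgebra (K V) Γ := zb V ξ g₀ + (1 - eb V f)

/-- The radical. -/
noncomputable def Ub (V : ValuationSubring ℂ) (f : Set (IrrCharacter Γ)) (ξ : (A →* ℂˣ) → IrrCharacter Γ) (g₀ : A) :
    MonoidAlgebra (K V) Γ := ub V f ξ g₀ - 1

theorem Ub_eq {f : Set (IrrCharacter Γ)} {ξ : (A →* ℂˣ) → IrrCharacter Γ} {g₀ : A} :
    Ub V f ξ g₀ = zb V ξ g₀ - eb V f := by
  rw [Ub, ub]
  abel

section Main

variable {M : Ideal AlgInt} [M.IsPrime] {f : Set (IrrCharacter Γ)} {ξ : (A →* ℂˣ) → IrrCharacter Γ}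
  {φ : A → Γ → ℂ} {d : ℂ} {i : GA Γ} {J : Type*} {s : Finset J} {u w : J → GA Γ} {g₀ : A}
  (hV : ∀ z, MemLocalRing M z → z ∈ V) (hf : IsPBlock M f) (hT : TwData V f ξ φ d) (hH : HCData M f i s u w)

section Base

include hV hf

theorem rv_idem : RV V ((idem f : Subalgebra.center ℂ (GA Γ)) : GA Γ) :=
  RV.of_rc hV (Rc.of_localCenter (idem_mem_localCenter hf))

theorem eb_mul_self : eb V f * eb V f = eb V f := by
  rw [eb, ← rd_mul (rv_idem hV hf) (rv_idem hV hf)]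
  congr 1
  exact congrArg Subtype.val (Cfsg.Agent.Lib.Blocks.Weak.idem_mul_self f)

omit hV hf in
theorem eb_cen (x : MonoidAlgebra (K V) Γ) : x * eb V f = eb V f * x :=
  rd_central (isCentral_of_mem _) x

omit hV hf in
theorem zb_cen (g : A) (x : MonoidAlgebra (K V) Γ) : x * zb V ξ g = zb V ξ g * x :=
  rd_central (isCentral_of_mem _) x

include hT

theorem zb_mul (g g' : A) : zb V ξ g * zb V ξ g' = zb V ξ (g * g') := by
  rw [zb, zb, ← rd_mul (rv_zz hT g) (rv_zz hT g')]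
  congr 1
  exact congrArg Subtype.val (zz_mul hT g g')

theorem zb_one : zb V ξ (1 : A) = eb V f := by
  rw [zb, zz_one hT]

theorem zb_eb (g : A) : zb V ξ g * eb V f = zb V ξ g := by
  rw [zb, eb, ← rd_mul (rv_zz hT g) (rv_idem hV hf)]
  congr 1
  exact congrArg Subtype.val (zz_idem hT g)

theorem ub_pow (n : ℕ) : ub V f ξ g₀ ^ n = zb V ξ (g₀ ^ n) + (1 - eb V f) := by
  induction n with
  | zero =>
    rw [pow_zero, pow_zero, zb_one hV hf hT]
    abel
  | succ n ih =>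
    rw [pow_succ, ih, ub, pow_succ, add_mul, mul_add, mul_add, zb_mul hV hf hT]
    have h1 : ∀ g : A, zb V ξ g * (1 - eb V f) = 0 := by
      intro g
      rw [mul_sub, mul_one, zb_eb hV hf hT, sub_self]
    have h2 : (1 - eb V f) * zb V ξ g₀ = 0 := by
      rw [zb_cen, h1]
    have h3 : (1 - eb V f) * (1 - eb V f) = 1 - eb V f := by
      rw [mul_sub, mul_one, sub_mul, one_mul, eb_mul_self hV hf, sub_self, sub_zero]
    rw [h1, h2, h3, add_zero, zero_add]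

theorem Ub_mul_geom (a : ℕ) :
    Ub V f ξ g₀ * ∑ j ∈ Finset.range a, ub V f ξ g₀ ^ j = zb V ξ (g₀ ^ a) - eb V f := by
  rw [Ub, mul_geom_sum, ub_pow hV hf hT]
  abel

end Base

section Core

variable {p : ℕ} [Fact p.Prime] [CharP (K V) p] {n : ℕ}

theorem U_mul_mem' {k B : Type*} [Field k] [Ring B] [Algebra k B] {U P y : B} (hy : y ∈ WW k U P) :
    U * y ∈ WW k U P := by
  unfold WW at hy
  induction hy using Submodule.span_induction with
  | mem y hy =>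
    obtain ⟨i, rfl⟩ := hy
    refine Submodule.subset_span ⟨i + 1, ?_⟩
    simp only
    rw [pow_succ', mul_assoc]
  | zero => simp
  | add y z _ _ hy hz =>
    rw [mul_add]
    exact Submodule.add_mem _ hy hz
  | smul c y _ hy =>
    rw [mul_smul_comm]
    exact Submodule.smul_mem _ _ hy

theorem sum_range_pow {X : Type*} [AddCommMonoid X] (hg₀ : ∀ g : A, g ∈ Subgroup.zpowers g₀) (F : A → X) :
    ∑ j ∈ Finset.range (Nat.card A), F (g₀ ^ j) = ∑ g : A, F g := by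
  classical
  have ho : orderOf g₀ = Nat.card A := orderOf_eq_card_of_forall_mem_zpowers hg₀
  rw [← ho]
  refine Finset.sum_bij (fun j _ => g₀ ^ j) (fun _ _ => Finset.mem_univ _) ?_ ?_ (fun _ _ => rfl)
  · intro a ha b hb hab
    exact pow_injOn_Iio_orderOf (by simpa using ha) (by simpa using hb) hab
  · intro g _
    obtain ⟨m, hm⟩ := (mem_powers_iff_mem_zpowers).mpr (hg₀ g)
    refine ⟨m % orderOf g₀, ?_, ?_⟩
    · rw [Finset.mem_range]
      exact Nat.mod_lt _ (orderOf_pos _)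
    · simpa [pow_mod_orderOf] using hm

include hV hf hT hH

theorem rv_i : RV V i := by
  obtain ⟨χ₀, hχ₀⟩ := isPBlock_nonempty hf
  have h1 := one_eq_card hH hχ₀
  have h2 : s.Nonempty := by
    rw [Finset.nonempty_iff_ne_empty]
    rintro rfl
    simp only [Finset.card_empty, Nat.cast_zero] at h1
    exact irr_one_ne_zero χ₀.2 h1
  obtain ⟨j, hj⟩ := h2
  rw [← hH.wu j hj]
  exact (RV.of_rc hV (hH.rc_w j hj)).mul (RV.of_rc hV (hH.rc_u j hj))

theorem eb_mul_P : eb V f * rd V i = rd V i := by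
  rw [eb, ← rd_mul (rv_idem hV hf) (rv_i hV hf hT hH), e_mul_i hH]

theorem ub_pow_mul_P (m : ℕ) : ub V f ξ g₀ ^ m * rd V i = zb V ξ (g₀ ^ m) * rd V i := by
  rw [ub_pow hV hf hT, add_mul, sub_mul, one_mul, eb_mul_P hV hf hT hH, sub_self, add_zero]

theorem zb_mul_P_mem (hg₀ : ∀ g : A, g ∈ Subgroup.zpowers g₀) (g : A) :
    zb V ξ g * rd V i ∈ WW (K V) (Ub V f ξ g₀) (rd V i) := by
  obtain ⟨m, rfl⟩ := (mem_powers_iff_mem_zpowers).mpr (hg₀ g)
  rw [← ub_pow_mul_P hV hf hT hH]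
  induction m with
  | zero =>
    rw [pow_zero, one_mul]
    exact Submodule.subset_span ⟨0, by simp⟩
  | succ m ih =>
    rw [pow_succ', mul_assoc]
    have h1 : ub V f ξ g₀ = Ub V f ξ g₀ + 1 := by
      rw [Ub]
      abel
    have h2 : ub V f ξ g₀ * (ub V f ξ g₀ ^ m * rd V i) =
        Ub V f ξ g₀ * (ub V f ξ g₀ ^ m * rd V i) + ub V f ξ g₀ ^ m * rd V i := by
      rw [Ub, sub_mul, one_mul, sub_add_cancel]
    rw [h2]
    exact Submodule.add_mem _ (U_mul_mem' ih) ih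

theorem rv_xi (γ : A →* ℂˣ) (g : Γ) : ((ξ γ : IrrCharacter Γ) : Γ → ℂ) g ∈ V :=
  Cfsg.Agent.Lib.D1.Modl.mem_of_isIntegral (Cfsg.Agent.Lib.BlockP.Stable.isIntegral_irr _ g)

theorem top_ne (hcard : Nat.card A = p ^ n) (hg₀ : ∀ g : A, g ∈ Subgroup.zpowers g₀) :
    Ub V f ξ g₀ ^ (Nat.card A - 1) * rd V i ≠ 0 := by
  classical
  intro h0
  have hrvi := rv_i hV hf hT hH
  have h1 : Ub V f ξ g₀ ^ (Nat.card A - 1) = ∑ j ∈ Finset.range (Nat.card A), ub V f ξ g₀ ^ j := by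
    rw [hcard, Ub]
    exact (Cfsg.Agent.Lib.ModTI.Cyclic.geom_sum_eq_pow_sub_one (F := K V) p n _).symm
  have hrvs : RV V (∑ g : A, ((zz ξ g : Subalgebra.center ℂ (GA Γ)) : GA Γ)) :=
    RV.sum _ _ fun g _ => rv_zz hT g
  have h2 : Ub V f ξ g₀ ^ (Nat.card A - 1) * rd V i =
      rd V ((∑ g : A, ((zz ξ g : Subalgebra.center ℂ (GA Γ)) : GA Γ)) * i) := by
    rw [rd_mul hrvs hrvi, rd_sum _ _ fun g _ => rv_zz hT g, h1, Finset.sum_mul, Finset.sum_mul,
      Finset.sum_congr rfl fun j _ => ub_pow_mul_P hV hf hT hH j]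
    exact sum_range_pow hg₀ fun g => zb V ξ g * rd V i
  rw [h2] at h0
  have h3 : red V (((∑ g : A, ((zz ξ g : Subalgebra.center ℂ (GA Γ)) : GA Γ)) * i).coeff 1) = 0 := by
    have h30 := congrArg (fun t : MonoidAlgebra (K V) Γ => t.coeff 1) h0
    simp only [coeff_rd] at h30
    exact h30
  have h4 : ((∑ g : A, ((zz ξ g : Subalgebra.center ℂ (GA Γ)) : GA Γ)) * i).coeff 1 =
      (Nat.card A : ℂ) * d / Nat.card Γ := by
    rw [coeff_mul_sum]
    simp_rw [coeff_sum_zz hT, mul_one]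
    have h5 := hH.lin_one _ (hT.mem 1)
    rw [lin_apply] at h5
    have h6 : ∑ x : Γ, (Nat.card A : ℂ) * d / Nat.card Γ * ((ξ 1 : IrrCharacter Γ) : Γ → ℂ) x⁻¹ * i.coeff x⁻¹ =
        (Nat.card A : ℂ) * d / Nat.card Γ * ∑ g : Γ, i.coeff g * ((ξ 1 : IrrCharacter Γ) : Γ → ℂ) g := by
      rw [Finset.mul_sum]
      refine Fintype.sum_equiv (Equiv.inv Γ) _ _ fun x => ?_
      simp only [Equiv.inv_apply]
      ring
    rw [h6, h5, mul_one]
  rw [h4] at h3
  have hd0 : d ≠ 0 := by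
    rw [← hT.deg 1]
    exact irr_one_ne_zero (ξ 1).2
  have hA0 : (Nat.card A : ℂ) ≠ 0 := by exact_mod_cast Nat.card_pos.ne'
  have hΓ0 : (Nat.card Γ : ℂ) ≠ 0 := by exact_mod_cast Nat.card_pos.ne'
  have h7 : (Nat.card A : ℂ) * d / Nat.card Γ * ((Nat.card Γ : ℂ) / ((Nat.card A : ℂ) * d)) = 1 := by
    field_simp
  have h8 := congrArg (red V) h7
  rw [red_mul hT.kap hT.kapu, h3, zero_mul, Cfsg.Agent.Lib.D1.Res.red_one] at h8
  exact zero_ne_one h8

/-- **The structure of the reduced block algebra.** -/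
theorem core (hcard : Nat.card A = p ^ n) (hq : 2 ≤ Nat.card A) (hg₀ : ∀ g : A, g ∈ Subgroup.zpowers g₀) :
    Core (Nat.card A) (eb V f) (Ub V f ξ g₀) (rd V i) (thF V ((ξ 1 : IrrCharacter Γ) : Γ → ℂ)) s
      (fun j => rd V (u j)) (fun j => rd V (w j)) := by
  classical
  have hrvi := rv_i hV hf hT hH
  have hξ := rv_xi hV hf hT hH (1 : A →* ℂˣ)
  have hucen : ∀ x, x * Ub V f ξ g₀ = Ub V f ξ g₀ * x := by
    intro x
    rw [Ub_eq, mul_sub, sub_mul, zb_cen, eb_cen]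
  refine ⟨hq, eb_mul_self hV hf, eb_cen, hucen, ?_, ?_, ?_, eb_mul_P hV hf hT hH, ?_, ?_, ?_, ?_, ?_, ?_, ?_, ?_⟩
  · rw [Ub_eq, mul_sub, eb_mul_self hV hf, ← eb_cen, zb_eb hV hf hT]
  · have h1 : Ub V f ξ g₀ ^ Nat.card A = ub V f ξ g₀ ^ Nat.card A - 1 := by
      have h2 : Ub V f ξ g₀ ^ (Nat.card A - 1) = ∑ j ∈ Finset.range (Nat.card A), ub V f ξ g₀ ^ j := by
        rw [hcard, Ub]
        exact (Cfsg.Agent.Lib.ModTI.Cyclic.geom_sum_eq_pow_sub_one (F := K V) p n _).symm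
      have h3 : Nat.card A = (Nat.card A - 1) + 1 := by omega
      conv_lhs => rw [h3, pow_succ, h2]
      rw [Ub, geom_sum_mul]
    rw [h1, ub_pow hV hf hT, pow_card_eq_one', zb_one hV hf hT]
    abel
  · rw [← rd_mul hrvi hrvi, hH.ii]
  · intro j hj
    rw [← rd_mul (RV.of_rc hV (hH.rc_u j hj)) hrvi, hH.ui j hj]
  · intro j hj
    rw [← rd_mul hrvi (RV.of_rc hV (hH.rc_w j hj)), hH.iw j hj]
  · have h1 : ∀ j ∈ s, rd V (u j) * rd V (w j) = rd V (u j * w j) := fun j hj =>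
      (rd_mul (RV.of_rc hV (hH.rc_u j hj)) (RV.of_rc hV (hH.rc_w j hj))).symm
    rw [Finset.sum_congr rfl h1, ← rd_sum _ _ fun j hj =>
      (RV.of_rc hV (hH.rc_u j hj)).mul (RV.of_rc hV (hH.rc_w j hj)), hH.sum]
  · intro x y
    obtain ⟨x', hx', rfl⟩ := exists_lift x
    obtain ⟨y', hy', rfl⟩ := exists_lift y
    rw [← rd_mul hx' hy', ← rd_mul hy' hx', thF_rd hξ (hx'.mul hy'), thF_rd hξ (hy'.mul hx'), lin_swap]
  · rw [thF_rd hξ hrvi, hH.lin_one _ (hT.mem 1), Cfsg.Agent.Lib.D1.Res.red_one]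
  · intro x
    obtain ⟨x', hx', rfl⟩ := exists_lift x
    have hrvz := (rv_zz hT g₀).sub (rv_idem hV hf)
    rw [Ub_eq, zb, eb, ← rd_sub (rv_zz hT g₀) (rv_idem hV hf), ← rd_mul hrvz hx', thF_rd hξ (hrvz.mul hx')]
    have h1 : ((zz ξ g₀ : Subalgebra.center ℂ (GA Γ)) : GA Γ) - ((idem f : Subalgebra.center ℂ (GA Γ)) : GA Γ) =
        ((zz ξ g₀ - idem f : Subalgebra.center ℂ (GA Γ)) : GA Γ) := rfl
    rw [h1, lin_central_eq, map_sub, omega_zz hT, omegaHom_idem, if_pos (hT.mem 1)]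
    simp [Cfsg.Agent.Lib.D1.Res.red_zero]
  · intro x
    obtain ⟨x', hx', rfl⟩ := exists_lift x
    have ha : i * (i * x' * i) * i = i * x' * i := by
      calc i * (i * x' * i) * i = (i * i) * x' * (i * i) := by simp only [mul_assoc]
        _ = _ := by rw [hH.ii]
    have hrva : RV V (i * x' * i) := (hrvi.mul hx').mul hrvi
    rw [← rd_mul hrvi hx', ← rd_mul (hrvi.mul hx') hrvi, corner_eq hT hH ha]
    have hterm : ∀ g : A, RV V (lin (φ g) (i * x' * i) • ((zz ξ g : Subalgebra.center ℂ (GA Γ)) : GA Γ) * i) :=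
      fun g => (RV.smul (lin_mem (hT.loc g) hrva) (rv_zz hT g)).mul hrvi
    rw [rd_sum _ _ fun g _ => hterm g]
    refine Submodule.sum_mem _ fun g _ => ?_
    rw [rd_mul (RV.smul (lin_mem (hT.loc g) hrva) (rv_zz hT g)) hrvi, rd_smul (lin_mem (hT.loc g) hrva) (rv_zz hT g),
      smul_mul_assoc]
    exact Submodule.smul_mem _ _ (zb_mul_P_mem hV hf hT hH hg₀ g)
  · exact top_ne hV hf hT hH hcard hg₀

end Core

end Main

end Cfsg.Agent.Lib.Dade.LC
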