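import Mathlib
import Cfsg.Agent.Lib.Dade.Tw
import Cfsg.Agent.Lib.Dade.LC
import Cfsg.Agent.Lib.BK.Main

/-!
# The block algebra of the nilpotent block below a maximal pair with cyclic defect group
-/

set_option linter.unusedSectionVars false
set_option linter.style.haveILetI false
set_option autoImplicit false

namespace Cfsg.Agent.Lib.Dade.Loc

open Cfsg MonoidAlgebra
open Cfsg.Agent.Lib.Blocks.Local Cfsg.Agent.Lib.Blocks.Central Cfsg.Agent.Lib.Blocks.Brauer
open Cfsg.Agent.Lib.BlockH.Transport Cfsg.Agent.Lib.BlockH.Subpair Cfsg.Agent.Lib.BlockH.SubpairLE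
open Cfsg.Agent.Lib.BlockH.ConjPair Cfsg.Agent.Lib.BlockH.Descent Cfsg.Agent.Lib.BlockH.MaxPair
open Cfsg.Agent.Lib.BlockH.InducedPairs Cfsg.Agent.Lib.BlockH.AbelianDefect
open Cfsg.Agent.Lib.BP.Cj Cfsg.Agent.Lib.BP.MIS
open Cfsg.Agent.Lib.BP.StarDefs Cfsg.Agent.Lib.BP.Star1
open Cfsg.Agent.Lib.BP.Star2 Cfsg.Agent.Lib.BP.Star3 Cfsg.Agent.Lib.BP.Rob1 Cfsg.Agent.Lib.BP.Rob2
open Cfsg.Agent.Lib.BP.Nil1 Cfsg.Agent.Lib.BP.Nil2 Cfsg.Agent.Lib.BP.Nil3 Cfsg.Agent.Lib.BP.Nil4
open Cfsg.Agent.Lib.Contrib.Section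
open Cfsg.Agent.Lib.Char.Basic Cfsg.Agent.Lib.Char.Complete Cfsg.Agent.Lib.Char.Ortho Cfsg.Agent.Lib.Char.GenLattice
open Cfsg.Agent.Lib.Char.Degree
open Cfsg.Agent.Lib.Dade.Base Cfsg.Agent.Lib.Dade.NilDual Cfsg.Agent.Lib.Dade.Gen
open Cfsg.Agent.Lib.Dade.LA Cfsg.Agent.Lib.Dade.LB Cfsg.Agent.Lib.Dade.LC Cfsg.Agent.Lib.D1.Res
open Cfsg.Agent.Lib.BK.HC
open scoped ComplexConjugate

universe u

variable {G : Type u} [Group G] [Fintype G] {p : ℕ} {M : Ideal AlgInt} [Fact p.Prime]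

attribute [local instance] fK fIrr fBl

variable {B : Set (IrrCharacter G)} {D : Subgroup G} {c : Set (IrrCharacter (Subgroup.centralizer (D : Set G)))}

/-- The inverse of the factor attached to a character of height zero is local. -/
theorem kappa_inv_local {P : Subgroup G} (hM : IsPModular p M) (hB : IsPBlock M B) (hD : IsDefectGroup p M B P)
    {χ : IrrCharacter G}
    (hs : (charDegree (χ : G → ℂ)).factorization p =
      sInf ((fun ψ : IrrCharacter G => (charDegree (ψ : G → ℂ)).factorization p) '' B)) :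
    MemLocalRing M ((Nat.card G : ℂ) / ((χ : G → ℂ) 1 * Nat.card P)) := by
  classical
  haveI := isPrime_of_pModular hM
  have hp : p.Prime := Fact.out
  have hcard := Cfsg.Agent.Lib.Blocks.Inducing.card_eq_pow_blockDefect hM hB hD
  rw [blockDefect, ← hs] at hcard
  set n := charDegree (χ : G → ℂ) with hn
  have hn0 : n ≠ 0 := (Cfsg.Agent.Lib.Char.Degree.charDegree_pos χ.2).ne'
  have hG0 : Nat.card G ≠ 0 := Nat.card_pos.ne'
  have hdvd : n ∣ Nat.card G := charDegree_dvd_card χ.2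
  have hF : n.factorization p ≤ (Nat.card G).factorization p := (Nat.factorization_le_iff_dvd hn0 hG0).mpr hdvd p
  have h1 := Nat.ordProj_mul_ordCompl_eq_self n p
  have h2 := Nat.ordProj_mul_ordCompl_eq_self (Nat.card G) p
  have hm := Nat.not_dvd_ordCompl hp hn0
  set n' := n / p ^ n.factorization p with hn'
  set m := Nat.card G / p ^ (Nat.card G).factorization p with hm'
  have hχ1 : (χ : G → ℂ) 1 = n := (charDegree_natCast (isCharacter_of_isIrrCharacter χ.2)).symm
  have e1 : (Nat.card G : ℂ) / ((χ : G → ℂ) 1 * Nat.card P) = (m : ℂ) * (n' : ℂ)⁻¹ := by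
    have hpc : (p : ℂ) ≠ 0 := by exact_mod_cast hp.ne_zero
    have hmc : (n' : ℂ) ≠ 0 := by
      intro h0
      have : n' = 0 := by exact_mod_cast h0
      rw [this] at hm
      exact hm (dvd_zero p)
    have hGc : (Nat.card G : ℂ) = (p : ℂ) ^ (Nat.card G).factorization p * m := by
      rw [← Nat.cast_pow, ← Nat.cast_mul, h2]
    have hnc : (n : ℂ) = (p : ℂ) ^ n.factorization p * n' := by
      rw [← Nat.cast_pow, ← Nat.cast_mul, h1]
    have hPc : (Nat.card P : ℂ) = (p : ℂ) ^ ((Nat.card G).factorization p - n.factorization p) := by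
      rw [hcard]
      push_cast
      rfl
    have hpow : (p : ℂ) ^ n.factorization p * (p : ℂ) ^ ((Nat.card G).factorization p - n.factorization p) =
        (p : ℂ) ^ (Nat.card G).factorization p := by
      rw [← pow_add, Nat.add_sub_cancel' hF]
    rw [hχ1, hnc, hPc, hGc]
    have hpp : (p : ℂ) ^ (Nat.card G).factorization p ≠ 0 := pow_ne_zero _ hpc
    have hpp2 : (p : ℂ) ^ n.factorization p ≠ 0 := pow_ne_zero _ hpc
    have hpp3 : (p : ℂ) ^ ((Nat.card G).factorization p - n.factorization p) ≠ 0 := pow_ne_zero _ hpc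
    rw [← hpow]
    field_simp
  rw [e1]
  exact memLocalRing_mul (memLocalRing_natCast m) (memLocalRing_natCast_inv hM hm)

namespace Data

variable (L : Data p M B D c) {V : ValuationSubring ℂ}

open Classical in
/-- The function of a point. -/
noncomputable def delta (w : D) : L.D' → ℂ := fun x => if L.iot x = w then 1 else 0

/-- The star function of a point. -/
noncomputable def phi (ξ₀ : IrrCharacter L.H) (w : D) (h : L.H) : ℂ :=
  starFun p M L.c' (L.delta w) (ξ₀ : L.H → ℂ) h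

theorem stableL (lam : L.D' → ℂ) : IsStableLam p M L.c' lam :=
  NilDual.stable L.hM L.hm L.hnil L.hab' lam

theorem homFun_toD'_eq (γ : D →* ℂˣ) : homFun (L.toD' γ) = fun x => ∑ w : D, ((γ w : ℂˣ) : ℂ) * L.delta w x := by
  classical
  funext x
  rw [Finset.sum_eq_single (L.iot x)]
  · simp [delta, toD'_apply]
  · intro w _ hw
    simp [delta, Ne.symm hw]
  · intro h0
    exact absurd (Finset.mem_univ _) h0

theorem tw_expand (γ : D →* ℂˣ) (ξ₀ : IrrCharacter L.H) (x : L.H) :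
    L.tw γ (ξ₀ : L.H → ℂ) x = ∑ w : D, ((γ w : ℂˣ) : ℂ) * L.phi ξ₀ w x := by
  rw [tw, homFun_toD'_eq]
  exact starFun_sum _ _ _ (fun w _ => L.stableL _) _ x

theorem phi_mem (hV : ∀ z, MemLocalRing M z → z ∈ V) (ξ₀ : IrrCharacter L.H) (w : D) (x : L.H) :
    L.phi ξ₀ w x ∈ V := by
  classical
  haveI := isPrime_of_pModular L.hM
  rw [phi, starFun, secSum]
  refine sum_mem' _ _ fun b _ => V.mul_mem _ _ ?_ ?_
  · by_cases hu : ∃ t, IsUnder p M L.c' (pPt p x) b.1 t
    · obtain ⟨t, ht⟩ := hu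
      rw [Wt_eq (L.stableL _) ht, delta]
      split_ifs
      · exact V.one_mem
      · exact V.zero_mem
    · rw [Wt_of_not hu]
      exact V.zero_mem
  · refine lin_mem (fun g => Cfsg.Agent.Lib.D1.Modl.mem_of_isIntegral (Cfsg.Agent.Lib.BlockP.Stable.isIntegral_irr _ g)) ?_
    exact (RV.single x V.one_mem).mul (RV.of_rc hV (rc_subIdem _ b.2))

theorem card_D' : Nat.card L.D' = Nat.card D := Nat.card_congr L.iot.toEquiv

theorem isDefect : IsDefectGroup p M L.f L.D' := isDefectGroup_of_isMaximal L.hM L.hm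

/-- The parametrization of the block. -/
theorem twData (hV : ∀ z, MemLocalRing M z → z ∈ V) {ξ₀ : IrrCharacter L.H} (hξ₀ : ξ₀ ∈ L.f) :
    TwData V L.f (fun γ : D →* ℂˣ => L.twI γ hξ₀) (L.phi ξ₀) ((ξ₀ : L.H → ℂ) 1) := by
  classical
  haveI := isPrime_of_pModular L.hM
  have hs := (all_height_zero L.hM L.hm L.hnil L.hab' hξ₀).2
  refine ⟨fun a b => Subtype.ext (L.hab _ a.2 _ b.2), fun γ => L.twI_mem γ hξ₀, fun χ hχ => L.exists_tw_eq hξ₀ hχ,
    fun γ γ' h => L.tw_inj hξ₀ (congrArg Subtype.val h), fun γ x => L.tw_expand γ ξ₀ x, L.phi_mem hV ξ₀, fun γ => ?_, ?_, ?_⟩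
  · rw [coe_twI, L.tw_regular γ hξ₀ (by
      rw [orderOf_one]
      exact (Fact.out : p.Prime).one_lt.ne' ∘ Nat.dvd_one.mp)]
  · have h1 := kappa_local L.hM L.hf L.isDefect hs
    rw [L.card_D', mul_comm] at h1
    exact hV _ h1
  · have h1 := kappa_inv_local L.hM L.hf L.isDefect hs
    rw [L.card_D', mul_comm ((ξ₀ : L.H → ℂ) 1)] at h1
    exact hV _ h1

/-- The matrix units. -/
theorem exists_hc : ∃ (i : GA L.H) (s : Finset (GA L.H)) (u w : GA L.H → GA L.H), HCData M L.f i s u w := by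
  classical
  haveI := isPrime_of_pModular L.hM
  obtain ⟨d, hd⟩ := Cfsg.Agent.Lib.BK.Main.same_degree_of_nilpotent L.hM L.isDefect
    (fun x y => Subtype.ext (L.hab' _ x.2 _ y.2)) L.hnil
  exact Cfsg.Agent.Lib.BK.Equal.exists_hcData L.hM L.hf hd

include L in
theorem exists_gen : ∃ g₀ : D, ∀ g : D, g ∈ Subgroup.zpowers g₀ := by
  haveI := L.hcyc
  exact IsCyclic.exists_generator

include L in
theorem two_le_card : 2 ≤ Nat.card D := by
  have := (Subgroup.one_lt_card_iff_ne_bot D).mpr L.hD1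
  omega

end Data

end Cfsg.Agent.Lib.Dade.Loc
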