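import Mathlib
import Cfsg.Agent.Lib.ModTI.Trace
import Cfsg.Agent.Lib.ModRep.Count

/-!
# The relative trace from a subgroup containing a trivial intersection subgroup
-/

set_option autoImplicit false
set_option linter.unusedSectionVars false

namespace Cfsg.Agent.Lib.Dade.MTr

open Module
open scoped BigOperators

variable {G F V : Type*} [Group G] [Finite G] [Field F] [AddCommGroup V] [Module F V]

/-- The tower of coset sums. -/
theorem sum_tower {A : Type*} [AddCommMonoid A] {D H : Subgroup G} (hDH : D ≤ H) [Fintype (G ⧸ D)] [Fintype (G ⧸ H)]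
    [Fintype (H ⧸ D.subgroupOf H)] (c : G → A) (hc : ∀ g, ∀ d ∈ D, c (g * d) = c g) :
    ∑ q : G ⧸ D, c q.out = ∑ a : G ⧸ H, ∑ b : H ⧸ D.subgroupOf H, c (a.out * (b.out : H)) := by
  classical
  have h0 : ∀ g : G, c (g : G ⧸ D).out = c g := by
    intro g
    have h1 : ((g : G ⧸ D).out)⁻¹ * g ∈ D := QuotientGroup.eq.mp (Quotient.out_eq (g : G ⧸ D))
    have h2 : g = (g : G ⧸ D).out * (((g : G ⧸ D).out)⁻¹ * g) := by group
    conv_rhs => rw [h2]
    rw [hc _ _ h1]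
  rw [← Equiv.sum_comp (Subgroup.quotientEquivProdOfLE hDH).symm, Fintype.sum_prod_type]
  refine Finset.sum_congr rfl fun a _ => Finset.sum_congr rfl fun b _ => ?_
  have h1 : (Subgroup.quotientEquivProdOfLE hDH).symm (a, b) = ((a.out * (b.out : H) : G) : G ⧸ D) := by
    conv_lhs => rw [← Quotient.out_eq b]
    rfl
  rw [h1, h0]

variable (ρ : Representation F G V)

theorem rho_mul_inv (g : G) : ρ g * ρ g⁻¹ = 1 := by rw [← map_mul, mul_inv_cancel, map_one]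

theorem rho_inv_mul (g : G) : ρ g⁻¹ * ρ g = 1 := by rw [← map_mul, inv_mul_cancel, map_one]

/-- **The relative trace decomposition.** -/
theorem exists_trace_decomp (H N Nz D : Subgroup G) (hDH : D ≤ H) (hHN : H ≤ Nz) (hNN : N ≤ Nz)
    (hfree : ∀ g : G, g ∉ Nz → ∀ d ∈ D, g⁻¹ * d * g ∈ D → d = 1)
    [Fintype (G ⧸ H)] [Fintype (H ⧸ D.subgroupOf H)] [Fintype H]
    (A₀ E : End F V) (hA₀ : ∀ d ∈ D, ρ d * A₀ = A₀ * ρ d)
    (hE : E = ∑ b : H ⧸ D.subgroupOf H, ρ (b.out : H) * A₀ * ρ ((b.out : H) : G)⁻¹)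
    (hEN : ∀ n ∈ N, ρ n * E = E * ρ n)
    (hoff : ∀ g ∈ Nz, g ∉ N → E * (ρ g * E * ρ g⁻¹) = 0)
    (Y : End F V) (hY : ∀ h ∈ H, ρ h * Y = Y * ρ h) (hEY : E * Y = Y) [DecidablePred (· ∈ N)] :
    ∃ T f : End F V, (∀ g : G, ρ g * T = T * ρ g) ∧
      E * T = ∑ a : G ⧸ H, (if a.out ∈ N then ρ a.out * Y * ρ a.out⁻¹ else 0) +
        ∑ h : H, ρ (h : G) * f * ρ (h : G)⁻¹ := by
  classical
  letI : Fintype (G ⧸ D) := Fintype.ofFinite _
  letI : Fintype D := Fintype.ofFinite _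
  letI : Fintype (D.subgroupOf H) := Fintype.ofFinite _
  have hρ1 := rho_mul_inv ρ
  have hρ2 := rho_inv_mul ρ
  have hDN : D ≤ Nz := hDH.trans hHN
  let c : G → End F V := fun g => ρ g * (A₀ * Y) * ρ g⁻¹
  have hcY : ∀ d ∈ D, ρ d * (A₀ * Y) = (A₀ * Y) * ρ d := by
    intro d hd
    rw [← mul_assoc, hA₀ d hd, mul_assoc, hY d (hDH hd), mul_assoc]
  have hc : ∀ g, ∀ d ∈ D, c (g * d) = c g := by
    intro g d hd
    change ρ (g * d) * (A₀ * Y) * ρ (g * d)⁻¹ = ρ g * (A₀ * Y) * ρ g⁻¹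
    rw [mul_inv_rev, map_mul, map_mul]
    calc ρ g * ρ d * (A₀ * Y) * (ρ d⁻¹ * ρ g⁻¹) = ρ g * (ρ d * (A₀ * Y)) * (ρ d⁻¹ * ρ g⁻¹) := by
          simp only [mul_assoc]
      _ = ρ g * ((A₀ * Y) * ρ d) * (ρ d⁻¹ * ρ g⁻¹) := by rw [hcY d hd]
      _ = ρ g * (A₀ * Y) * (ρ d * ρ d⁻¹) * ρ g⁻¹ := by simp only [mul_assoc]
      _ = ρ g * (A₀ * Y) * ρ g⁻¹ := by rw [hρ1, mul_one]
  let φ : G ⧸ D → End F V := fun q => c q.out
  have hφ : ∀ g : G, φ (g : G ⧸ D) = c g := by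
    intro g
    have h1 : ((g : G ⧸ D).out)⁻¹ * g ∈ D := QuotientGroup.eq.mp (Quotient.out_eq (g : G ⧸ D))
    have h2 : g = (g : G ⧸ D).out * (((g : G ⧸ D).out)⁻¹ * g) := by group
    change c (g : G ⧸ D).out = c g
    conv_rhs => rw [h2]
    rw [hc _ _ h1]
  have hφs : ∀ (g : G) (q : G ⧸ D), φ (g • q) = ρ g * φ q * ρ g⁻¹ := by
    intro g q
    induction q using QuotientGroup.induction_on with
    | H z =>
      have h1 : g • (z : G ⧸ D) = ((g * z : G) : G ⧸ D) := rfl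
      rw [h1, hφ, hφ]
      change ρ (g * z) * (A₀ * Y) * ρ (g * z)⁻¹ = ρ g * (ρ z * (A₀ * Y) * ρ z⁻¹) * ρ g⁻¹
      rw [mul_inv_rev, map_mul, map_mul]
      simp only [mul_assoc]
  have hisN : ∀ g : G, ((g : G ⧸ D).out ∈ Nz ↔ g ∈ Nz) := by
    intro g
    have h1 : ((g : G ⧸ D).out)⁻¹ * g ∈ D := QuotientGroup.eq.mp (Quotient.out_eq (g : G ⧸ D))
    have h2 : g = (g : G ⧸ D).out * (((g : G ⧸ D).out)⁻¹ * g) := by group
    constructor
    · intro h
      rw [h2]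
      exact Nz.mul_mem h (hDN h1)
    · intro h
      have h3 : (g : G ⧸ D).out = g * (((g : G ⧸ D).out)⁻¹ * g)⁻¹ := by group
      rw [h3]
      exact Nz.mul_mem h (Nz.inv_mem (hDN h1))
  have hisNs : ∀ (g : G) (q : G ⧸ D), g ∈ Nz → ((g • q).out ∈ Nz ↔ q.out ∈ Nz) := by
    intro g q hg
    induction q using QuotientGroup.induction_on with
    | H z =>
      have h1 : g • (z : G ⧸ D) = ((g * z : G) : G ⧸ D) := rfl
      rw [h1, hisN, hisN]
      exact Subgroup.mul_mem_cancel_left _ hg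
  -- the total
  let T : End F V := ∑ q : G ⧸ D, φ q
  let T₀ : End F V := ∑ q : G ⧸ D, if q.out ∈ Nz then φ q else 0
  let T₁ : End F V := ∑ q : G ⧸ D, if q.out ∈ Nz then 0 else φ q
  have hT : T = T₀ + T₁ := by
    simp only [T, T₀, T₁]
    rw [← Finset.sum_add_distrib]
    refine Finset.sum_congr rfl fun q _ => ?_
    split_ifs <;> simp
  have hTG : ∀ g : G, ρ g * T = T * ρ g := by
    intro g
    have h1 : ρ g * T * ρ g⁻¹ = T := by
      simp only [T]
      rw [Finset.mul_sum, Finset.sum_mul]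
      have h2 : ∀ q : G ⧸ D, ρ g * φ q * ρ g⁻¹ = φ (g • q) := fun q => (hφs g q).symm
      simp only [h2]
      exact Equiv.sum_comp (MulAction.toPerm g) φ
    calc ρ g * T = ρ g * T * (ρ g⁻¹ * ρ g) := by rw [hρ2, mul_one]
      _ = (ρ g * T * ρ g⁻¹) * ρ g := by simp only [mul_assoc]
      _ = T * ρ g := by rw [h1]
  -- the part on the normalizer
  have hEsum : ∀ g : G, ∑ b : H ⧸ D.subgroupOf H, c (g * (b.out : H)) = ρ g * Y * ρ g⁻¹ := by
    intro g
    have h1 : ∀ b : H ⧸ D.subgroupOf H, c (g * (b.out : H)) =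
        ρ g * ((ρ (b.out : H) * A₀ * ρ ((b.out : H) : G)⁻¹) * Y) * ρ g⁻¹ := by
      intro b
      change ρ (g * (b.out : H)) * (A₀ * Y) * ρ (g * (b.out : H))⁻¹ = _
      rw [mul_inv_rev, map_mul, map_mul]
      have h2 : ρ ((b.out : H) : G)⁻¹ * Y = Y * ρ ((b.out : H) : G)⁻¹ :=
        hY _ (H.inv_mem (b.out : H).2)
      calc ρ g * ρ (b.out : H) * (A₀ * Y) * (ρ ((b.out : H) : G)⁻¹ * ρ g⁻¹)
          = ρ g * (ρ (b.out : H) * A₀ * (Y * ρ ((b.out : H) : G)⁻¹)) * ρ g⁻¹ := by simp only [mul_assoc]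
        _ = ρ g * (ρ (b.out : H) * A₀ * (ρ ((b.out : H) : G)⁻¹ * Y)) * ρ g⁻¹ := by rw [h2]
        _ = _ := by simp only [mul_assoc]
    rw [Finset.sum_congr rfl fun b _ => h1 b, ← Finset.sum_mul, ← Finset.mul_sum, ← Finset.sum_mul, ← hE, hEY]
  have hT₀ : T₀ = ∑ a : G ⧸ H, if a.out ∈ Nz then ρ a.out * Y * ρ a.out⁻¹ else 0 := by
    let F' : G → End F V := fun g => if g ∈ Nz then c g else 0
    have hF' : ∀ g, ∀ d ∈ D, F' (g * d) = F' g := by
      intro g d hd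
      simp only [F']
      have h1 : g * d ∈ Nz ↔ g ∈ Nz := Subgroup.mul_mem_cancel_right _ (hDN hd)
      by_cases hg : g ∈ Nz
      · rw [if_pos hg, if_pos (h1.mpr hg), hc g d hd]
      · rw [if_neg hg, if_neg (fun h => hg (h1.mp h))]
    have h2 := sum_tower hDH F' hF'
    have h3 : T₀ = ∑ q : G ⧸ D, F' q.out := rfl
    rw [h3, h2]
    refine Finset.sum_congr rfl fun a _ => ?_
    by_cases ha : a.out ∈ Nz
    · rw [if_pos ha, ← hEsum]
      refine Finset.sum_congr rfl fun b _ => ?_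
      simp only [F']
      rw [if_pos (Nz.mul_mem ha (hHN (b.out : H).2))]
    · rw [if_neg ha]
      refine Finset.sum_eq_zero fun b _ => ?_
      simp only [F']
      rw [if_neg]
      intro h
      exact ha ((Subgroup.mul_mem_cancel_right _ (hHN (b.out : H).2)).mp h)
  have hET₀ : E * T₀ = ∑ a : G ⧸ H, if a.out ∈ N then ρ a.out * Y * ρ a.out⁻¹ else 0 := by
    rw [hT₀, Finset.mul_sum]
    refine Finset.sum_congr rfl fun a _ => ?_
    by_cases ha : a.out ∈ N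
    · rw [if_pos (hNN ha), if_pos ha, ← mul_assoc, ← mul_assoc, ← hEN _ ha, mul_assoc (ρ a.out), hEY]
    · rw [if_neg ha]
      by_cases ha' : a.out ∈ Nz
      · rw [if_pos ha']
        have h1 := hoff _ ha' ha
        calc E * (ρ a.out * Y * ρ a.out⁻¹) = E * (ρ a.out * (E * Y) * ρ a.out⁻¹) := by rw [hEY]
          _ = (E * (ρ a.out * E * (ρ a.out⁻¹ * ρ a.out) * Y * ρ a.out⁻¹)) := by
              rw [hρ2, mul_one]
              simp only [mul_assoc]
          _ = (E * (ρ a.out * E * ρ a.out⁻¹)) * (ρ a.out * Y * ρ a.out⁻¹) := by simp only [mul_assoc]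
          _ = 0 := by rw [h1, zero_mul]
      · rw [if_neg ha', mul_zero]
  -- the free part
  let S : SubMulAction D (G ⧸ D) :=
    { carrier := {q | q.out ∉ Nz}
      smul_mem' := by
        intro d q hq hq'
        exact hq ((hisNs (d : G) q (hDN d.2)).mp hq') }
  letI : Fintype S := Fintype.ofFinite _
  let act : D → End F V →+ End F V := fun h =>
    { toFun := fun z => ρ (h : G) * z * ρ ((h : G)⁻¹)
      map_zero' := by simp
      map_add' := by intro a b; simp [mul_add, add_mul] }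
  obtain ⟨f, hf⟩ := Cfsg.Agent.Lib.ModTI.Trace.exists_sum_eq_of_free (P := D) (X := S) act (fun q => φ q.1)
    (by
      intro h q
      exact hφs (h : G) q.1)
    (by
      intro q h hq
      have hq1 : q.1.out ∉ Nz := q.2
      have hq2 : (h : G) • q.1 = q.1 := congrArg Subtype.val hq
      have h0 : q.1 = (q.1.out : G ⧸ D) := (Quotient.out_eq _).symm
      rw [h0] at hq2
      have h3 : (((h : G) * q.1.out : G) : G ⧸ D) = (q.1.out : G ⧸ D) := hq2
      rw [QuotientGroup.eq] at h3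
      have h4 : (q.1.out)⁻¹ * (h : G) * q.1.out ∈ D := by
        have := D.inv_mem h3
        simpa [mul_assoc] using this
      exact Subtype.ext (hfree _ hq1 h h.2 h4))
  have hT₁S : T₁ = ∑ x : S, φ x.1 := by
    simp only [T₁]
    rw [← Finset.sum_filter_add_sum_filter_not Finset.univ (fun q : G ⧸ D => q.out ∈ Nz)]
    rw [Finset.sum_eq_zero (s := Finset.univ.filter (fun q : G ⧸ D => q.out ∈ Nz))
      (fun q hq => if_pos (Finset.mem_filter.mp hq).2), zero_add]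
    rw [Finset.sum_congr rfl (fun q hq => if_neg (Finset.mem_filter.mp hq).2)]
    rw [← Finset.sum_subtype (Finset.univ.filter fun q : G ⧸ D => ¬ q.out ∈ Nz) (p := fun q : G ⧸ D => q ∈ S) ?_ φ]
    intro q
    simp only [Finset.mem_filter, Finset.mem_univ, true_and]
    exact Iff.rfl
  have hT₁H : ∀ h ∈ H, ρ h * T₁ * ρ h⁻¹ = T₁ := by
    intro h hh
    simp only [T₁]
    rw [Finset.mul_sum, Finset.sum_mul]
    refine Fintype.sum_equiv (MulAction.toPerm h) _ _ fun q => ?_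
    have h1 := hisNs h q (hHN hh)
    have e1 : (MulAction.toPerm h) q = h • q := rfl
    rw [e1]
    by_cases hq : q.out ∈ Nz
    · rw [if_pos hq, if_pos (h1.mpr hq)]
      simp
    · rw [if_neg hq, if_neg (fun h' => hq (h1.mp h')), hφs]
  have hT₁c : ∀ h ∈ H, ρ h⁻¹ * T₁ = T₁ * ρ h⁻¹ := by
    intro h hh
    have h1 := hT₁H h⁻¹ (H.inv_mem hh)
    rw [inv_inv] at h1
    calc ρ h⁻¹ * T₁ = ρ h⁻¹ * T₁ * (ρ h * ρ h⁻¹) := by rw [hρ1, mul_one]
      _ = (ρ h⁻¹ * T₁ * ρ h) * ρ h⁻¹ := by simp only [mul_assoc]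
      _ = T₁ * ρ h⁻¹ := by rw [h1]
  have hET₁ : E * T₁ = ∑ h : H, ρ (h : G) * (A₀ * f) * ρ (h : G)⁻¹ := by
    have h1 : A₀ * T₁ = ∑ d : D, ρ (d : G) * (A₀ * f) * ρ (d : G)⁻¹ := by
      rw [hT₁S, hf, Finset.mul_sum]
      refine Finset.sum_congr rfl fun d _ => ?_
      change A₀ * (ρ (d : G) * f * ρ ((d : G)⁻¹)) = _
      rw [← mul_assoc, ← mul_assoc, ← hA₀ d d.2]
      simp only [mul_assoc]
    have h2 : E * T₁ = ∑ b : H ⧸ D.subgroupOf H, ρ (b.out : H) * (A₀ * T₁) * ρ ((b.out : H) : G)⁻¹ := by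
      rw [hE, Finset.sum_mul]
      refine Finset.sum_congr rfl fun b _ => ?_
      rw [mul_assoc, hT₁c _ (b.out : H).2]
      simp only [mul_assoc]
    rw [h2, Cfsg.Agent.Lib.ModRep.Count.sum_cosets (D.subgroupOf H)]
    refine Finset.sum_congr rfl fun b _ => ?_
    rw [h1, Finset.mul_sum, Finset.sum_mul]
    refine Fintype.sum_equiv (Subgroup.subgroupOfEquivOfLe hDH).toEquiv.symm _ _ fun d => ?_
    have e1 : (((Subgroup.subgroupOfEquivOfLe hDH).toEquiv.symm d : D.subgroupOf H) : H) = ⟨d, hDH d.2⟩ := rfl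
    rw [e1]
    simp only [Subgroup.coe_mul, map_mul, mul_inv_rev]
    simp only [mul_assoc]
  refine ⟨T, A₀ * f, hTG, ?_⟩
  rw [hT, mul_add, hET₀, hET₁]

end Cfsg.Agent.Lib.Dade.MTr
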