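import Mathlib
import Cfsg.Agent.Lib.Dade.MA
import Cfsg.Agent.Lib.Dade.MTr
import Cfsg.Agent.Lib.D1.Density

/-!
# Simple modules over a group with a local block algebra of the kind `Core`
-/

set_option autoImplicit false
set_option linter.unusedSectionVars false

namespace Cfsg.Agent.Lib.Dade.MS

open Module MonoidAlgebra Cfsg.Agent.Lib.Dade.MA Cfsg.Agent.Lib.Dade.MTr Cfsg.Agent.Lib.D1.Simple
open scoped BigOperators

universe u v w

section Op

variable {k : Type*} [Field k] {H Γ : Type*} [Group H] [Group Γ] {S : Type*} [AddCommGroup S] [Module k S]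

/-- The operator of an element of the group algebra of `H` on a module for `Γ`, by way of a homomorphism
`H → Γ`. -/
noncomputable def Op (j : H →* Γ) (ρ : Representation k Γ S) : MonoidAlgebra k H →ₐ[k] End k S :=
  Representation.asAlgebraHom (ρ.comp j)

@[simp] theorem Op_single (j : H →* Γ) (ρ : Representation k Γ S) (h : H) (c : k) :
    Op j ρ (single h c) = c • ρ (j h) := by
  simp [Op, Representation.asAlgebraHom_single]

theorem Op_one_single (j : H →* Γ) (ρ : Representation k Γ S) (h : H) :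
    Op j ρ (single h 1) = ρ (j h) := by
  simp

theorem Op_apply [Fintype H] (j : H →* Γ) (ρ : Representation k Γ S) (x : MonoidAlgebra k H) :
    Op j ρ x = ∑ h : H, x.coeff h • ρ (j h) :=
  Cfsg.Agent.Lib.D1.Density.asAlgebraHom_eq (ρ.comp j) x

/-- Conjugation. -/
theorem Op_domCongr (j : H →* Γ) (ρ : Representation k Γ S) (σ : H ≃* H) (g : Γ)
    (hσ : ∀ h, j (σ h) = g * j h * g⁻¹) (x : MonoidAlgebra k H) :
    Op j ρ (domCongr k k σ x) = ρ g * Op j ρ x * ρ g⁻¹ := by
  induction x using MonoidAlgebra.induction_linear with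
  | zero => simp
  | add a b ha hb =>
    rw [map_add, map_add, ha, hb, map_add, mul_add, add_mul]
  | single h c =>
    rw [domCongr_single, Op_single, Op_single, hσ, mul_smul_comm, smul_mul_assoc, map_mul, map_mul]

end Op

variable {G : Type u} [Group G] [Finite G] {k : Type v} [Field k]

section Cj

/-- Conjugation on the group algebra of a subgroup. -/
noncomputable def cjA (H : Subgroup G) (g : G) (hg : g ∈ Subgroup.normalizer (H : Set G)) :
    MonoidAlgebra k H ≃ₐ[k] MonoidAlgebra k H :=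
  domCongr k k (H.normalizerMonoidHom ⟨g, hg⟩)

theorem coe_normHom (H : Subgroup G) (g : G) (hg : g ∈ Subgroup.normalizer (H : Set G)) (h : H) :
    ((H.normalizerMonoidHom ⟨g, hg⟩ h : H) : G) = g * h * g⁻¹ := rfl

variable {S : Type*} [AddCommGroup S] [Module k S]

theorem Op_cjA (H : Subgroup G) (ρ : Representation k G S) (g : G) (hg : g ∈ Subgroup.normalizer (H : Set G))
    (x : MonoidAlgebra k H) : Op H.subtype ρ (cjA H g hg x) = ρ g * Op H.subtype ρ x * ρ g⁻¹ :=
  Op_domCongr _ ρ _ g (fun h => coe_normHom H g hg h) x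

end Cj

/-- The action on the group algebra of a subgroup. -/
structure MSetup (H N Nz D : Subgroup G) {J : Type*} (q : ℕ) (e U P A₀ : MonoidAlgebra k H)
    (θ : MonoidAlgebra k H →ₗ[k] k) (s : Finset J) (a b : J → MonoidAlgebra k H) : Prop where
  core : Core q e U P θ s a b
  hDH : D ≤ H
  hHN : H ≤ N
  hNN : N ≤ Nz
  hNzH : Nz ≤ Subgroup.normalizer (H : Set G)
  hfree : ∀ g : G, g ∉ Nz → ∀ d ∈ D, g⁻¹ * d * g ∈ D → d = 1
  hidx : (((H.subgroupOf N).index : ℕ) : k) ≠ 0
  hcU : ∀ g (hg : g ∈ N), ∃ v, cjA H g (hNzH (hNN hg)) U = U * v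
  hce : ∀ g (hg : g ∈ N), cjA H g (hNzH (hNN hg)) e = e
  hcθ : ∀ g (hg : g ∈ N) x, θ (cjA H g (hNzH (hNN hg)) x) = θ x
  hoff : ∀ g (hg : g ∈ Nz), g ∉ N → e * cjA H g (hNzH hg) e = 0
  hA₀ : ∀ d (hd : d ∈ D), (single (⟨d, hDH hd⟩ : H) 1 : MonoidAlgebra k H) * A₀ = A₀ * single (⟨d, hDH hd⟩ : H) 1
  hA₀e : ∃ _ : Fintype (H ⧸ D.subgroupOf H), ∑ b : H ⧸ D.subgroupOf H,
    (single (b.out : H) 1 : MonoidAlgebra k H) * A₀ * single ((b.out : H)⁻¹) 1 = e

variable {H N Nz D : Subgroup G} {J : Type*} {q : ℕ} {e U P A₀ : MonoidAlgebra k H}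
  {θ : MonoidAlgebra k H →ₗ[k] k} {s : Finset J} {a b : J → MonoidAlgebra k H}

namespace MSetup

variable (hS : MSetup H N Nz D q e U P A₀ θ s a b)
variable {S : Type w} [AddCommGroup S] [Module k S] (ρ : Representation k G S)

local notation "O" => Op H.subtype ρ

include hS

theorem rho_inv_mul' (g : G) : ρ g⁻¹ * ρ g = 1 := rho_inv_mul ρ g

theorem O_rho (h : H) : O (single h 1) = ρ (h : G) := Op_one_single _ ρ h

theorem comm_rho (x : MonoidAlgebra k H) (hx : ∀ y, y * x = x * y) (h : H) : ρ (h : G) * O x = O x * ρ (h : G) := by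
  rw [← O_rho hS ρ h, ← map_mul, ← map_mul, hx]

theorem comm_U (x : MonoidAlgebra k H) : O x * O U = O U * O x := by
  rw [← map_mul, ← map_mul, hS.core.ucen]

theorem comm_U_pow (x : MonoidAlgebra k H) (r : ℕ) : O x * (O U) ^ r = (O U) ^ r * O x :=
  (Commute.pow_right (show Commute (O x) (O U) from comm_U hS ρ x) r).eq

theorem eo_comm (n : G) (hn : n ∈ N) : ρ n * O e = O e * ρ n := by
  have h1 := Op_cjA H ρ n (hS.hNzH (hS.hNN hn)) e
  rw [hS.hce n hn] at h1
  calc ρ n * O e = (ρ n * O e * ρ n⁻¹) * ρ n := by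
        rw [mul_assoc, mul_assoc, rho_inv_mul, mul_one]
    _ = O e * ρ n := by rw [← h1]

/-- Conjugation of `U`. -/
theorem rho_mul_U_pow {n : G} (hn : n ∈ N) (r : ℕ) : ∃ v : End k S, ρ n * (O U) ^ r = (O U) ^ r * v * ρ n := by
  obtain ⟨v₀, hv₀⟩ := hS.hcU n hn
  have h1 := Op_cjA H ρ n (hS.hNzH (hS.hNN hn)) U
  rw [hv₀, map_mul] at h1
  have hs : SemiconjBy (ρ n) (O U) (O U * O v₀) := by
    change ρ n * O U = O U * O v₀ * ρ n
    rw [h1]
    simp only [mul_assoc]
    rw [rho_inv_mul, mul_one]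
  have hc : Commute (O v₀) (O U) := comm_U hS ρ v₀
  refine ⟨(O v₀) ^ r, ?_⟩
  rw [(hs.pow_right r).eq, hc.symm.mul_pow]

theorem rho_mem_range_pow {n : G} (hn : n ∈ N) (r : ℕ) {m : S} (hm : m ∈ LinearMap.range ((O U) ^ r)) :
    ρ n m ∈ LinearMap.range ((O U) ^ r) := by
  obtain ⟨w, rfl⟩ := hm
  obtain ⟨v, hv⟩ := rho_mul_U_pow hS ρ hn r
  have h := congrArg (fun f : End k S => f w) hv
  simp only [Module.End.mul_apply] at h
  rw [h]
  exact ⟨_, rfl⟩

theorem ker_rho {n : G} (hn : n ∈ N) {m : S} (hm : O U m = 0) : O U (ρ n m) = 0 := by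
  obtain ⟨v₀, hv₀⟩ := hS.hcU n⁻¹ (N.inv_mem hn)
  have h1 := Op_cjA H ρ n⁻¹ (hS.hNzH (hS.hNN (N.inv_mem hn))) U
  rw [hv₀, map_mul, inv_inv] at h1
  have h2 : O U * ρ n = ρ n * (O U * O v₀) := by
    rw [h1]
    simp only [← mul_assoc]
    rw [rho_mul_inv, one_mul]
  have h3 := congrArg (fun f : End k S => f m) h2
  simp only [Module.End.mul_apply] at h3
  rw [h3, ← Module.End.mul_apply (O U), ← comm_U hS ρ v₀, Module.End.mul_apply, hm, map_zero, map_zero]

/-- The elements of the kernel of `U` in the range of `e`. -/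
noncomputable def KK (q : ℕ) (e U : MonoidAlgebra k H) (ρ : Representation k G S) : Submodule k S :=
  LinearMap.ker (Op H.subtype ρ U) ⊓ LinearMap.range (Op H.subtype ρ e)

omit hS in
theorem mem_KK {m : S} : m ∈ KK q e U ρ ↔ Op H.subtype ρ U m = 0 ∧ m ∈ LinearMap.range (Op H.subtype ρ e) := Iff.rfl

theorem eo_of_range {m : S} (hm : m ∈ LinearMap.range (O e)) : O e m = m := by
  obtain ⟨w, rfl⟩ := hm
  rw [← Module.End.mul_apply, ← map_mul, hS.core.e2]

theorem mem_range_eo_iff {m : S} : m ∈ LinearMap.range (O e) ↔ O e m = m :=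
  ⟨eo_of_range hS ρ, fun h => ⟨m, h⟩⟩

/-- The norms. -/
noncomputable abbrev Nm (q : ℕ) (U : MonoidAlgebra k H) (ρ : Representation k G S) : Submodule k S :=
  LinearMap.range ((Op H.subtype ρ U) ^ (q - 1))

theorem Uo_pow_q : (O U) ^ q = 0 := by
  rw [← map_pow, hS.core.Uq, map_zero]

theorem Nm_le_KK : Nm q U ρ ≤ KK q e U ρ := by
  rintro _ ⟨w, rfl⟩
  have hq := hS.core.hq
  refine ⟨?_, (mem_range_eo_iff hS ρ).mpr ?_⟩
  · change O U (((O U) ^ (q - 1)) w) = 0
    rw [← Module.End.mul_apply, ← pow_succ', Nat.sub_add_cancel (by omega), Uo_pow_q hS ρ]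
    rfl
  · rw [← map_pow]
    change (O e * O (U ^ (q - 1))) w = O (U ^ (q - 1)) w
    rw [← map_mul, hS.core.eU_pow (by omega)]

theorem KK_rho {n : G} (hn : n ∈ N) {m : S} (hm : m ∈ KK q e U ρ) : ρ n m ∈ KK q e U ρ := by
  refine ⟨ker_rho hS ρ hn hm.1, (mem_range_eo_iff hS ρ).mpr ?_⟩
  have h1 := congrArg (fun f : End k S => f m) (eo_comm hS ρ n hn)
  simp only [Module.End.mul_apply] at h1
  rw [← h1, eo_of_range hS ρ hm.2]

theorem KK_O (x : MonoidAlgebra k H) {m : S} (hm : m ∈ KK q e U ρ) : O x m ∈ KK q e U ρ := by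
  refine ⟨?_, (mem_range_eo_iff hS ρ).mpr ?_⟩
  · change O U (O x m) = 0
    rw [← Module.End.mul_apply, ← comm_U hS ρ x, Module.End.mul_apply]
    have h1 : O U m = 0 := hm.1
    rw [h1, map_zero]
  · rw [← Module.End.mul_apply, ← map_mul, ← hS.core.ecen, map_mul, Module.End.mul_apply, eo_of_range hS ρ hm.2]

theorem Nm_O (x : MonoidAlgebra k H) {m : S} (hm : m ∈ Nm q U ρ) : O x m ∈ Nm q U ρ := by
  obtain ⟨w, rfl⟩ := hm
  refine ⟨O x w, ?_⟩
  have h1 := congrArg (fun f : End k S => f w) (comm_U_pow hS ρ x (q - 1))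
  simp only [Module.End.mul_apply] at h1
  exact h1.symm

/-- The trace from the trivial subgroup. -/
noncomputable def Aa [Fintype H] (ρ : Representation k G S) (ℓ : S →ₗ[k] k) (m : S) : MonoidAlgebra k H :=
  ∑ h : H, ℓ (ρ (h : G)⁻¹ m) • single h 1

omit hS in
theorem mul_Aa [Fintype H] (x : MonoidAlgebra k H) (ℓ : S →ₗ[k] k) (m : S) :
    x * Aa ρ ℓ m = Aa ρ ℓ (Op H.subtype ρ x m) := by
  induction x using MonoidAlgebra.induction_linear with
  | zero =>
    simp only [zero_mul, map_zero, LinearMap.zero_apply, Aa]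
    simp
  | add x y hx hy =>
    rw [add_mul, hx, hy, map_add, LinearMap.add_apply]
    simp only [Aa, map_add, add_smul, Finset.sum_add_distrib]
  | single g c =>
    simp only [Aa, Op_single, Finset.mul_sum, LinearMap.smul_apply, map_smul, smul_eq_mul]
    refine Fintype.sum_equiv (Equiv.mulLeft g) _ _ fun h => ?_
    have e1 : (Equiv.mulLeft g) h = g * h := rfl
    rw [e1, mul_smul_comm, single_mul_single, mul_one]
    have e2 : ρ ((g * h : H) : G)⁻¹ ((ρ ((H.subtype g))) m) = ρ (h : G)⁻¹ m := by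
      rw [← Module.End.mul_apply, ← map_mul]
      congr 2
      simp
    have e3 : (single (g * h) c : MonoidAlgebra k H) = c • single (g * h) 1 := by simp [smul_single]
    rw [e2, e3, smul_smul, mul_comm]

/-- **The trace from the trivial subgroup takes the fixed points to the norms.** -/
theorem norm_mem [Fintype H] [FiniteDimensional k S] (f : End k S) {m : S} (hm : O U m = 0) :
    O e (∑ h : H, (ρ (h : G) * f * ρ (h : G)⁻¹) m) ∈ Nm q U ρ := by
  classical
  let bS := finBasis k S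
  let ℓ : Fin (finrank k S) → (S →ₗ[k] k) := fun i => bS.coord i ∘ₗ f
  have h1 : ∑ h : H, (ρ (h : G) * f * ρ (h : G)⁻¹) m = ∑ i, O (Aa ρ (ℓ i) m) (bS i) := by
    have h2 : ∀ h : H, (ρ (h : G) * f * ρ (h : G)⁻¹) m =
        ∑ i, ℓ i (ρ (h : G)⁻¹ m) • ρ (h : G) (bS i) := by
      intro h
      simp only [Module.End.mul_apply]
      conv_lhs => rw [← bS.sum_repr (f (ρ (h : G)⁻¹ m))]
      rw [map_sum]
      refine Finset.sum_congr rfl fun i _ => ?_
      rw [map_smul]
      rfl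
    rw [Finset.sum_congr rfl fun h _ => h2 h, Finset.sum_comm]
    refine Finset.sum_congr rfl fun i _ => ?_
    simp only [Aa, map_sum, LinearMap.sum_apply, map_smul, LinearMap.smul_apply, Op_single, one_smul]
    rfl
  rw [h1, map_sum]
  refine Submodule.sum_mem _ fun i _ => ?_
  have h2 : U * (e * Aa ρ (ℓ i) m) = 0 := by
    rw [← mul_assoc, ← hS.core.ucen e, hS.core.eU, mul_Aa, hm]
    simp [Aa]
  obtain ⟨y, hy⟩ := hS.core.ker_U h2
  rw [← Module.End.mul_apply, ← map_mul, hy, map_mul, map_pow]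
  exact ⟨_, rfl⟩

end MSetup

end Cfsg.Agent.Lib.Dade.MS
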