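import Mathlib
import Cfsg.Agent.Lib.Dade.LC
import Cfsg.Agent.Lib.Dade.MS
import Cfsg.Agent.Lib.D1.Reduce

/-!
# The reduction of a representation whose restriction has an irreducible character
-/

set_option autoImplicit false
set_option linter.unusedSectionVars false
set_option linter.style.haveILetI false

namespace Cfsg.Agent.Lib.Dade.LT

open Cfsg Module MonoidAlgebra Cfsg.Agent.Lib.D1.Res Cfsg.Agent.Lib.BlockAlg Cfsg.Agent.Lib.Dade.LA
open Cfsg.Agent.Lib.Dade.MS Cfsg.Agent.Lib.D1.Reduce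
open Cfsg.Agent.Lib.Blocks.Local Cfsg.Agent.Lib.Blocks.Central Cfsg.Agent.Lib.Blocks.Brauer
open Cfsg.Agent.Lib.BK.Coef
open Cfsg.Agent.Lib.Char.Basic Cfsg.Agent.Lib.Char.Complete
open scoped BigOperators ComplexConjugate

universe u v w

variable {Γ : Type u} [Group Γ] [Fintype Γ] {Ñ : Type v} [Group Ñ] [Finite Ñ] (j : Γ →* Ñ)
  {W : Type w} [AddCommGroup W] [Module ℂ W] [FiniteDimensional ℂ W] (ρ : Representation ℂ Ñ W)
  {V : ValuationSubring ℂ}

theorem trace_Op (x : GA Γ) :
    LinearMap.trace ℂ W (Op j ρ x) = lin (fun h => LinearMap.trace ℂ W (ρ (j h))) x := by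
  rw [Op_apply, map_sum, lin_apply]
  refine Finset.sum_congr rfl fun h _ => ?_
  rw [map_smul, smul_eq_mul]

/-- An idempotent of full trace is the identity. -/
theorem eq_one_of_trace {E : End ℂ W} (hE : E * E = E) (h1 : LinearMap.trace ℂ W E = (finrank ℂ W : ℂ)) : E = 1 := by
  have hidem : IsIdempotentElem E := hE
  have hp := LinearMap.IsIdempotentElem.isProj_range E hidem
  have h2 := hp.trace
  rw [h1] at h2
  have hr : finrank ℂ W = finrank ℂ (LinearMap.range E) := by
    exact_mod_cast h2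
  have htop : LinearMap.range E = ⊤ := Submodule.eq_top_of_finrank_eq hr.symm
  refine LinearMap.ext fun w => ?_
  exact hp.map_id w (by rw [htop]; trivial)

/-- An idempotent of trace one has rank one. -/
theorem exists_rank_one {E : End ℂ W} (hE : E * E = E) (h1 : LinearMap.trace ℂ W E = 1) :
    ∃ (v : W) (ψ : W →ₗ[ℂ] ℂ), ∀ w, E w = ψ w • v := by
  have hidem : IsIdempotentElem E := hE
  have hp := LinearMap.IsIdempotentElem.isProj_range E hidem
  have h2 := hp.trace
  rw [h1] at h2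
  have hrank : finrank ℂ (LinearMap.range E) = 1 := by
    have : ((finrank ℂ (LinearMap.range E) : ℕ) : ℂ) = 1 := by
      exact_mod_cast h2.symm
    exact_mod_cast this
  let b : Basis (Fin 1) ℂ (LinearMap.range E) := Module.finBasisOfFinrankEq ℂ _ hrank
  classical
  let ψ₀ : LinearMap.range E →ₗ[ℂ] ℂ := b.coord 0
  refine ⟨(b 0 : LinearMap.range E), ψ₀ ∘ₗ E.rangeRestrict, fun w => ?_⟩
  have h3 := b.sum_repr (E.rangeRestrict w)
  rw [Fin.sum_univ_one] at h3
  have h4 := congrArg Subtype.val h3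
  simpa [ψ₀] using h4.symm

section Central

variable [Fintype (IrrCharacter Γ)] {ξ : IrrCharacter Γ}
  (hβ : ∀ h, LinearMap.trace ℂ W (ρ (j h)) = (ξ : Γ → ℂ) h)

include hβ

theorem trace_Op' (x : GA Γ) : LinearMap.trace ℂ W (Op j ρ x) = lin (ξ : Γ → ℂ) x := by
  rw [trace_Op]
  congr 2
  funext h
  exact hβ h

theorem Op_idem : Op j ρ ((idem ({ξ} : Set (IrrCharacter Γ)) : Subalgebra.center ℂ (GA Γ)) : GA Γ) = 1 := by
  classical
  apply eq_one_of_trace
  · rw [← map_mul]
    congr 1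
    exact congrArg Subtype.val (Cfsg.Agent.Lib.Blocks.Weak.idem_mul_self _)
  · rw [trace_Op' j ρ hβ]
    have h1 := lin_central_mul ξ.2 (isCentral_of_mem (idem ({ξ} : Set (IrrCharacter Γ)))) (1 : GA Γ)
    have h2 := omegaHom_idem ({ξ} : Set (IrrCharacter Γ)) ξ
    rw [if_pos (Set.mem_singleton _)] at h2
    rw [mul_one] at h1
    rw [h1]
    change omegaHom ξ _ * _ = _
    rw [h2, one_mul, lin_one, ← hβ 1, map_one, map_one]
    exact LinearMap.trace_one ℂ W

/-- **A central element acts by its central character.** -/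
theorem Op_central (z : Subalgebra.center ℂ (GA Γ)) : Op j ρ (z : GA Γ) = omegaHom ξ z • (1 : End ℂ W) := by
  classical
  have h1 : z * idem ({ξ} : Set (IrrCharacter Γ)) = omegaHom ξ z • idem ({ξ} : Set (IrrCharacter Γ)) := by
    apply omegaHom_injective
    intro χ
    rw [map_mul, map_smul, omegaHom_idem]
    by_cases hχ : χ = ξ
    · subst hχ
      rw [if_pos (Set.mem_singleton _), mul_one, smul_eq_mul, mul_one]
    · rw [if_neg (by simpa using hχ), mul_zero, smul_zero]
  have h2 := congrArg (fun t : Subalgebra.center ℂ (GA Γ) => Op j ρ (t : GA Γ)) h1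
  simp only [Subalgebra.coe_mul, map_mul, Op_idem j ρ hβ, mul_one] at h2
  rw [h2]
  have h3 : ((omegaHom ξ z • idem ({ξ} : Set (IrrCharacter Γ)) : Subalgebra.center ℂ (GA Γ)) : GA Γ) =
      omegaHom ξ z • ((idem ({ξ} : Set (IrrCharacter Γ)) : Subalgebra.center ℂ (GA Γ)) : GA Γ) := rfl
  rw [h3, map_smul, Op_idem j ρ hβ]

end Central

section Red

variable {ρ} {m : ℕ} {b : Basis (Fin m) ℂ W} {MV : Ñ → Matrix (Fin m) (Fin m) V}
  (hI : IntForm V ρ b MV)

include hI

theorem entry_mem {x : GA Γ} (hx : RV V x) (c d : Fin m) : b.repr (Op j ρ x (b d)) c ∈ V := by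
  have h1 : b.repr (Op j ρ x (b d)) c = ∑ h : Γ, x.coeff h * (MV (j h) c d : ℂ) := by
    rw [Op_apply, LinearMap.sum_apply, map_sum, Finsupp.coe_finsetSum, Finset.sum_apply]
    refine Finset.sum_congr rfl fun h _ => ?_
    rw [LinearMap.smul_apply, map_smul, Finsupp.smul_apply, smul_eq_mul, hI.coe]
  rw [h1]
  exact sum_mem' _ _ fun h _ => V.mul_mem _ _ (hx h) (MV _ _ _).2

/-- The matrix of a reduced operator. -/
theorem toMatrix_Op_rd {x : GA Γ} (hx : RV V x) (c d : Fin m) :
    LinearMap.toMatrix' (Op j (redRep hI) (rd V x)) c d = red V (b.repr (Op j ρ x (b d)) c) := by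
  have h1 : b.repr (Op j ρ x (b d)) c = ∑ h : Γ, x.coeff h * (MV (j h) c d : ℂ) := by
    rw [Op_apply, LinearMap.sum_apply, map_sum, Finsupp.coe_finsetSum, Finset.sum_apply]
    refine Finset.sum_congr rfl fun h _ => ?_
    rw [LinearMap.smul_apply, map_smul, Finsupp.smul_apply, smul_eq_mul, hI.coe]
  rw [h1, red_sum _ _ fun h _ => V.mul_mem _ _ (hx h) (MV _ _ _).2, Op_apply, map_sum, Matrix.sum_apply]
  refine Finset.sum_congr rfl fun h _ => ?_
  rw [map_smul, redRep_apply, LinearMap.toMatrix'_toLin', red_mul (hx h) (MV _ _ _).2, red_coe]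
  rfl

/-- A scalar reduces to a scalar. -/
theorem Op_rd_of_scalar {x : GA Γ} (hx : RV V x) {κ : ℂ} (h : Op j ρ x = κ • (1 : End ℂ W)) (hm : 0 < m) :
    κ ∈ V ∧ Op j (redRep hI) (rd V x) = red V κ • (1 : End (K V) (Fin m → K V)) := by
  classical
  have hent : ∀ c d : Fin m, b.repr (Op j ρ x (b d)) c = if c = d then κ else 0 := by
    intro c d
    rw [h, LinearMap.smul_apply, Module.End.one_apply, map_smul, Finsupp.smul_apply, Basis.repr_self,
      Finsupp.single_apply, smul_eq_mul]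
    by_cases hcd : c = d
    · simp [hcd]
    · simp [hcd, Ne.symm hcd]
  have hκ : κ ∈ V := by
    have h1 := entry_mem j hI hx ⟨0, hm⟩ ⟨0, hm⟩
    rwa [hent, if_pos rfl] at h1
  refine ⟨hκ, ?_⟩
  apply LinearMap.toMatrix'.injective
  ext c d
  rw [toMatrix_Op_rd j hI hx, hent, map_smul]
  have h2 : LinearMap.toMatrix' (1 : End (K V) (Fin m → K V)) = 1 := LinearMap.toMatrix'_id
  rw [h2, Matrix.smul_apply, Matrix.one_apply]
  by_cases hcd : c = d
  · simp [hcd]
  · simp [hcd, Cfsg.Agent.Lib.D1.Res.red_zero]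

/-- **The reduction of an idempotent of trace one has rank one.** -/
theorem exists_line {i : GA Γ} (hi : RV V i) (hii : i * i = i)
    (h1 : LinearMap.trace ℂ W (Op j ρ i) = 1) :
    ∃ (t₀ : Fin m → K V) (ℓ₀ : (Fin m → K V) →ₗ[K V] K V),
      (∀ t, Op j (redRep hI) (rd V i) t = ℓ₀ t • t₀) ∧ ℓ₀ t₀ = 1 := by
  classical
  have hE : Op j ρ i * Op j ρ i = Op j ρ i := by rw [← map_mul, hii]
  obtain ⟨v, ψ, hvψ⟩ := exists_rank_one hE h1
  set Pc : Matrix (Fin m) (Fin m) ℂ := Matrix.of fun c d => b.repr (Op j ρ i (b d)) c with hPc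
  have hPV : ∀ c d, Pc c d ∈ V := fun c d => entry_mem j hI hi c d
  have hrel : ∀ c a e d, Pc c a * Pc e d = Pc e a * Pc c d := by
    intro c a e d
    simp only [hPc, Matrix.of_apply, hvψ, map_smul, Finsupp.smul_apply, smul_eq_mul]
    ring
  set Pb : Matrix (Fin m) (Fin m) (K V) := LinearMap.toMatrix' (Op j (redRep hI) (rd V i)) with hPb
  have hPb' : ∀ c d, Pb c d = red V (Pc c d) := fun c d => toMatrix_Op_rd j hI hi c d
  have hrelb : ∀ c a e d, Pb c a * Pb e d = Pb e a * Pb c d := by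
    intro c a e d
    rw [hPb', hPb', hPb', hPb', ← red_mul (hPV _ _) (hPV _ _), ← red_mul (hPV _ _) (hPV _ _), hrel]
  have hPP : Pb * Pb = Pb := by
    rw [hPb, ← LinearMap.toMatrix'_mul, ← map_mul, ← rd_mul hi hi, hii]
  have htr : ∑ c, Pb c c = 1 := by
    have h2 : LinearMap.trace ℂ W (Op j ρ i) = ∑ c, Pc c c := by
      rw [LinearMap.trace_eq_matrix_trace ℂ b, Matrix.trace]
      refine Finset.sum_congr rfl fun c _ => ?_
      simp [hPc, LinearMap.toMatrix_apply]
    rw [h1] at h2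
    have h3 := congrArg (red V) h2
    rw [Cfsg.Agent.Lib.D1.Res.red_one, red_sum _ _ fun c _ => hPV c c] at h3
    simp only [hPb']
    exact h3.symm
  obtain ⟨a, ha⟩ : ∃ a, Pb a a ≠ 0 := by
    by_contra hcon
    push Not at hcon
    rw [Finset.sum_eq_zero fun c _ => hcon c] at htr
    exact zero_ne_one htr
  refine ⟨fun c => Pb c a / Pb a a, ∑ d, Pb a d • LinearMap.proj d, fun t => ?_, ?_⟩
  · funext c
    have h2 := congrFun (LinearMap.toMatrix'_mulVec (Op j (redRep hI) (rd V i)) t) c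
    rw [← h2, ← hPb]
    simp only [Matrix.mulVec, dotProduct, LinearMap.sum_apply, LinearMap.smul_apply, LinearMap.proj_apply,
      smul_eq_mul, Pi.smul_apply]
    rw [Finset.sum_mul]
    refine Finset.sum_congr rfl fun d _ => ?_
    have h3 := hrelb c a a d
    field_simp
    calc Pb c d * t d * Pb a a = t d * (Pb a a * Pb c d) := by ring
      _ = t d * (Pb c a * Pb a d) := by rw [h3]
      _ = _ := by ring
  · simp only [LinearMap.sum_apply, LinearMap.smul_apply, LinearMap.proj_apply, smul_eq_mul]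
    have h2 := congrFun (congrFun hPP a) a
    rw [Matrix.mul_apply] at h2
    have h3 : ∑ d, Pb a d * (Pb d a / Pb a a) = (∑ d, Pb a d * Pb d a) / Pb a a := by
      rw [Finset.sum_div]
      refine Finset.sum_congr rfl fun d _ => ?_
      ring
    rw [h3, h2, div_self ha]

end Red

end Cfsg.Agent.Lib.Dade.LT
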