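import Mathlib
import Cfsg.Agent.Lib.Dade.MS

/-!
# The key lemma: fixed points modulo norms of a simple module
-/

set_option autoImplicit false
set_option linter.unusedSectionVars false

namespace Cfsg.Agent.Lib.Dade.MS

open Module MonoidAlgebra Cfsg.Agent.Lib.Dade.MA Cfsg.Agent.Lib.Dade.MTr Cfsg.Agent.Lib.D1.Simple
open scoped BigOperators TensorProduct

universe u v w

variable {G : Type u} [Group G] [Finite G] {k : Type v} [Field k]

/-- The number of cosets in a subgroup. -/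
theorem card_filter_out (H N : Subgroup G) (hHN : H ≤ N) [Fintype (G ⧸ H)] [DecidablePred (· ∈ N)] :
    (Finset.univ.filter fun a : G ⧸ H => a.out ∈ N).card = (H.subgroupOf N).index := by
  classical
  letI : Fintype (N ⧸ H.subgroupOf N) := Fintype.ofFinite _
  rw [Subgroup.index, Nat.card_eq_fintype_card, ← Finset.card_univ]
  symm
  refine Finset.card_bij (fun x _ => (((x.out : N) : G) : G ⧸ H)) ?_ ?_ ?_
  · intro x _
    rw [Finset.mem_filter]
    refine ⟨Finset.mem_univ _, ?_⟩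
    have h1 : (((x.out : N) : G) : G ⧸ H).out⁻¹ * ((x.out : N) : G) ∈ H :=
      QuotientGroup.eq.mp (Quotient.out_eq _)
    have h2 : (((x.out : N) : G) : G ⧸ H).out = ((x.out : N) : G) * ((((x.out : N) : G) : G ⧸ H).out⁻¹ * ((x.out : N) : G))⁻¹ := by
      group
    rw [h2]
    exact N.mul_mem (x.out : N).2 (N.inv_mem (hHN h1))
  · intro x _ y _ hxy
    have h1 := QuotientGroup.eq.mp hxy
    rw [← Quotient.out_eq x, ← Quotient.out_eq y]
    apply QuotientGroup.eq.mpr
    exact Subgroup.mem_subgroupOf.mpr h1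
  · intro a ha
    have ha' := (Finset.mem_filter.mp ha).2
    refine ⟨((⟨a.out, ha'⟩ : N) : N ⧸ H.subgroupOf N), Finset.mem_univ _, ?_⟩
    have h1 : (((⟨a.out, ha'⟩ : N) : N ⧸ H.subgroupOf N).out)⁻¹ * (⟨a.out, ha'⟩ : N) ∈ H.subgroupOf N :=
      QuotientGroup.eq.mp (Quotient.out_eq _)
    have h2 : ((((⟨a.out, ha'⟩ : N) : N ⧸ H.subgroupOf N).out : N) : G)⁻¹ * a.out ∈ H := h1
    have h3 : ((((((⟨a.out, ha'⟩ : N) : N ⧸ H.subgroupOf N).out : N) : G)) : G ⧸ H) = (a.out : G ⧸ H) :=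
      QuotientGroup.eq.mpr h2
    rw [h3]
    exact Quotient.out_eq a

variable {H N Nz D : Subgroup G} {J : Type*} {q : ℕ} {e U P A₀ : MonoidAlgebra k H}
  {θ : MonoidAlgebra k H →ₗ[k] k} {s : Finset J} {a b : J → MonoidAlgebra k H}

namespace MSetup

variable (hS : MSetup H N Nz D q e U P A₀ θ s a b)
variable {S : Type w} [AddCommGroup S] [Module k S] (ρ : Representation k G S)

local notation "O" => Op H.subtype ρ

/-- The span of the translates. -/
def Orb (H N : Subgroup G) (ρ : Representation k G S) (m : S) : Submodule k S :=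
  Submodule.span k {x | ∃ n ∈ N, ∃ y : MonoidAlgebra k H, x = ρ n (Op H.subtype ρ y m)}

include hS

theorem eP' : e * P = P := hS.core.eP

theorem e_a {j : J} (hj : j ∈ s) : e * a j = a j := by
  rw [← hS.core.ecen, ← hS.core.aP j hj, mul_assoc, hS.core.Pe]

theorem b_e {j : J} (hj : j ∈ s) : b j * e = b j := by
  rw [← hS.core.Pb j hj, mul_assoc, hS.core.ecen, ← mul_assoc, hS.core.Pe]

/-- **The key lemma.** -/
theorem key [IsAlgClosed k] [FiniteDimensional k S] [ρ.IsIrreducible] {r : ℕ} (hr : r + 1 ≤ q - 1) {w : S}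
    (hPw : O P w = w) (hw0 : ((O U) ^ (r + 1)) w = 0) {ℓ : S →ₗ[k] k}
    (hℓ : ∀ m, ℓ (((O U) ^ (r + 1)) m) = 0) (hℓ1 : ℓ (((O U) ^ r) w) ≠ 0) {m : S} (hm : m ∈ KK q e U ρ) :
    m ∈ Orb H N ρ (((O U) ^ r) w) ⊔ Nm q U ρ := by
  classical
  letI := Fintype.ofFinite G
  letI : Fintype H := Fintype.ofFinite _
  letI : Fintype (G ⧸ H) := Fintype.ofFinite _
  have hC := hS.core
  have hq := hC.hq
  have hρ1 := rho_mul_inv ρ
  have hρ2 := rho_inv_mul ρ
  set uo := O U with huo
  set po := O P with hpo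
  set eo := O e with heo
  set m0 := (uo ^ r) w with hm0
  have hpu : ∀ i, Commute po (uo ^ i) := fun i => comm_U_pow hS ρ P i
  have hm0u : uo m0 = 0 := by
    rw [hm0, ← Module.End.mul_apply, ← pow_succ']
    exact hw0
  have hm0P : po m0 = m0 := by
    rw [hm0, ← Module.End.mul_apply, (hpu r).eq, Module.End.mul_apply, hPw]
  have hm0K : m0 ∈ KK q e U ρ := by
    refine ⟨hm0u, (mem_range_eo_iff hS ρ).mpr ?_⟩
    have h1 : eo * po = po := by
      rw [heo, hpo, ← map_mul, hC.eP]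
    rw [← hm0P, ← Module.End.mul_apply, h1]
  -- the operator on the chain
  let yW : End k S := ∑ i ∈ Finset.range (r + 1), (ℓ ∘ₗ (uo ^ (r - i))).smulRight ((uo ^ i) w)
  have hyWa : ∀ x, yW x = ∑ i ∈ Finset.range (r + 1), ℓ ((uo ^ (r - i)) x) • (uo ^ i) w := by
    intro x
    simp [yW, LinearMap.sum_apply]
  have hyWu : uo * yW = yW * uo := by
    ext x
    simp only [Module.End.mul_apply, hyWa, map_sum, map_smul]
    rw [Finset.sum_range_succ, Finset.sum_range_succ']
    have h1 : uo ((uo ^ r) w) = 0 := hm0u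
    have h2 : ℓ ((uo ^ (r - 0)) (uo x)) = 0 := by
      rw [Nat.sub_zero, ← Module.End.mul_apply, ← pow_succ]
      exact hℓ x
    simp only [h2, zero_smul, add_zero, Nat.sub_self, pow_zero, Module.End.one_apply, h1, smul_zero]
    refine Finset.sum_congr rfl fun i hi => ?_
    have hi' : i < r := Finset.mem_range.mp hi
    have h3 : r - (i + 1) + 1 = r - i := by omega
    rw [← Module.End.mul_apply uo (uo ^ i), ← pow_succ', ← Module.End.mul_apply (uo ^ (r - (i + 1))) uo,
      ← pow_succ, h3]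
  have hyWk : ∀ x, uo x = 0 → yW x = ℓ x • m0 := by
    intro x hx
    rw [hyWa, Finset.sum_range_succ, Finset.sum_eq_zero, zero_add, Nat.sub_self, pow_zero]
    · rfl
    · intro i hi
      have hi' : i < r := Finset.mem_range.mp hi
      obtain ⟨j, hj⟩ : ∃ j, r - i = j + 1 := ⟨r - i - 1, by omega⟩
      rw [hj, pow_succ, Module.End.mul_apply, hx, map_zero, map_zero, zero_smul]
  have hyWpow : ∀ i, Commute yW (uo ^ i) := fun i => Commute.pow_right (show Commute yW uo from hyWu.symm) i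
  let y1 : End k S := po * yW * po
  have hP2 : po * po = po := by rw [hpo, ← map_mul, hC.P2]
  have hcomW : ∀ y ∈ WW k U P, O y * y1 = y1 * O y := by
    intro y hy
    unfold WW at hy
    induction hy using Submodule.span_induction with
    | mem y hy =>
      obtain ⟨i, rfl⟩ := hy
      simp only [map_mul, map_pow]
      rw [← huo, ← hpo]
      have h1 := (hpu i).eq
      have h2 := (hyWpow i).eq
      calc uo ^ i * po * y1 = uo ^ i * (po * po) * yW * po := by simp only [y1, mul_assoc]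
        _ = uo ^ i * po * yW * po := by rw [hP2]
        _ = po * uo ^ i * yW * po := by rw [h1]
        _ = po * (uo ^ i * yW) * po := by simp only [mul_assoc]
        _ = po * (yW * uo ^ i) * po := by rw [h2]
        _ = po * yW * (uo ^ i * (po * po)) := by
            rw [hP2]
            simp only [mul_assoc]
        _ = po * yW * (po * uo ^ i * po) := by
            rw [h1]
            simp only [mul_assoc]
        _ = y1 * (uo ^ i * po) := by
            simp only [y1, mul_assoc]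
    | zero => simp
    | add y z _ _ hy hz => rw [map_add, add_mul, mul_add, hy, hz]
    | smul c y _ hy => rw [map_smul, smul_mul_assoc, mul_smul_comm, hy]
  let y0 : End k S := ∑ j ∈ s, O (a j) * y1 * O (b j)
  have hy0e : y0 * eo = y0 := by
    simp only [y0]
    rw [Finset.sum_mul]
    refine Finset.sum_congr rfl fun j hj => ?_
    rw [mul_assoc, heo, ← map_mul, b_e hS hj]
  have hey0 : eo * y0 = y0 := by
    simp only [y0]
    rw [Finset.mul_sum]
    refine Finset.sum_congr rfl fun j hj => ?_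
    rw [← mul_assoc, ← mul_assoc, heo, ← map_mul, e_a hS hj]
  have hy0c : ∀ x, O x * y0 = y0 * O x := by
    intro x
    have h1 : ∀ j ∈ s, O x * O (a j) * y1 = ∑ i ∈ s, O (a i) * y1 * O (b i * x * a j) := by
      intro j hj
      have h2 : x * a j = ∑ i ∈ s, a i * (b i * x * a j) := by
        have h3 : e * (x * a j) = x * a j := by
          rw [← mul_assoc, ← hC.ecen, mul_assoc, e_a hS hj]
        rw [← h3, ← hC.sum, Finset.sum_mul]
        refine Finset.sum_congr rfl fun i _ => ?_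
        simp only [mul_assoc]
      rw [← map_mul, h2, map_sum, Finset.sum_mul]
      refine Finset.sum_congr rfl fun i hi => ?_
      rw [map_mul, mul_assoc, hcomW _ (hC.corner_ba hi hj x), ← mul_assoc]
    have h2 : O x * y0 = ∑ j ∈ s, ∑ i ∈ s, O (a i) * y1 * O (b i * x * a j) * O (b j) := by
      simp only [y0]
      rw [Finset.mul_sum]
      refine Finset.sum_congr rfl fun j hj => ?_
      rw [← mul_assoc, ← mul_assoc, h1 j hj, Finset.sum_mul]
    rw [h2, Finset.sum_comm]
    have h3 : ∀ i ∈ s, ∑ j ∈ s, O (a i) * y1 * O (b i * x * a j) * O (b j) = O (a i) * y1 * O (b i) * O x := by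
      intro i hi
      have h4 : ∑ j ∈ s, O (a i) * y1 * O (b i * x * a j) * O (b j) = O (a i) * y1 * O (b i * x) * eo := by
        rw [heo, ← hC.sum, map_sum, Finset.mul_sum]
        refine Finset.sum_congr rfl fun j _ => ?_
        rw [mul_assoc, ← map_mul, mul_assoc (O (a i) * y1), ← map_mul, mul_assoc (b i * x)]
      have h5 : O (b i * x) * eo = O (b i) * O x := by
        rw [heo, ← map_mul, mul_assoc, hC.ecen, ← mul_assoc, b_e hS hi, map_mul]
      rw [h4, mul_assoc, h5]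
      simp only [mul_assoc]
    rw [Finset.sum_congr rfl h3, ← Finset.sum_mul]
  have hy0H : ∀ h ∈ H, ρ h * y0 = y0 * ρ h := by
    intro h hh
    have h1 := hy0c (single ⟨h, hh⟩ 1)
    rw [O_rho hS ρ ⟨h, hh⟩] at h1
    exact h1
  -- the trace
  obtain ⟨instQ, hA₀e⟩ := hS.hA₀e
  have hE : eo = ∑ b : H ⧸ D.subgroupOf H, ρ (b.out : H) * O A₀ * ρ ((b.out : H) : G)⁻¹ := by
    rw [heo, ← hA₀e, map_sum]
    refine Finset.sum_congr rfl fun b _ => ?_
    rw [map_mul, map_mul, O_rho hS ρ, Op_one_single]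
    rfl
  have hA₀o : ∀ d ∈ D, ρ d * O A₀ = O A₀ * ρ d := by
    intro d hd
    have h1 := congrArg O (hS.hA₀ d hd)
    rw [map_mul, map_mul, O_rho hS ρ ⟨d, hS.hDH hd⟩] at h1
    exact h1
  have hoff : ∀ g ∈ Nz, g ∉ N → eo * (ρ g * eo * ρ g⁻¹) = 0 := by
    intro g hg hgN
    rw [heo, ← Op_cjA H ρ g (hS.hNzH hg), ← map_mul, hS.hoff g hg hgN, map_zero]
  obtain ⟨T, f, hT, hTf⟩ := exists_trace_decomp ρ H N Nz D hS.hDH (hS.hHN.trans hS.hNN) hS.hNN hS.hfree (O A₀) eo hA₀o hE
    (fun n hn => eo_comm hS ρ n hn) hoff y0 hy0H hey0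
  obtain ⟨c, hc⟩ := exists_scalar_of_commute ρ T hT
  set y : End k S := ∑ a : G ⧸ H, (if a.out ∈ N then ρ a.out * y0 * ρ a.out⁻¹ else 0) with hy
  set Trf : End k S := ∑ h : H, ρ (h : G) * f * ρ (h : G)⁻¹ with hTrf
  have hee : eo * eo = eo := by rw [heo, ← map_mul, hC.e2]
  have hEy : eo * y = y := by
    rw [hy, Finset.mul_sum]
    refine Finset.sum_congr rfl fun a _ => ?_
    by_cases ha : a.out ∈ N
    · rw [if_pos ha, ← mul_assoc, ← mul_assoc, ← eo_comm hS ρ _ ha, mul_assoc (ρ a.out), hey0]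
    · rw [if_neg ha, mul_zero]
  have hETr : eo * Trf = Trf := by
    have h1 : eo * (y + Trf) = y + Trf := by
      rw [← hTf, ← mul_assoc, hee]
    rw [mul_add, hEy] at h1
    exact add_left_cancel h1
  -- the values on the fixed points
  have hcm : ∀ m' ∈ KK q e U ρ, c • m' = y m' + Trf m' := by
    intro m' hm'
    have h1 := congrArg (fun t : End k S => t m') hTf
    simp only [Module.End.mul_apply, LinearMap.add_apply] at h1
    rw [← h1, hc]
    simp only [LinearMap.smul_apply, Module.End.one_apply, map_smul]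
    rw [eo_of_range hS ρ hm'.2]
  have hTrN : ∀ m' ∈ KK q e U ρ, Trf m' ∈ Nm q U ρ := by
    intro m' hm'
    have h1 := norm_mem hS ρ f (show O U m' = 0 from hm'.1)
    have h2 : eo (Trf m') = Trf m' := by
      have := congrArg (fun t : End k S => t m') hETr
      exact this
    have h3 : Trf m' = ∑ h : H, (ρ (h : G) * f * ρ (h : G)⁻¹) m' := by
      rw [hTrf, LinearMap.sum_apply]
    rw [← h2, h3]
    exact h1
  have hy0K : ∀ m' ∈ KK q e U ρ, y0 m' = ∑ j ∈ s, ℓ (O (b j) m') • O (a j) m0 := by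
    intro m' hm'
    simp only [y0, LinearMap.sum_apply, Module.End.mul_apply, y1]
    refine Finset.sum_congr rfl fun j hj => ?_
    have h1 : po (O (b j) m') = O (b j) m' := by
      rw [← Module.End.mul_apply, hpo, ← map_mul, hC.Pb j hj]
    have h2 : uo (O (b j) m') = 0 := (KK_O hS ρ (b j) hm').1
    rw [h1, hyWk _ h2, map_smul, map_smul, hm0P]
  have hyK : ∀ m' ∈ KK q e U ρ, y m' = ∑ q' : G ⧸ H, if q'.out ∈ N then
      ∑ j ∈ s, ℓ (O (b j) (ρ q'.out⁻¹ m')) • ρ q'.out (O (a j) m0) else 0 := by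
    intro m' hm'
    rw [hy, LinearMap.sum_apply]
    refine Finset.sum_congr rfl fun q' _ => ?_
    by_cases ha : q'.out ∈ N
    · rw [if_pos ha, if_pos ha]
      simp only [Module.End.mul_apply]
      rw [hy0K _ (KK_rho hS ρ (N.inv_mem ha) hm'), map_sum]
      refine Finset.sum_congr rfl fun j _ => ?_
      rw [map_smul]
    · rw [if_neg ha, if_neg ha]
      rfl
  have hyOrb : ∀ m' ∈ KK q e U ρ, y m' ∈ Orb H N ρ m0 := by
    intro m' hm'
    rw [hyK m' hm']
    refine Submodule.sum_mem _ fun q' _ => ?_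
    split_ifs with ha
    · refine Submodule.sum_mem _ fun j _ => Submodule.smul_mem _ _ ?_
      exact Submodule.subset_span ⟨_, ha, a j, rfl⟩
    · exact Submodule.zero_mem _
  have hWm0 : ∀ y' ∈ WW k U P, O y' m0 = θ y' • m0 := by
    intro y' hy'
    obtain ⟨y'', -, e1⟩ := hC.decomp hy'
    conv_lhs => rw [e1]
    rw [map_add, map_smul, LinearMap.add_apply, LinearMap.smul_apply, hm0P, map_mul]
    have h1 : (uo * O y'') m0 = 0 := by
      rw [← comm_U hS ρ y'', Module.End.mul_apply, hm0u, map_zero]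
    rw [h1, add_zero]
  have hℓN : ∀ z ∈ Nm q U ρ, ℓ z = 0 := by
    rintro _ ⟨w', rfl⟩
    obtain ⟨d, hd⟩ : ∃ d, q - 1 = (r + 1) + d := ⟨q - 1 - (r + 1), by omega⟩
    rw [hd, pow_add, Module.End.mul_apply]
    exact hℓ _
  -- the scalar is nonzero
  have hc0 : c ≠ 0 := by
    intro hc0
    let K : Submodule k S := KK q e U ρ
    let v : G ⧸ H → J → K := fun q' j => if ha : q'.out ∈ N then
        ⟨po (ρ q'.out (O (a j) m0)), KK_O hS ρ P (KK_rho hS ρ ha (KK_O hS ρ (a j) hm0K))⟩ else 0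
    let ℓq : G ⧸ H → J → Module.Dual k K := fun q' j => ℓ ∘ₗ O (b j) ∘ₗ ρ q'.out⁻¹ ∘ₗ K.subtype
    let yF : End k K := ∑ q' : G ⧸ H, ∑ j ∈ s, (ℓq q' j).smulRight (v q' j)
    have hyF : ∀ z : K, ((yF z : K) : S) = po (y z) := by
      intro z
      rw [hyK z z.2, map_sum]
      simp only [yF, LinearMap.sum_apply, Submodule.coe_sum]
      refine Finset.sum_congr rfl fun q' _ => ?_
      by_cases ha : q'.out ∈ N
      · rw [if_pos ha, map_sum]
        refine Finset.sum_congr rfl fun j _ => ?_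
        simp only [LinearMap.smulRight_apply, Submodule.coe_smul, v, dif_pos ha, map_smul, ℓq]
        rfl
      · rw [if_neg ha, map_zero]
        refine Finset.sum_eq_zero fun j _ => ?_
        simp [v, ha]
    have hnorm : ∀ z : K, ((yF z : K) : S) ∈ Nm q U ρ := by
      intro z
      rw [hyF]
      have h1 := hcm z z.2
      rw [hc0, zero_smul] at h1
      have h2 : y z = -(Trf z) := eq_neg_of_add_eq_zero_left h1.symm
      rw [h2, map_neg]
      exact Submodule.neg_mem _ (Nm_O hS ρ P (hTrN z z.2))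
    have hkill : ∀ z : K, (z : S) ∈ Nm q U ρ → yF z = 0 := by
      intro z hz
      apply Subtype.ext
      rw [hyF, hyK z z.2]
      rw [map_sum]
      refine (Finset.sum_eq_zero fun q' _ => ?_)
      by_cases ha : q'.out ∈ N
      · rw [if_pos ha, map_sum]
        refine Finset.sum_eq_zero fun j _ => ?_
        have h1 := rho_mem_range_pow hS ρ (N.inv_mem ha) (q - 1) hz
        have h2 := Nm_O hS ρ (b j) h1
        rw [hℓN _ h2, zero_smul, map_zero]
      · rw [if_neg ha, map_zero]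
    have hnil : yF * yF = 0 := by
      ext z
      simp only [Module.End.mul_apply, LinearMap.zero_apply]
      rw [hkill _ (hnorm z)]
    have htr0 : LinearMap.trace k K yF = 0 := by
      have h1 : IsNilpotent yF := ⟨2, by rw [sq, hnil]⟩
      exact (LinearMap.isNilpotent_trace_of_isNilpotent h1).eq_zero
    have hrk : ∀ (f' : Module.Dual k K) (v' : K), LinearMap.trace k K (f'.smulRight v') = f' v' := by
      intro f' v'
      have h2 : f'.smulRight v' = dualTensorHom k K K (f' ⊗ₜ[k] v') := by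
        ext z
        simp [dualTensorHom_apply]
      rw [h2, LinearMap.trace_eq_contract_apply]
      simp only [contractLeft_apply]
    have hterm : ∀ q' : G ⧸ H, ∑ j ∈ s, ℓq q' j (v q' j) = if q'.out ∈ N then ℓ m0 else 0 := by
      intro q'
      by_cases ha : q'.out ∈ N
      · rw [if_pos ha]
        set g := q'.out with hg
        have hg' : g⁻¹ ∈ N := N.inv_mem ha
        set P' := cjA H g⁻¹ (hS.hNzH (hS.hNN hg')) P with hP'
        have h1 : O P' = ρ g⁻¹ * po * ρ g := by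
          rw [hP', Op_cjA, inv_inv]
        have h2 : ∀ j ∈ s, ℓq q' j (v q' j) = θ (b j * P' * a j) • ℓ m0 := by
          intro j hj
          have h3 : ℓq q' j (v q' j) = ℓ (O (b j) (ρ g⁻¹ (po (ρ g (O (a j) m0))))) := by
            have hv : ((v q' j : K) : S) = po (ρ g (O (a j) m0)) := by
              simp only [v]
              rw [dif_pos ha]
            change ℓ (O (b j) (ρ g⁻¹ ((v q' j : K) : S))) = _
            rw [hv]
          have h4 : O (b j) (ρ g⁻¹ (po (ρ g (O (a j) m0)))) = O (b j * P' * a j) m0 := by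
            rw [map_mul, map_mul, h1]
            rfl
          rw [h3, h4, hWm0 _ (by
            have := hC.corner_ba hj hj P'
            exact this), map_smul, smul_eq_mul]
        rw [Finset.sum_congr rfl h2, ← Finset.sum_smul, ← map_sum]
        have h5 : ∑ j ∈ s, b j * P' * a j = ∑ j ∈ s, b j * P' * a j := rfl
        have h6 : θ (∑ j ∈ s, b j * P' * a j) = 1 := by
          rw [map_sum]
          have h7 : ∀ j ∈ s, θ (b j * P' * a j) = θ (P' * (a j * b j)) := by
            intro j _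
            rw [mul_assoc, hC.θc, mul_assoc]
          rw [Finset.sum_congr rfl h7, ← map_sum, ← Finset.mul_sum, hC.sum]
          have h8 : P' * e = P' := by
            have h9 := hS.hce g⁻¹ hg'
            calc P' * e = cjA H g⁻¹ (hS.hNzH (hS.hNN hg')) P * cjA H g⁻¹ (hS.hNzH (hS.hNN hg')) e := by rw [h9]
              _ = cjA H g⁻¹ (hS.hNzH (hS.hNN hg')) (P * e) := (map_mul _ _ _).symm
              _ = P' := by rw [hC.Pe]
          rw [h8, hP', hS.hcθ g⁻¹ hg', hC.θP]
        rw [h6, one_smul]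
      · rw [if_neg ha]
        refine Finset.sum_eq_zero fun j _ => ?_
        simp [v, ha]
    have htr1 : LinearMap.trace k K yF = ((H.subgroupOf N).index : k) * ℓ m0 := by
      simp only [yF, map_sum, hrk]
      simp only [hterm]
      rw [← card_filter_out H N hS.hHN, Finset.sum_ite, Finset.sum_const_zero, add_zero, Finset.sum_const, nsmul_eq_mul]
    rw [htr1] at htr0
    exact (mul_ne_zero hS.hidx hℓ1) htr0
  have h1 : m = c⁻¹ • (y m + Trf m) := by
    rw [← hcm m hm, smul_smul, inv_mul_cancel₀ hc0, one_smul]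
  rw [h1]
  apply Submodule.smul_mem
  exact Submodule.add_mem _ (Submodule.mem_sup_left (hyOrb m hm)) (Submodule.mem_sup_right (hTrN m hm))

theorem comm_U_pow' (x : MonoidAlgebra k H) (r : ℕ) (m : S) : O x (((O U) ^ r) m) = ((O U) ^ r) (O x m) := by
  have h1 := congrArg (fun f : End k S => f m) (comm_U_pow hS ρ x r)
  simpa only [Module.End.mul_apply] using h1

theorem O_mem_of_stable [Fintype H] {X : Submodule k S} (hXN : ∀ n ∈ N, ∀ m ∈ X, ρ n m ∈ X) (x : MonoidAlgebra k H)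
    {m : S} (hm : m ∈ X) : O x m ∈ X := by
  rw [Op_apply, LinearMap.sum_apply]
  refine Submodule.sum_mem _ fun h _ => ?_
  rw [LinearMap.smul_apply]
  exact Submodule.smul_mem _ _ (hXN _ (hS.hHN h.2) m hm)

/-- **The quotient of the fixed points by the norms is simple.** -/
theorem le_sup_of_not_le [IsAlgClosed k] [FiniteDimensional k S] [ρ.IsIrreducible] (X : Submodule k S)
    (hXN : ∀ n ∈ N, ∀ m ∈ X, ρ n m ∈ X) (hXle : X ≤ KK q e U ρ) (hne : ¬ X ≤ Nm q U ρ) :
    KK q e U ρ ≤ X ⊔ Nm q U ρ := by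
  classical
  letI : Fintype H := Fintype.ofFinite _
  have hC := hS.core
  have hq := hC.hq
  set uo := O U with huo
  set Nm' := Nm q U ρ with hNm
  let K : ℕ → Submodule k S := fun r => KK q e U ρ ⊓ LinearMap.range (uo ^ r)
  have hKO : ∀ r (x : MonoidAlgebra k H), ∀ m ∈ K r, O x m ∈ K r := by
    rintro r x m ⟨hm1, w, rfl⟩
    refine ⟨KK_O hS ρ x hm1, O x w, ?_⟩
    exact (comm_U_pow' hS ρ x r w).symm
  have hKN : ∀ r, ∀ n ∈ N, ∀ m ∈ K r, ρ n m ∈ K r := by
    rintro r n hn m ⟨hm1, hm2⟩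
    exact ⟨KK_rho hS ρ hn hm1, rho_mem_range_pow hS ρ hn r hm2⟩
  have hNK : ∀ r, r ≤ q - 1 → Nm' ≤ K r := by
    intro r hr m hm
    refine ⟨Nm_le_KK hS ρ hm, ?_⟩
    obtain ⟨b', rfl⟩ := hm
    obtain ⟨d, hd⟩ : ∃ d, q - 1 = r + d := ⟨q - 1 - r, by omega⟩
    rw [hd, pow_add, Module.End.mul_apply]
    exact ⟨_, rfl⟩
  have hex : ∃ r, ¬ K r ≤ Nm' := by
    refine ⟨0, fun h => hne ?_⟩
    intro m hm
    exact h ⟨hXle hm, by simp⟩
  have hbd : ∀ r, ¬ K r ≤ Nm' → r < q - 1 := by
    intro r hr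
    by_contra hc
    apply hr
    intro m hm
    obtain ⟨b', rfl⟩ := hm.2
    obtain ⟨d, hd⟩ : ∃ d, r = (q - 1) + d := ⟨r - (q - 1), by omega⟩
    rw [hd, pow_add, Module.End.mul_apply]
    exact ⟨_, rfl⟩
  obtain ⟨r, hr, hrmax⟩ : ∃ r, ¬ K r ≤ Nm' ∧ ∀ t, r < t → K t ≤ Nm' := by
    let r := Nat.findGreatest (fun r => ¬ K r ≤ Nm') (q - 1)
    obtain ⟨r0, hr0⟩ := hex
    have h1 : ¬ K r ≤ Nm' := Nat.findGreatest_spec (P := fun r => ¬ K r ≤ Nm') (hbd r0 hr0).le hr0
    refine ⟨r, h1, fun t ht => ?_⟩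
    by_contra hc
    have h2 := hbd t hc
    have h3 := Nat.le_findGreatest (P := fun r => ¬ K r ≤ Nm') h2.le hc
    exact absurd h3 (by omega)
  have hrlt := hbd r hr
  have hkey : ∀ m0 ∈ K r, m0 ∉ Nm' → KK q e U ρ ≤ Orb H N ρ m0 ⊔ Nm' := by
    intro m0 hm0 hm0N m hm
    -- pass to the corner
    obtain ⟨j, hj, hjN⟩ : ∃ j ∈ s, O (b j) m0 ∉ Nm' := by
      by_contra hcon
      push Not at hcon
      apply hm0N
      have h1 : m0 = ∑ j ∈ s, O (a j) (O (b j) m0) := by
        conv_lhs => rw [← eo_of_range hS ρ hm0.1.2]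
        rw [← hC.sum, map_sum, LinearMap.sum_apply]
        refine Finset.sum_congr rfl fun j _ => ?_
        rw [map_mul]
        rfl
      rw [h1]
      exact Submodule.sum_mem _ fun j hj => Nm_O hS ρ (a j) (hcon j hj)
    obtain ⟨hm01, w, hw⟩ := hm0
    set m1 := O (b j) m0 with hm1
    set w' := O (b j) w with hw'
    have h1 : m1 = (uo ^ r) w' := by
      rw [hm1, ← hw]
      exact comm_U_pow' hS ρ (b j) r w
    have hPw : O P w' = w' := by
      rw [hw', ← Module.End.mul_apply, ← map_mul, hC.Pb j hj]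
    have hm1K : m1 ∈ KK q e U ρ := KK_O hS ρ (b j) hm01
    have hw0 : (uo ^ (r + 1)) w' = 0 := by
      rw [pow_succ', Module.End.mul_apply, ← h1]
      exact hm1K.1
    have hnot : (uo ^ r) w' ∉ LinearMap.range (uo ^ (r + 1)) := by
      rw [← h1]
      exact fun h => hjN (hrmax (r + 1) (by omega) ⟨hm1K, h⟩)
    obtain ⟨ℓ, hℓ1, hℓ2⟩ := Submodule.exists_le_ker_of_notMem hnot
    have h2 := key hS ρ (r := r) (by omega) (w := w') hPw hw0 (ℓ := ℓ) (fun m => hℓ2 ⟨m, rfl⟩) hℓ1 hm
    rw [← h1] at h2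
    have h3 : Orb H N ρ m1 ≤ Orb H N ρ m0 := by
      apply Submodule.span_le.mpr
      rintro _ ⟨n, hn, y, rfl⟩
      refine Submodule.subset_span ⟨n, hn, y * b j, ?_⟩
      rw [map_mul]
      rfl
    exact (sup_le_sup_right h3 _) h2
  obtain ⟨m1, hm1, hm1N⟩ := SetLike.not_le_iff_exists.mp hr
  have horb : ∀ m0 ∈ K r, Orb H N ρ m0 ≤ K r := by
    intro m0 hm0
    apply Submodule.span_le.mpr
    rintro _ ⟨n, hn, y, rfl⟩
    exact hKN r n hn _ (hKO r y m0 hm0)
  have hker : KK q e U ρ ≤ K r := (hkey m1 hm1 hm1N).trans (sup_le (horb m1 hm1) (hNK r hrlt.le))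
  obtain ⟨m2, hm2, hm2N⟩ := SetLike.not_le_iff_exists.mp hne
  refine (hkey m2 (hker (hXle hm2)) hm2N).trans (sup_le_sup_right ?_ _)
  apply Submodule.span_le.mpr
  rintro _ ⟨n, hn, y, rfl⟩
  exact hXN n hn _ (O_mem_of_stable hS ρ hXN y hm2)

end MSetup

/-- A stable embedding of an `N`-module. -/
structure StableEmb {T : Type*} [AddCommGroup T] [Module k T] {S : Type*} [AddCommGroup S] [Module k S]
    (q : ℕ) (e U : MonoidAlgebra k H) (ρ : Representation k G S) (N : Subgroup G) (τ : Representation k N T)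
    (ι : T →ₗ[k] S) : Prop where
  equiv : ∀ (n : N) (t : T), ι (τ n t) = ρ (n : G) (ι t)
  fix : ∀ t, ι t ∈ MSetup.KK q e U ρ
  stable : ∀ t, ι t ∈ MSetup.Nm q U ρ → t = 0

namespace MSetup

variable (hS : MSetup H N Nz D q e U P A₀ θ s a b)
variable {S : Type w} [AddCommGroup S] [Module k S] (ρ : Representation k G S)

local notation "O" => Op H.subtype ρ

include hS

/-- The range of a stable embedding covers the fixed points modulo norms. -/
theorem ker_le_of_stableEmb [IsAlgClosed k] [FiniteDimensional k S] [ρ.IsIrreducible] {T : Type*} [AddCommGroup T]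
    [Module k T] [Nontrivial T] {τ : Representation k N T} {ι : T →ₗ[k] S} (h : StableEmb q e U ρ N τ ι) :
    KK q e U ρ ≤ LinearMap.range ι ⊔ Nm q U ρ := by
  apply le_sup_of_not_le hS
  · rintro n hn _ ⟨t, rfl⟩
    exact ⟨τ ⟨n, hn⟩ t, h.equiv ⟨n, hn⟩ t⟩
  · rintro _ ⟨t, rfl⟩
    exact h.fix t
  · intro hle
    obtain ⟨t, ht⟩ := exists_ne (0 : T)
    exact ht (h.stable t (hle ⟨t, rfl⟩))

theorem range_mk_of_stableEmb [IsAlgClosed k] [FiniteDimensional k S] [ρ.IsIrreducible] {T : Type*} [AddCommGroup T]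
    [Module k T] [Nontrivial T] {τ : Representation k N T} {ι : T →ₗ[k] S} (h : StableEmb q e U ρ N τ ι) :
    LinearMap.range ((Nm q U ρ).mkQ ∘ₗ ι) = (KK q e U ρ).map (Nm q U ρ).mkQ := by
  apply le_antisymm
  · rintro _ ⟨t, rfl⟩
    exact ⟨ι t, h.fix t, rfl⟩
  · rintro _ ⟨m, hm, rfl⟩
    obtain ⟨a', ha, b', hb, rfl⟩ := Submodule.mem_sup.mp (ker_le_of_stableEmb hS ρ h hm)
    obtain ⟨t, rfl⟩ := ha
    refine ⟨t, ?_⟩
    simp only [LinearMap.comp_apply, map_add]
    have : (Nm q U ρ).mkQ b' = 0 := (Submodule.Quotient.mk_eq_zero _).mpr hb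
    rw [this, add_zero]

/-- **Two stable embeddings into a simple module come from isomorphic modules.** -/
theorem exists_equiv [IsAlgClosed k] [FiniteDimensional k S] [ρ.IsIrreducible] {T₁ T₂ : Type*} [AddCommGroup T₁]
    [Module k T₁] [Nontrivial T₁] [AddCommGroup T₂] [Module k T₂] [Nontrivial T₂] {τ₁ : Representation k N T₁}
    {τ₂ : Representation k N T₂} {ι₁ : T₁ →ₗ[k] S} {ι₂ : T₂ →ₗ[k] S} (h₁ : StableEmb q e U ρ N τ₁ ι₁)
    (h₂ : StableEmb q e U ρ N τ₂ ι₂) : ∃ φ : T₁ ≃ₗ[k] T₂, ∀ (n : N) t, φ (τ₁ n t) = τ₂ n (φ t) := by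
  classical
  set Nm' := Nm q U ρ with hNm
  let mk := Nm'.mkQ
  let j₁ : T₁ →ₗ[k] S ⧸ Nm' := mk ∘ₗ ι₁
  let j₂ : T₂ →ₗ[k] S ⧸ Nm' := mk ∘ₗ ι₂
  have hj₁ : Function.Injective j₁ := by
    rw [← LinearMap.ker_eq_bot, LinearMap.ker_eq_bot']
    intro t ht
    apply h₁.stable
    exact (Submodule.Quotient.mk_eq_zero _).mp ht
  have hj₂ : Function.Injective j₂ := by
    rw [← LinearMap.ker_eq_bot, LinearMap.ker_eq_bot']
    intro t ht
    apply h₂.stable
    exact (Submodule.Quotient.mk_eq_zero _).mp ht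
  have hr : LinearMap.range j₁ = LinearMap.range j₂ :=
    (range_mk_of_stableEmb hS ρ h₁).trans (range_mk_of_stableEmb hS ρ h₂).symm
  let e' : T₁ ≃ₗ[k] T₂ := (LinearEquiv.ofInjective j₁ hj₁).trans
    ((LinearEquiv.ofEq _ _ hr).trans (LinearEquiv.ofInjective j₂ hj₂).symm)
  have he : ∀ t, j₂ (e' t) = j₁ t := by
    intro t
    have := (LinearEquiv.ofInjective j₂ hj₂).apply_symm_apply
      (LinearEquiv.ofEq _ _ hr (LinearEquiv.ofInjective j₁ hj₁ t))
    exact congrArg Subtype.val this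
  refine ⟨e', fun n t => ?_⟩
  have hnm : ∀ v ∈ Nm', ρ (n : G) v ∈ Nm' := fun v hv => rho_mem_range_pow hS ρ n.2 _ hv
  apply hj₂
  rw [he]
  have h1 : j₁ t = j₂ (e' t) := (he t).symm
  have h2 : ι₁ t - ι₂ (e' t) ∈ Nm' := by
    have : mk (ι₁ t) = mk (ι₂ (e' t)) := h1
    exact (Submodule.Quotient.eq _).mp this
  have h3 := hnm _ h2
  change mk (ι₁ (τ₁ n t)) = mk (ι₂ (τ₂ n (e' t)))
  rw [h₁.equiv, h₂.equiv]
  apply (Submodule.Quotient.eq _).mpr
  rw [← map_sub]
  exact h3

end MSetup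

end Cfsg.Agent.Lib.Dade.MS
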