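import Mathlib
import Cfsg.Agent.Lib.Dade.MK
import Cfsg.Agent.Lib.D1.Comp

/-!
# Passing a stable embedding to a composition factor
-/

set_option autoImplicit false
set_option linter.unusedSectionVars false

namespace Cfsg.Agent.Lib.Dade.MS

open Module MonoidAlgebra Cfsg.Agent.Lib.Dade.MA Cfsg.Agent.Lib.Dade.MTr Cfsg.Agent.Lib.D1.Simple
open Cfsg.Agent.Lib.D1.Comp
open scoped BigOperators

universe u v w w'

variable {G : Type u} [Group G] [Finite G] {k : Type v} [Field k]
variable {H N Nz D : Subgroup G} {J : Type*} {q : ℕ} {e U P A₀ : MonoidAlgebra k H}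
  {θ : MonoidAlgebra k H →ₗ[k] k} {s : Finset J} {a b : J → MonoidAlgebra k H}

section OpSub

variable {R : Type*} [AddCommGroup R] [Module k R] (ρ : Representation k G R)

theorem Op_sub (W : Subrepresentation ρ) (x : MonoidAlgebra k H) (v : W.toSubmodule) :
    ((Op H.subtype W.toRepresentation x v : W.toSubmodule) : R) = Op H.subtype ρ x (v : R) := by
  induction x using MonoidAlgebra.induction_linear with
  | zero => simp
  | add x y hx hy =>
    rw [map_add, map_add, LinearMap.add_apply, LinearMap.add_apply, Submodule.coe_add, hx, hy]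
  | single h c =>
    rw [Op_single, Op_single, LinearMap.smul_apply, LinearMap.smul_apply, Submodule.coe_smul]
    rfl

theorem Op_quot (W : Submodule k R) (hW : ∀ g, W ≤ W.comap (ρ g)) (x : MonoidAlgebra k H) (v : R) :
    Op H.subtype (ρ.quotient W hW) x (W.mkQ v) = W.mkQ (Op H.subtype ρ x v) := by
  induction x using MonoidAlgebra.induction_linear with
  | zero => simp
  | add x y hx hy =>
    rw [map_add, map_add, LinearMap.add_apply, LinearMap.add_apply, hx, hy, map_add]
  | single h c =>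
    rw [Op_single, Op_single, LinearMap.smul_apply, LinearMap.smul_apply, map_smul]
    rfl

end OpSub

/-- The data of a simple `N`-module with a line cut out by `P`. -/
structure TData {T : Type*} [AddCommGroup T] [Module k T] (hHN : H ≤ N) (e U P : MonoidAlgebra k H)
    (τ : Representation k N T) (t₀ : T) (ℓ₀ : T →ₗ[k] k) : Prop where
  he : Op (Subgroup.inclusion hHN) τ e = 1
  hU : Op (Subgroup.inclusion hHN) τ U = 0
  hP : ∀ t, Op (Subgroup.inclusion hHN) τ P t = ℓ₀ t • t₀
  h1 : ℓ₀ t₀ = 1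

/-- The map attached to an element of the corner. -/
noncomputable def sOf {T R : Type*} [AddCommGroup T] [Module k T] [AddCommGroup R] [Module k R] (hHN : H ≤ N)
    (τ : Representation k N T) (ℓ₀ : T →ₗ[k] k) (s : Finset J) (a b : J → MonoidAlgebra k H)
    (ρ : Representation k G R) (w₀ : R) : T →ₗ[k] R :=
  ∑ j ∈ s, (ℓ₀ ∘ₗ Op (Subgroup.inclusion hHN) τ (b j)).smulRight (Op H.subtype ρ (a j) w₀)

section Main

variable (hS : MSetup H N Nz D q e U P A₀ θ s a b)
variable {T : Type w} [AddCommGroup T] [Module k T] {τ : Representation k N T} {t₀ : T} {ℓ₀ : T →ₗ[k] k}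
variable (hT : TData hS.hHN e U P τ t₀ ℓ₀)
variable {R : Type w'} [AddCommGroup R] [Module k R] (ρ : Representation k G R)

local notation "O" => Op H.subtype ρ
local notation "Ot" => Op (Subgroup.inclusion hS.hHN) τ

include hS hT

theorem Ot_W {y : MonoidAlgebra k H} (hy : y ∈ WW k U P) : Ot y = θ y • Ot P := by
  obtain ⟨y', -, e1⟩ := hS.core.decomp hy
  conv_lhs => rw [e1]
  rw [map_add, map_smul, map_mul, hT.hU, zero_mul, add_zero]

omit hT in
omit [Module k T] [AddCommGroup T] in
theorem O_W {w₀ : R} (hu : O U w₀ = 0) (hp : O P w₀ = w₀) {y : MonoidAlgebra k H} (hy : y ∈ WW k U P) :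
    O y w₀ = θ y • w₀ := by
  obtain ⟨y', -, e1⟩ := hS.core.decomp hy
  conv_lhs => rw [e1]
  rw [map_add, map_smul, LinearMap.add_apply, LinearMap.smul_apply, hp, map_mul]
  have h1 : (O U * O y') w₀ = 0 := by
    rw [← MSetup.comm_U hS ρ y', Module.End.mul_apply, hu, map_zero]
  rw [h1, add_zero]

theorem Ot_P_b {j : J} (hj : j ∈ s) (t : T) : Ot (b j) t = ℓ₀ (Ot (b j) t) • t₀ := by
  rw [← hT.hP, ← Module.End.mul_apply, ← map_mul, hS.core.Pb j hj]

omit hT in
omit [Finite G] in
theorem sOf_apply (w₀ : R) (t : T) : sOf hS.hHN τ ℓ₀ s a b ρ w₀ t = ∑ j ∈ s, ℓ₀ (Ot (b j) t) • O (a j) w₀ := by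
  simp [sOf, LinearMap.sum_apply]

/-- **The map attached to an element of the corner is `H`-linear.** -/
theorem sOf_equiv {w₀ : R} (hu : O U w₀ = 0) (hp : O P w₀ = w₀) (x : MonoidAlgebra k H) (t : T) :
    sOf hS.hHN τ ℓ₀ s a b ρ w₀ (Ot x t) = O x (sOf hS.hHN τ ℓ₀ s a b ρ w₀ t) := by
  classical
  have hC := hS.core
  have h1 : ∀ i ∈ s, Ot (b i) (Ot x t) = ∑ j ∈ s, θ (b i * x * a j) • Ot (b j) t := by
    intro i hi
    have h2 : Ot (b i) (Ot x t) = Ot (b i * x) t := by
      rw [map_mul]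
      rfl
    have h3 : b i * x = ∑ j ∈ s, b i * x * a j * b j := by
      have h4 : b i * x * e = b i * x := by
        rw [mul_assoc, hC.ecen, ← mul_assoc, MSetup.b_e hS hi]
      calc b i * x = b i * x * e := h4.symm
        _ = b i * x * ∑ j ∈ s, a j * b j := by rw [hC.sum]
        _ = _ := by
          rw [Finset.mul_sum]
          refine Finset.sum_congr rfl fun j _ => ?_
          simp only [mul_assoc]
    rw [h2]
    conv_lhs => rw [h3]
    rw [map_sum, LinearMap.sum_apply]
    refine Finset.sum_congr rfl fun j hj => ?_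
    rw [map_mul, Module.End.mul_apply, Ot_W hS hT (hC.corner_ba hi hj x), LinearMap.smul_apply,
      ← Module.End.mul_apply (Ot P), ← map_mul, hC.Pb j hj]
  have h2 : ∀ j ∈ s, O x (O (a j) w₀) = ∑ i ∈ s, θ (b i * x * a j) • O (a i) w₀ := by
    intro j hj
    have h3 : x * a j = ∑ i ∈ s, a i * (b i * x * a j) := by
      have h4 : e * (x * a j) = x * a j := by
        rw [← mul_assoc, ← hC.ecen, mul_assoc, MSetup.e_a hS hj]
      calc x * a j = e * (x * a j) := h4.symm
        _ = (∑ i ∈ s, a i * b i) * (x * a j) := by rw [hC.sum]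
        _ = _ := by
          rw [Finset.sum_mul]
          refine Finset.sum_congr rfl fun i _ => ?_
          simp only [mul_assoc]
    rw [← Module.End.mul_apply, ← map_mul, h3, map_sum, LinearMap.sum_apply]
    refine Finset.sum_congr rfl fun i hi => ?_
    rw [map_mul, Module.End.mul_apply, O_W hS ρ hu hp (hC.corner_ba hi hj x), map_smul]
  rw [sOf_apply hS, sOf_apply hS, map_sum]
  have h3 : ∀ i ∈ s, ℓ₀ (Ot (b i) (Ot x t)) • O (a i) w₀ =
      ∑ j ∈ s, (θ (b i * x * a j) * ℓ₀ (Ot (b j) t)) • O (a i) w₀ := by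
    intro i hi
    rw [h1 i hi, map_sum, Finset.sum_smul]
    refine Finset.sum_congr rfl fun j _ => ?_
    rw [map_smul, smul_eq_mul]
  have h4 : ∀ j ∈ s, O x (ℓ₀ (Ot (b j) t) • O (a j) w₀) =
      ∑ i ∈ s, (θ (b i * x * a j) * ℓ₀ (Ot (b j) t)) • O (a i) w₀ := by
    intro j hj
    rw [map_smul, h2 j hj, Finset.smul_sum]
    refine Finset.sum_congr rfl fun i _ => ?_
    rw [smul_smul, mul_comm]
  rw [Finset.sum_congr rfl h3, Finset.sum_congr rfl h4, Finset.sum_comm]

/-- An `H`-linear map from `T` is determined by its value at `t₀`. -/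
theorem eq_sOf {ι : T →ₗ[k] R} (hι : ∀ (x : MonoidAlgebra k H) t, ι (Ot x t) = O x (ι t)) (t : T) :
    ι t = sOf hS.hHN τ ℓ₀ s a b ρ (ι t₀) t := by
  have hC := hS.core
  have h1 : Ot e t = t := by
    rw [hT.he]
    rfl
  have hes : Ot e = ∑ j ∈ s, Ot (a j) * Ot (b j) := by
    have h2 := congrArg Ot hC.sum
    rw [map_sum] at h2
    rw [← h2]
    exact Finset.sum_congr rfl fun j _ => map_mul _ _ _
  conv_lhs => rw [← h1]
  rw [hes, LinearMap.sum_apply, map_sum, sOf_apply hS]
  refine Finset.sum_congr rfl fun j hj => ?_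
  rw [Module.End.mul_apply, hι, Ot_P_b hS hT hj t, map_smul, map_smul, ← Ot_P_b hS hT hj t]

/-- `H`-linearity for the elements of the group algebra. -/
theorem equiv_Op {ι : T →ₗ[k] R} (hι : ∀ (h : H) t, ι (τ (Subgroup.inclusion hS.hHN h) t) = ρ (h : G) (ι t))
    (x : MonoidAlgebra k H) (t : T) : ι (Ot x t) = O x (ι t) := by
  induction x using MonoidAlgebra.induction_linear with
  | zero => simp
  | add x y hx hy =>
    rw [map_add, map_add, LinearMap.add_apply, LinearMap.add_apply, map_add, hx, hy]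
  | single h c =>
    rw [Op_single, Op_single, LinearMap.smul_apply, LinearMap.smul_apply, map_smul, hι]
    rfl

/-- `T` has no proper submodules containing a nonzero vector. -/
theorem t₀_mem {X : Submodule k T} (hX : ∀ (n : N), ∀ t ∈ X, τ n t ∈ X) {x : T} (hx : x ∈ X) (hx0 : x ≠ 0) : t₀ ∈ X := by
  classical
  letI : Fintype H := Fintype.ofFinite _
  have hC := hS.core
  have h1 : Ot e x = x := by
    rw [hT.he]
    rfl
  have hO : ∀ (y : MonoidAlgebra k H), Ot y x ∈ X := by
    intro y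
    rw [Op_apply, LinearMap.sum_apply]
    exact Submodule.sum_mem _ fun h _ => Submodule.smul_mem _ _ (hX _ _ hx)
  obtain ⟨j, hj, hj0⟩ : ∃ j ∈ s, Ot (b j) x ≠ 0 := by
    by_contra hcon
    push Not at hcon
    apply hx0
    have hes : Ot e = ∑ j ∈ s, Ot (a j) * Ot (b j) := by
      have h2 := congrArg Ot hC.sum
      rw [map_sum] at h2
      rw [← h2]
      exact Finset.sum_congr rfl fun j _ => map_mul _ _ _
    rw [← h1, hes, LinearMap.sum_apply]
    refine Finset.sum_eq_zero fun j hj => ?_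
    rw [Module.End.mul_apply, hcon j hj, map_zero]
  have h2 := Ot_P_b hS hT hj x
  have h3 : ℓ₀ (Ot (b j) x) ≠ 0 := by
    intro h0
    rw [h0, zero_smul] at h2
    exact hj0 h2
  have h4 := X.smul_mem (ℓ₀ (Ot (b j) x))⁻¹ (hO (b j))
  have h5 : (ℓ₀ (Ot (b j) x))⁻¹ • Ot (b j) x = t₀ := by
    obtain ⟨c, hc⟩ : ∃ c, c = ℓ₀ (Ot (b j) x) := ⟨_, rfl⟩
    rw [← hc] at h2 h3 ⊢
    rw [h2, smul_smul, inv_mul_cancel₀ h3, one_smul]
  rwa [h5] at h4

omit hT in
omit [Module k T] [AddCommGroup T] in
theorem O_mem_W [Fintype H] (W : Subrepresentation ρ) (x : MonoidAlgebra k H) {m : R} (hm : m ∈ W.toSubmodule) :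
    O x m ∈ W.toSubmodule := by
  rw [Op_apply, LinearMap.sum_apply]
  exact Submodule.sum_mem _ fun h _ => Submodule.smul_mem _ _ (W.apply_mem_toSubmodule _ hm)

/-- The step: passing to a subrepresentation or a quotient. -/
theorem step {ι : T →ₗ[k] R} (h : StableEmb q e U ρ N τ ι) (W : Subrepresentation ρ) :
    (∃ ι' : T →ₗ[k] W.toSubmodule, StableEmb q e U W.toRepresentation N τ ι') ∨
      (∃ ι' : T →ₗ[k] R ⧸ W.toSubmodule,
        StableEmb q e U (ρ.quotient W.toSubmodule (fun g v hv => W.apply_mem_toSubmodule g hv)) N τ ι') := by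
  classical
  letI : Fintype H := Fintype.ofFinite _
  have hC := hS.core
  let ρq := ρ.quotient W.toSubmodule (fun g v hv => W.apply_mem_toSubmodule g hv)
  let mk := W.toSubmodule.mkQ
  have hqx : ∀ (g : G) (v : R), ρq g (mk v) = mk (ρ g v) := fun g v => rfl
  have hqO : ∀ (x : MonoidAlgebra k H) (v : R), Op H.subtype ρq x (mk v) = mk (O x v) :=
    fun x v => Op_quot ρ _ _ x v
  have hqUp : ∀ (r : ℕ) (v : R), ((Op H.subtype ρq U) ^ r) (mk v) = mk (((O U) ^ r) v) := by
    intro r v
    rw [← map_pow, ← map_pow, hqO]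
  by_cases hcase : ∀ t, mk (ι t) ∈ MSetup.Nm q U ρq → t = 0
  · right
    refine ⟨mk ∘ₗ ι, ?_, ?_, hcase⟩
    · intro n t
      simp only [LinearMap.comp_apply, h.equiv]
      rfl
    · intro t
      obtain ⟨h1, h2⟩ := h.fix t
      refine ⟨?_, ?_⟩
      · have h1' : O U (ι t) = 0 := h1
        change Op H.subtype ρq U (mk (ι t)) = 0
        rw [hqO, h1', map_zero]
      · obtain ⟨w, hw⟩ := h2
        exact ⟨mk w, by
          have h3 := hqO e w
          rw [hw] at h3
          exact h3⟩
  · left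
    push Not at hcase
    obtain ⟨t₁, ht₁, ht₁'⟩ := hcase
    let X : Submodule k T := (MSetup.Nm q U ρq).comap (mk ∘ₗ ι)
    have hXN : ∀ (n : N), ∀ t ∈ X, τ n t ∈ X := by
      intro n t ht
      change mk (ι (τ n t)) ∈ MSetup.Nm q U ρq
      rw [h.equiv, ← hqx]
      exact MSetup.rho_mem_range_pow hS ρq n.2 _ ht
    have ht₀X : t₀ ∈ X := t₀_mem hS hT hXN (x := t₁) ht₁ ht₁'
    obtain ⟨r', hr'⟩ : mk (ι t₀) ∈ MSetup.Nm q U ρq := ht₀X
    obtain ⟨r, rfl⟩ := Submodule.mkQ_surjective _ r'
    have hw₁ : ι t₀ - ((O U) ^ (q - 1)) r ∈ W.toSubmodule := by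
      have h2 : mk (((O U) ^ (q - 1)) r) = mk (ι t₀) := by
        rw [← hqUp]
        exact hr'
      have h3 := (Submodule.Quotient.eq _).mp h2
      rw [← neg_sub]
      exact Submodule.neg_mem _ h3
    have hιO : ∀ (x : MonoidAlgebra k H) (t : T), ι (Ot x t) = O x (ι t) :=
      equiv_Op hS hT ρ (fun h' t => h.equiv _ t)
    have hPt₀ : O P (ι t₀) = ι t₀ := by
      rw [← hιO, hT.hP, hT.h1, one_smul]
    set w₀ : R := ι t₀ - ((O U) ^ (q - 1)) (O P r) with hw₀
    have hw₀W : w₀ ∈ W.toSubmodule := by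
      have h2 := O_mem_W hS ρ W P hw₁
      rw [map_sub, hPt₀, MSetup.comm_U_pow' hS ρ P (q - 1) r] at h2
      exact h2
    have huι : O U (ι t₀) = 0 := (h.fix t₀).1
    have hu : O U w₀ = 0 := by
      rw [hw₀, map_sub, huι, zero_sub, ← Module.End.mul_apply, ← pow_succ',
        Nat.sub_add_cancel (by have := hC.hq; omega), MSetup.Uo_pow_q hS ρ]
      simp
    have hp : O P w₀ = w₀ := by
      have hPP : O P (O P r) = O P r := by
        rw [← Module.End.mul_apply, ← map_mul, hC.P2]
      rw [hw₀, map_sub, hPt₀, MSetup.comm_U_pow' hS ρ P (q - 1) (O P r), hPP]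
    let s₀ : T →ₗ[k] R := sOf hS.hHN τ ℓ₀ s a b ρ w₀
    have hs₀W : ∀ t, s₀ t ∈ W.toSubmodule := by
      intro t
      change sOf hS.hHN τ ℓ₀ s a b ρ w₀ t ∈ _
      rw [sOf_apply hS]
      exact Submodule.sum_mem _ fun j _ => Submodule.smul_mem _ _ (O_mem_W hS ρ W _ hw₀W)
    have hs₀eq : ∀ (x : MonoidAlgebra k H) (t : T), s₀ (Ot x t) = O x (s₀ t) :=
      fun x t => sOf_equiv hS hT ρ hu hp x t
    have hs₀H : ∀ (h' : H) (y : T), s₀ (τ (Subgroup.inclusion hS.hHN h') y) = ρ (h' : G) (s₀ y) := by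
      intro h' y
      have h2 := hs₀eq (single h' 1) y
      rwa [Op_one_single, Op_one_single] at h2
    have hs₀N : ∀ t, ι t - s₀ t ∈ MSetup.Nm q U ρ := by
      intro t
      have h1 : ι t = sOf hS.hHN τ ℓ₀ s a b ρ (ι t₀) t := eq_sOf hS hT ρ hιO t
      have h2 : ι t₀ - w₀ = ((O U) ^ (q - 1)) (O P r) := by
        rw [hw₀, sub_sub_cancel]
      have h3 : ι t - s₀ t = ∑ j ∈ s, ℓ₀ (Ot (b j) t) • O (a j) (((O U) ^ (q - 1)) (O P r)) := by
        rw [h1]
        change sOf hS.hHN τ ℓ₀ s a b ρ (ι t₀) t - sOf hS.hHN τ ℓ₀ s a b ρ w₀ t = _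
        rw [sOf_apply hS, sOf_apply hS, ← Finset.sum_sub_distrib]
        refine Finset.sum_congr rfl fun j _ => ?_
        rw [← smul_sub, ← map_sub, h2]
      rw [h3]
      exact Submodule.sum_mem _ fun j _ => Submodule.smul_mem _ _ (MSetup.Nm_O hS ρ _ ⟨_, rfl⟩)
    let Q : Subgroup N := H.subgroupOf N
    letI : Fintype (N ⧸ Q) := Fintype.ofFinite _
    let φ : N → (T →ₗ[k] R) := fun a => (ρ (a : G)) ∘ₗ s₀ ∘ₗ τ a⁻¹
    have hφ : ∀ a, ∀ b ∈ Q, φ (a * b) = φ a := by
      intro a' b' hb
      have hb' : (b' : G)⁻¹ ∈ H := H.inv_mem hb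
      ext t
      have h2 := hs₀H ⟨(b' : G)⁻¹, hb'⟩ (τ a'⁻¹ t)
      have h3 : Subgroup.inclusion hS.hHN ⟨(b' : G)⁻¹, hb'⟩ = b'⁻¹ := Subtype.ext rfl
      rw [h3] at h2
      simp only [φ, LinearMap.comp_apply, mul_inv_rev, map_mul, Subgroup.coe_mul, Module.End.mul_apply]
      rw [h2, ← Module.End.mul_apply (ρ (b' : G)), ← map_mul]
      simp
    let d : k := (Fintype.card (N ⧸ Q) : k)
    have hd : d ≠ 0 := by
      have := hS.hidx
      rw [Subgroup.index_eq_card, Nat.card_eq_fintype_card] at this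
      exact this
    let s' : T →ₗ[k] R := d⁻¹ • ∑ q : N ⧸ Q, φ q.out
    have hsφ : ∀ t, s' t = d⁻¹ • ∑ q : N ⧸ Q, φ q.out t := by
      intro t
      simp [s', LinearMap.sum_apply]
    have hsW : ∀ t, s' t ∈ W.toSubmodule := by
      intro t
      rw [hsφ]
      apply Submodule.smul_mem
      apply Submodule.sum_mem
      intro q _
      exact W.apply_mem_toSubmodule _ (hs₀W _)
    have hsequiv : ∀ (n : N) (t : T), s' (τ n t) = ρ (n : G) (s' t) := by
      intro n t
      rw [hsφ, hsφ, map_smul, map_sum]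
      congr 1
      have h1 := congrArg (fun F : T →ₗ[k] R => F (τ n t)) (qsum_mul Q φ hφ n)
      simp only [LinearMap.sum_apply] at h1
      rw [← h1]
      refine Finset.sum_congr rfl fun q _ => ?_
      simp only [φ, LinearMap.comp_apply, mul_inv_rev, map_mul, Subgroup.coe_mul, Module.End.mul_apply]
      rw [← Module.End.mul_apply (τ n⁻¹), ← map_mul]
      simp
    have hsO : ∀ (x : MonoidAlgebra k H) (t : T), s' (Ot x t) = O x (s' t) :=
      equiv_Op hS hT ρ (fun h' t => hsequiv _ t)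
    have hsU : ∀ t, O U (s' t) = 0 := by
      intro t
      rw [← hsO, hT.hU]
      simp
    have hse : ∀ t, O e (s' t) = s' t := by
      intro t
      rw [← hsO, hT.he]
      rfl
    have hsι : ∀ t, ι t - s' t ∈ MSetup.Nm q U ρ := by
      intro t
      have h1 : ι t = d⁻¹ • ∑ q : N ⧸ Q, ρ (q.out : G) (ι (τ (q.out)⁻¹ t)) := by
        have h2 : ∀ q : N ⧸ Q, ρ (q.out : G) (ι (τ (q.out)⁻¹ t)) = ι t := by
          intro q
          rw [h.equiv, ← Module.End.mul_apply, ← map_mul]
          simp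
        simp only [h2, Finset.sum_const, Finset.card_univ]
        rw [← Nat.cast_smul_eq_nsmul k, smul_smul, inv_mul_cancel₀ hd, one_smul]
      rw [h1, hsφ, ← smul_sub, ← Finset.sum_sub_distrib]
      apply Submodule.smul_mem
      apply Submodule.sum_mem
      intro q _
      simp only [φ, LinearMap.comp_apply]
      rw [← map_sub]
      exact MSetup.rho_mem_range_pow hS ρ q.out.2 _ (hs₀N _)
    refine ⟨s'.codRestrict W.toSubmodule hsW, ?_, ?_, ?_⟩
    · intro n t
      apply Subtype.ext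
      exact hsequiv n t
    · intro t
      refine ⟨?_, ⟨s'.codRestrict W.toSubmodule hsW t, ?_⟩⟩
      · apply Subtype.ext
        rw [Op_sub]
        exact hsU t
      · apply Subtype.ext
        rw [Op_sub]
        exact hse t
    · rintro t ⟨v, hv⟩
      have h2 : ((O U) ^ (q - 1)) (v : R) = s' t := by
        rw [← map_pow] at hv ⊢
        rw [← Op_sub ρ W]
        exact congrArg Subtype.val hv
      apply h.stable
      have h3 := Submodule.add_mem _ (hsι t) ⟨_, h2⟩
      simpa using h3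

/-- Finding a composition factor. -/
theorem exists_simple_factor [Nontrivial T] (f : G → k) (n : ℕ) :
    ∀ (R : Type w') [AddCommGroup R] [Module k R] [FiniteDimensional k R] (ρ : Representation k G R)
      (ι : T →ₗ[k] R), finrank k R = n → eOp f ρ = 1 → StableEmb q e U ρ N τ ι →
      ∃ (S : Type w') (_ : AddCommGroup S) (_ : Module k S) (_ : FiniteDimensional k S)
        (ρ' : Representation k G S), ρ'.IsIrreducible ∧ eOp f ρ' = 1 ∧
          ∃ ι' : T →ₗ[k] S, StableEmb q e U ρ' N τ ι' := by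
  induction n using Nat.strong_induction_on with
  | _ n ih =>
    intro R _ _ _ ρ ι hn he hι
    obtain ⟨t, ht⟩ := exists_ne (0 : T)
    have hnt : Nontrivial R := by
      refine ⟨ι t, 0, fun h0 => ht ?_⟩
      apply hι.stable
      rw [h0]
      exact Submodule.zero_mem _
    by_cases hirr : ρ.IsIrreducible
    · exact ⟨R, inferInstance, inferInstance, inferInstance, ρ, hirr, he, ι, hι⟩
    · have hW : ∃ W : Subrepresentation ρ, W ≠ ⊥ ∧ W ≠ ⊤ := by
        by_contra hc
        push Not at hc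
        apply hirr
        have hne : (⊥ : Subrepresentation ρ) ≠ ⊤ := by
          intro h0
          have h1 := congrArg Subrepresentation.toSubmodule h0
          have h2 : (⊥ : Submodule k R) = ⊤ := h1
          exact bot_ne_top h2
        exact { exists_pair_ne := ⟨⊥, ⊤, hne⟩
                eq_bot_or_eq_top := fun W => by
                  by_cases h : W = ⊥
                  · exact Or.inl h
                  · exact Or.inr (hc W h) }
      obtain ⟨W, hW0, hW1⟩ := hW
      have hW0' : W.toSubmodule ≠ ⊥ := fun h0 => hW0 (Subrepresentation.toSubmodule_injective h0)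
      have hW1' : W.toSubmodule ≠ ⊤ := fun h0 => hW1 (Subrepresentation.toSubmodule_injective h0)
      have hd1 : finrank k W.toSubmodule < n := by
        rw [← hn]
        exact Submodule.finrank_lt hW1'
      have hd0 : 0 < finrank k W.toSubmodule := Module.finrank_pos_iff.mpr
        (Submodule.nontrivial_iff_ne_bot.mpr hW0')
      have hd2 : finrank k (R ⧸ W.toSubmodule) < n := by
        have := Submodule.finrank_quotient_add_finrank W.toSubmodule
        omega
      rcases step hS hT ρ hι W with ⟨ι', h'⟩ | ⟨ι', h'⟩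
      · refine ih _ hd1 W.toSubmodule W.toRepresentation ι' rfl ?_ h'
        ext v
        have h1 := eOp_sub f ρ W v
        rw [he] at h1
        exact h1
      · refine ih _ hd2 (R ⧸ W.toSubmodule) _ ι' rfl ?_ h'
        apply LinearMap.ext
        intro v
        obtain ⟨r, rfl⟩ := Submodule.mkQ_surjective _ v
        rw [eOp_quot, he]
        rfl

/-- `eOp` commutes with the operators of the group algebra. -/
theorem eOp_comm_Op (f : G → k) (hcent : ∀ a g, f (a * g * a⁻¹) = f g) (x : MonoidAlgebra k H) :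
    O x * eOp f ρ = eOp f ρ * O x := by
  classical
  letI : Fintype H := Fintype.ofFinite _
  rw [Op_apply, Finset.sum_mul, Finset.mul_sum]
  refine Finset.sum_congr rfl fun h' _ => ?_
  rw [smul_mul_assoc, mul_smul_comm]
  congr 1
  exact eOp_comm f ρ hcent _

/-- From a module with an `N`-summand to a composition factor. -/
theorem exists_simple_of_summand [Nontrivial T] [FiniteDimensional k R] (f : G → k)
    (hcent : ∀ a g, f (a * g * a⁻¹) = f g)
    (hidem : ∀ g, (haveI := Fintype.ofFinite G; ∑ a : G, f a * f (a⁻¹ * g)) = f g)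
    (ι₀ : T →ₗ[k] R) (π : R →ₗ[k] T) (hequiv : ∀ (n : N) t, ι₀ (τ n t) = ρ (n : G) (ι₀ t))
    (hπ : ∀ t, π (eOp f ρ (ι₀ t)) = t)
    (hπ0 : ∀ r, π (((O U) ^ (q - 1)) r) = 0) :
    ∃ (S : Type w') (_ : AddCommGroup S) (_ : Module k S) (_ : FiniteDimensional k S)
      (ρ' : Representation k G S), ρ'.IsIrreducible ∧ eOp f ρ' = 1 ∧
        ∃ ι' : T →ₗ[k] S, StableEmb q e U ρ' N τ ι' := by
  classical
  have hEE : eOp f ρ * eOp f ρ = eOp f ρ := eOp_mul_self f ρ hidem
  have hEc : ∀ h, ρ h * eOp f ρ = eOp f ρ * ρ h := eOp_comm f ρ hcent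
  let W : Subrepresentation ρ := rangeSub ρ (eOp f ρ) hEc
  have hEW : ∀ v : W.toSubmodule, eOp f ρ (v : R) = v := by
    rintro ⟨_, ⟨v, rfl⟩⟩
    have := congrArg (fun t : End k R => t v) hEE
    exact this
  have hWe : eOp (R := W.toSubmodule) f W.toRepresentation = 1 := by
    apply LinearMap.ext
    intro v
    apply Subtype.ext
    rw [eOp_sub]
    exact hEW v
  let ι₁ : T →ₗ[k] W.toSubmodule := (eOp f ρ ∘ₗ ι₀).codRestrict W.toSubmodule (fun t => ⟨ι₀ t, rfl⟩)
  have hι₁ : ∀ t, ((ι₁ t : W.toSubmodule) : R) = eOp f ρ (ι₀ t) := fun t => rfl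
  have hι₀O : ∀ (x : MonoidAlgebra k H) (t : T), ι₀ (Ot x t) = O x (ι₀ t) :=
    equiv_Op hS hT ρ (fun h' t => hequiv _ t)
  have hcO : ∀ (x : MonoidAlgebra k H) (v : R), O x (eOp f ρ v) = eOp f ρ (O x v) := fun x v => by
    have := congrArg (fun t' : End k R => t' v) (eOp_comm_Op hS hT ρ f hcent x)
    exact this
  have hst : StableEmb (T := T) (S := W.toSubmodule) q e U W.toRepresentation N τ ι₁ := by
    refine ⟨?_, ?_, ?_⟩
    · intro n t
      apply Subtype.ext
      rw [hι₁, hequiv]
      have := congrArg (fun t' : End k R => t' (ι₀ t)) (hEc (n : G))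
      exact this.symm
    · intro t
      refine ⟨?_, ⟨ι₁ t, ?_⟩⟩
      · apply Subtype.ext
        rw [Op_sub, hι₁, hcO, ← hι₀O, hT.hU]
        simp
      · apply Subtype.ext
        rw [Op_sub, hι₁, hcO, ← hι₀O, hT.he]
        rfl
    · rintro t ⟨r, hr⟩
      have h2 : ((O U) ^ (q - 1)) (r : R) = eOp f ρ (ι₀ t) := by
        rw [← map_pow] at hr ⊢
        rw [← Op_sub ρ W]
        exact congrArg Subtype.val hr
      rw [← hπ t, ← h2]
      exact hπ0 _
  exact exists_simple_factor hS hT f _ _ W.toRepresentation ι₁ rfl hWe hst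

end Main

section Local

variable (hS : MSetup H N Nz D q e U P A₀ θ s a b)
variable {T : Type w} [AddCommGroup T] [Module k T] [FiniteDimensional k T] {τ : Representation k N T} {t₀ : T}
  {ℓ₀ : T →ₗ[k] k}
variable (hT : TData hS.hHN e U P τ t₀ ℓ₀)

include hS hT

/-- **The main result of this file.** -/
theorem exists_simple_of_local [Nontrivial T] (f : G → k)
    (hcent : ∀ a g, f (a * g * a⁻¹) = f g)
    (hidem : ∀ g, (haveI := Fintype.ofFinite G; ∑ a : G, f a * f (a⁻¹ * g)) = f g)
    (hlocal : (haveI := Fintype.ofFinite N; ∑ a : N, f (a : G) • τ a) = 1) :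
    ∃ (S : Type (max u w)) (_ : AddCommGroup S) (_ : Module k S) (_ : FiniteDimensional k S)
      (ρ' : Representation k G S), ρ'.IsIrreducible ∧ eOp f ρ' = 1 ∧
        ∃ ι' : T →ₗ[k] S, StableEmb q e U ρ' N τ ι' := by
  classical
  letI := Fintype.ofFinite G
  letI := Fintype.ofFinite N
  letI : Fintype H := Fintype.ofFinite _
  let π : coindSub (G := G) τ →ₗ[k] T :=
    { toFun := fun F => F.1 1
      map_add' := fun _ _ => rfl
      map_smul' := fun _ _ => rfl }
  refine exists_simple_of_summand hS hT (coindRep τ) f hcent hidem (coindIota τ) π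
    (coindIota_equiv τ) ?_ ?_
  · intro t
    have h1 : π (eOp f (coindRep τ) (coindIota τ t)) = ∑ g : G, f g • (coindIota τ t).1 g := by
      rw [eOp_apply, map_sum]
      refine Finset.sum_congr rfl fun g _ => ?_
      rw [map_smul]
      change f g • (coindRep τ g (coindIota τ t)).1 1 = _
      rw [coindRep_apply, one_mul]
    rw [h1]
    have h3 : ∑ g : G, f g • (coindIota τ t).1 g = ∑ a : N, f (a : G) • τ a t := by
      let em : N ↪ G := ⟨Subtype.val, Subtype.val_injective⟩
      rw [← Finset.sum_subset (Finset.subset_univ (Finset.univ.map em))]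
      · rw [Finset.sum_map]
        refine Finset.sum_congr rfl fun a _ => ?_
        have h5 : (coindIota τ t).1 (em a) = τ a t :=
          coindIota_mem τ t a.2
        rw [h5]
        rfl
      · intro g _ hg
        have h6 : g ∉ N := by
          intro h7
          apply hg
          exact Finset.mem_map.mpr ⟨⟨g, h7⟩, Finset.mem_univ _, rfl⟩
        have h5 : (coindIota τ t).1 g = 0 := coindIota_notMem τ t h6
        rw [h5, smul_zero]
    rw [h3]
    have h4 := congrArg (fun z : End k T => z t) hlocal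
    simpa [LinearMap.sum_apply] using h4
  · intro r
    have h1 : ∀ (x : MonoidAlgebra k H) (F : coindSub (G := G) τ),
        π (Op H.subtype (coindRep τ) x F) = Op (Subgroup.inclusion hS.hHN) τ x (π F) := by
      intro x F
      rw [Op_apply, Op_apply, LinearMap.sum_apply, LinearMap.sum_apply, map_sum]
      refine Finset.sum_congr rfl fun h' _ => ?_
      rw [LinearMap.smul_apply, LinearMap.smul_apply, map_smul]
      congr 1
      change F.1 (1 * (h' : G)) = τ _ (F.1 1)
      have h5 := F.2 (Subgroup.inclusion hS.hHN h') 1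
      rw [mul_one] at h5
      rw [one_mul]
      exact h5
    rw [← map_pow, h1, map_pow, hT.hU, zero_pow (by have := hS.core.hq; omega)]
    rfl

end Local

end Cfsg.Agent.Lib.Dade.MS
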