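import Mathlib
import Cfsg.Agent.Lib.Dade.LD
import Cfsg.Agent.Lib.Dade.LT
import Cfsg.Agent.Lib.Dade.MC

/-!
# The local setup of a block with a cyclic defect group
-/

set_option linter.unusedSectionVars false
set_option linter.style.haveILetI false
set_option autoImplicit false

namespace Cfsg.Agent.Lib.Dade.Loc

open Cfsg MonoidAlgebra
open Cfsg.Agent.Lib.Blocks.Local Cfsg.Agent.Lib.Blocks.Central Cfsg.Agent.Lib.Blocks.Brauer
open Cfsg.Agent.Lib.BlockH.Transport Cfsg.Agent.Lib.BlockH.Subpair Cfsg.Agent.Lib.BlockH.SubpairLE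
open Cfsg.Agent.Lib.BlockH.ConjPair Cfsg.Agent.Lib.BlockH.Descent Cfsg.Agent.Lib.BlockH.MaxPair
open Cfsg.Agent.Lib.BlockH.InducedPairs Cfsg.Agent.Lib.BlockH.AbelianDefect Cfsg.Agent.Lib.BlockH.Pairs
open Cfsg.Agent.Lib.BP.Cj Cfsg.Agent.Lib.BP.MIS
open Cfsg.Agent.Lib.BP.StarDefs Cfsg.Agent.Lib.BP.Star1
open Cfsg.Agent.Lib.BP.Star2 Cfsg.Agent.Lib.BP.Star3 Cfsg.Agent.Lib.BP.Rob1 Cfsg.Agent.Lib.BP.Rob2
open Cfsg.Agent.Lib.BP.Nil1 Cfsg.Agent.Lib.BP.Nil2 Cfsg.Agent.Lib.BP.Nil3 Cfsg.Agent.Lib.BP.Nil4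
open Cfsg.Agent.Lib.Contrib.Section
open Cfsg.Agent.Lib.Char.Basic Cfsg.Agent.Lib.Char.Complete Cfsg.Agent.Lib.Char.Ortho Cfsg.Agent.Lib.Char.GenLattice
open Cfsg.Agent.Lib.Char.Degree
open Cfsg.Agent.Lib.Dade.Base Cfsg.Agent.Lib.Dade.NilDual Cfsg.Agent.Lib.Dade.Gen
open Cfsg.Agent.Lib.Dade.LA Cfsg.Agent.Lib.Dade.LB Cfsg.Agent.Lib.Dade.LC Cfsg.Agent.Lib.D1.Res
open Cfsg.Agent.Lib.Dade.MS Cfsg.Agent.Lib.Dade.MA
open Cfsg.Agent.Lib.BK.HC Cfsg.Agent.Lib.BK.Coef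
open scoped ComplexConjugate

universe u

variable {G : Type u} [Group G] [Fintype G] {p : ℕ} {M : Ideal AlgInt} [Fact p.Prime]

attribute [local instance] fK fIrr fBl

section Cj

variable {H : Subgroup G} {g : G} (hg : g ∈ Subgroup.normalizer (H : Set G)) {V : ValuationSubring ℂ}

theorem coeff_cjA {k : Type*} [Field k] (x : MonoidAlgebra k H) (h : H) :
    (cjA H g hg x).coeff h = x.coeff ((H.normalizerMonoidHom ⟨g, hg⟩).symm h) := by
  classical
  induction x using MonoidAlgebra.induction_linear with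
  | zero => simp
  | add x y hx hy =>
    rw [map_add, coeff_add, coeff_add, Finsupp.add_apply, Finsupp.add_apply, hx, hy]
  | single a c =>
    rw [cjA, domCongr_single, coeff_single, coeff_single, Finsupp.single_apply, Finsupp.single_apply]
    by_cases ha : (H.normalizerMonoidHom ⟨g, hg⟩) a = h
    · rw [if_pos ha, if_pos (by rw [← ha]; simp)]
    · rw [if_neg ha, if_neg]
      intro h1
      apply ha
      rw [h1]
      simp

theorem rd_cjA (x : GA H) : rd V (cjA H g hg x) = cjA H g hg (rd V x) := by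
  ext h
  rw [coeff_rd, coeff_cjA, coeff_cjA, coeff_rd]

theorem rv_cjA {x : GA H} (hx : RV V x) : RV V (cjA H g hg x) := fun h => by
  rw [coeff_cjA]
  exact hx _

theorem cjA_idem (S : Set (IrrCharacter H)) :
    cjA H g hg ((idem S : Subalgebra.center ℂ (GA H)) : GA H) =
      ((idem (blockMap (H.normalizerMonoidHom ⟨g, hg⟩) S) : Subalgebra.center ℂ (GA H)) : GA H) := by
  ext h
  rw [coeff_cjA, coeff_idem, coeff_idem]
  have h1 := blockCoeff_blockMap (H.normalizerMonoidHom ⟨g, hg⟩) S ((H.normalizerMonoidHom ⟨g, hg⟩).symm h)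
  rw [MulEquiv.apply_symm_apply] at h1
  exact h1.symm

end Cj

/-- Product of the idempotents of distinct blocks. -/
theorem idem_mul_idem_of_ne {Γ : Type*} [Group Γ] [Fintype Γ] [Fintype (IrrCharacter Γ)] {f f' : Set (IrrCharacter Γ)} (hf : IsPBlock M f)
    (hf' : IsPBlock M f') (hne : f ≠ f') [M.IsPrime] : idem f * idem f' = 0 := by
  classical
  apply omegaHom_injective
  intro χ
  rw [map_mul, map_zero, omegaHom_idem, omegaHom_idem]
  by_cases h1 : χ ∈ f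
  · by_cases h2 : χ ∈ f'
    · exfalso
      apply hne
      rw [isPBlock_eq_blockOf hf h1, isPBlock_eq_blockOf hf' h2]
    · rw [if_neg h2, mul_zero]
  · rw [if_neg h1, zero_mul]

/-- The residue of a local unit. -/
theorem red_ne_zero_of_not_ideal {V : ValuationSubring ℂ} [M.IsPrime] (hV : ∀ z, MemLocalRing M z → z ∈ V) {z : ℂ}
    (hz : MemLocalRing M z) (hn : ¬ MemLocalIdeal M z) : red V z ≠ 0 := by
  obtain ⟨a, b, hb, rfl⟩ := hz
  have ha : a ∉ M := fun h => hn ⟨a, b, h, hb, rfl⟩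
  have h1 := coe_ne_zero_of_notMem ha
  have h2 := coe_ne_zero_of_notMem hb
  have h3 : ((a : ℂ) / b) * ((b : ℂ) / a) = 1 := by
    field_simp
  have h4 : MemLocalRing M ((b : ℂ) / a) := ⟨b, a, ha, rfl⟩
  intro h0
  have h5 := congrArg (red V) h3
  rw [red_mul (hV _ ⟨a, b, hb, rfl⟩) (hV _ h4), h0, zero_mul, Cfsg.Agent.Lib.D1.Res.red_one] at h5
  exact zero_ne_one h5

variable {B : Set (IrrCharacter G)} {D : Subgroup G} {c : Set (IrrCharacter (Subgroup.centralizer (D : Set G)))}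

namespace Data

variable (L : Data p M B D c) {V : ValuationSubring ℂ}

/-- The stabilizer of the block below the maximal pair. -/
abbrev N : Subgroup G := stabSub L.Z L.f

/-- The normalizer. -/
abbrev Nz : Subgroup G := Subgroup.normalizer (L.Z : Set G)

theorem hHN : L.H ≤ L.N := fun _ hu =>
  ⟨Cfsg.Agent.Lib.BlockH.Sylow.centralizer_le_normalizer'' L.Z hu,
    Cfsg.Agent.Lib.BlockH.Defects.stabilizesBlock_of_mem L.Z L.f hu⟩

theorem hNN : L.N ≤ L.Nz := fun _ hx => hx.1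

theorem hNzH : L.Nz ≤ Subgroup.normalizer (L.H : Set G) := fun _ hx => mem_normalizer_centralizer hx

include L in
theorem hfreeZ : ∀ g : G, g ∉ L.Nz → ∀ d ∈ D, g⁻¹ * d * g ∈ D → d = 1 := by
  intro g hg d hd hd'
  by_contra h1
  apply hg
  have hZ1 := L.hZw d hd h1
  have h2 : L.Z.map (MulAut.conj g⁻¹).toMonoidHom ≤ D := by
    rintro _ ⟨z, hz, rfl⟩
    have h3 : z ∈ Subgroup.zpowers d := hZ1 hz
    obtain ⟨n, rfl⟩ := Subgroup.mem_zpowers_iff.mp h3
    have e : (MulAut.conj g⁻¹).toMonoidHom (d ^ n) = (g⁻¹ * d * g) ^ n := by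
      have h5 := conj_zpow (a := g⁻¹) (b := d) (i := n)
      rw [inv_inv] at h5
      rw [h5]
      simp [MulAut.conj_apply]
    rw [e]
    exact D.zpow_mem hd' n
  have h3 : Nat.card (L.Z.map (MulAut.conj g⁻¹).toMonoidHom : Subgroup G) = Nat.card L.Z :=
    Subgroup.card_map_of_injective (MulAut.conj g⁻¹).injective
  haveI : IsCyclic D := L.hcyc
  have hsub : (L.Z.map (MulAut.conj g⁻¹).toMonoidHom).subgroupOf D = L.Z.subgroupOf D := by
    apply eq_of_card_eq_of_cyclic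
    rw [Nat.card_congr (Subgroup.subgroupOfEquivOfLe h2).toEquiv,
      Nat.card_congr (Subgroup.subgroupOfEquivOfLe L.hZD).toEquiv, h3]
  have hZg : L.Z.map (MulAut.conj g⁻¹).toMonoidHom = L.Z := by
    rw [← Subgroup.map_subgroupOf_eq_of_le h2, hsub, Subgroup.map_subgroupOf_eq_of_le L.hZD]
  have h4 := Cfsg.Agent.Lib.BlockH.Saturation.mem_normalizer_of_map_eq hZg
  simpa using Subgroup.inv_mem _ h4

theorem hfB : IsPBlock M L.f := L.hf

/-- The package. -/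
theorem pack : L.N = stabSub D c ⊔ L.H ∧
    L.H.relIndex L.N = (Subgroup.centralizer (D : Set G)).relIndex (stabSub D c) :=
  have h := local_package L.hM L.hmax L.hD1 L.hcyc L.hZD L.hZ1
    ((isInducedBlockIn_iff_isNormalSubpair L.hM L.hmax.1.1.1 L.hZD L.hDH).mpr L.hnor) L.N (fun _ => Iff.rfl)
  ⟨h.1, h.2.1⟩

theorem exists_mul {g : G} (hg : g ∈ L.N) : ∃ t ∈ stabSub D c, ∃ h ∈ L.H, g = t * h := by
  haveI := isPrime_of_pModular L.hM
  exact (s4682 L.hM L.hmax L.hab L.hZD L.hf L.hle L.N (fun _ => Iff.rfl) (stabSub D c) (fun _ => Iff.rfl)).1 g hg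

theorem not_dvd_idx : ¬ p ∣ L.H.relIndex L.N := by
  rw [L.pack.2]
  exact Cfsg.Agent.Lib.BlockH.CyclicDefect.not_dvd_relIndex_stab L.hM L.hmax L.hab

theorem coe_sigma_symm (g : G) (hg : g ∈ Subgroup.normalizer (L.H : Set G)) (y : L.H) :
    (((L.H.normalizerMonoidHom ⟨g, hg⟩).symm y : L.H) : G) = g⁻¹ * y * g := by
  have h1 := coe_normHom L.H g hg ((L.H.normalizerMonoidHom ⟨g, hg⟩).symm y)
  rw [MulEquiv.apply_symm_apply] at h1
  rw [h1]
  group

section Inv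

variable {ξ₀ : IrrCharacter L.H} (hfix : ∀ t : stabSub D c, L.cjI t ξ₀ = ξ₀)

include hfix

/-- The stable character is invariant. -/
theorem inv_N {g : G} (hg : g ∈ L.N) (hg' : g ∈ Subgroup.normalizer (L.H : Set G)) (y : L.H) :
    (ξ₀ : L.H → ℂ) ((L.H.normalizerMonoidHom ⟨g, hg'⟩).symm y) = (ξ₀ : L.H → ℂ) y := by
  obtain ⟨t, ht, h₁, hh₁, rfl⟩ := L.exists_mul hg
  have e1 : (L.H.normalizerMonoidHom ⟨t * h₁, hg'⟩).symm y =
      (⟨h₁, hh₁⟩ : L.H)⁻¹ * ((L.rho ⟨t, ht⟩).symm y) * ((⟨h₁, hh₁⟩ : L.H)⁻¹)⁻¹ := by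
    apply Subtype.ext
    rw [coe_sigma_symm]
    simp only [Subgroup.coe_mul, InvMemClass.coe_inv, inv_inv, coe_rho_symm]
    group
  rw [e1, class_irr, ← cjI_apply, hfix]

variable (hV : ∀ z, MemLocalRing M z → z ∈ V) (hξ₀ : ξ₀ ∈ L.f)

omit hV in
include hξ₀ in
theorem cjI_twI_fix (t : stabSub D c) (γ : D →* ℂˣ) : L.cjI t (L.twI γ hξ₀) = L.twI (dA t γ) hξ₀ := by
  rw [cjI_twI]
  have h1 : ∀ {ξ' : IrrCharacter L.H} (h : ξ' ∈ L.f), ξ' = ξ₀ → L.twI (dA t γ) h = L.twI (dA t γ) hξ₀ := by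
    rintro _ h rfl
    rfl
  exact h1 _ (hfix t)

omit hV in
include hξ₀ in
/-- The equivariance of the central elements. -/
theorem coeff_zz_conj [Fintype (D →* ℂˣ)] (t : stabSub D c) (w : D) (x : L.H) :
    ((zz (fun γ : D →* ℂˣ => L.twI γ hξ₀) w : Subalgebra.center ℂ (GA L.H)) : GA L.H).coeff ((L.rho t).symm x) =
      ((zz (fun γ : D →* ℂˣ => L.twI γ hξ₀) (actD t w) : Subalgebra.center ℂ (GA L.H)) : GA L.H).coeff x := by
  rw [coeff_zz_expand, coeff_zz_expand]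
  let dE : (D →* ℂˣ) ≃ (D →* ℂˣ) :=
    { toFun := dA t
      invFun := dA t⁻¹
      left_inv := fun γ => by
        ext a
        simp [dA_apply, coe_actD]
      right_inv := fun γ => by
        ext a
        simp [dA_apply, coe_actD] }
  refine Fintype.sum_equiv dE _ _ fun γ => ?_
  have h1 : ((dE γ) (actD t w) : ℂˣ) = γ w := by
    change dA t γ (actD t w) = γ w
    rw [dA_apply]
    congr 1
    apply Subtype.ext
    simp [coe_actD]
  have h2 : ∀ z : L.H, ((L.twI (dE γ) hξ₀ : IrrCharacter L.H) : L.H → ℂ) z =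
      ((L.twI γ hξ₀ : IrrCharacter L.H) : L.H → ℂ) ((L.rho t).symm z) := by
    intro z
    have h3 := cjI_twI_fix L hfix hξ₀ t γ
    rw [← cjI_apply]
    exact congrFun (congrArg Subtype.val h3.symm) z
  simp only [h1]
  rw [h2, h2, map_one, map_inv]

end Inv

theorem sigma_eq {g : G} (hg : g ∈ Subgroup.normalizer (L.H : Set G)) :
    L.H.normalizerMonoidHom ⟨g, hg⟩ = conjOfNormalizer hg := by
  ext x
  rfl

section Setup

variable [CharP (K V) p] {ξ₀ : IrrCharacter L.H} (hfix : ∀ t : stabSub D c, L.cjI t ξ₀ = ξ₀)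
  (hV : ∀ z, MemLocalRing M z → z ∈ V) (hξ₀ : ξ₀ ∈ L.f) [Fintype (D →* ℂˣ)]
  {i : GA L.H} {s : Finset (GA L.H)} {u w : GA L.H → GA L.H} (hH : HCData M L.f i s u w) {g₀ : D}
  (hg₀ : ∀ g : D, g ∈ Subgroup.zpowers g₀)

include hV in
theorem cjA_eb {g : G} (hg : g ∈ L.N) (hg' : g ∈ Subgroup.normalizer (L.H : Set G)) :
    cjA L.H g hg' (eb V L.f) = eb V L.f := by
  haveI := isPrime_of_pModular L.hM
  have h := (Cfsg.Agent.Lib.BlockH.Transport.stabilizesBlock_iff L.hf hg').mp hg.2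
  rw [eb, ← rd_cjA, cjA_idem, sigma_eq, h]

include hfix in
theorem cjA_zb {g : G} (hg : g ∈ L.N) (hg' : g ∈ Subgroup.normalizer (L.H : Set G)) :
    ∃ t : stabSub D c, ∀ w : D, cjA L.H g hg' (zb V (fun γ : D →* ℂˣ => L.twI γ hξ₀) w) =
      zb V (fun γ : D →* ℂˣ => L.twI γ hξ₀) (actD t w) := by
  obtain ⟨t, ht, h₁, hh₁, rfl⟩ := L.exists_mul hg
  refine ⟨⟨t, ht⟩, fun w => ?_⟩
  rw [zb, ← rd_cjA, zb]
  congr 1
  ext x
  rw [coeff_cjA]
  have e1 : (L.H.normalizerMonoidHom ⟨t * h₁, hg'⟩).symm x =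
      (⟨h₁, hh₁⟩ : L.H)⁻¹ * ((L.rho ⟨t, ht⟩).symm x) * ((⟨h₁, hh₁⟩ : L.H)⁻¹)⁻¹ := by
    apply Subtype.ext
    rw [coe_sigma_symm]
    simp only [Subgroup.coe_mul, InvMemClass.coe_inv, inv_inv, coe_rho_symm]
    group
  rw [e1, isCentral_of_mem, coeff_zz_conj L hfix hξ₀]

include hfix hV hg₀ in
theorem hcU_of {g : G} (hg : g ∈ L.N) (hg' : g ∈ Subgroup.normalizer (L.H : Set G)) :
    ∃ v, cjA L.H g hg' (Ub V L.f (fun γ : D →* ℂˣ => L.twI γ hξ₀) g₀) =
      Ub V L.f (fun γ : D →* ℂˣ => L.twI γ hξ₀) g₀ * v := by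
  haveI := isPrime_of_pModular L.hM
  have hT := L.twData hV hξ₀
  obtain ⟨t, ht⟩ := cjA_zb L hfix hξ₀ (V := V) hg hg'
  obtain ⟨a, ha⟩ := (mem_powers_iff_mem_zpowers).mpr (hg₀ (actD t g₀))
  have ha' : g₀ ^ a = actD t g₀ := ha
  refine ⟨∑ j ∈ Finset.range a, ub V L.f (fun γ : D →* ℂˣ => L.twI γ hξ₀) g₀ ^ j, ?_⟩
  rw [Ub_mul_geom hV L.hf hT, Ub_eq, map_sub, ht, cjA_eb L hV hg hg', ← ha']

include hfix hξ₀ in
omit [CharP (K V) p] [Fintype (D →* ℂˣ)] in
theorem hcθ_of {g : G} (hg : g ∈ L.N) (hg' : g ∈ Subgroup.normalizer (L.H : Set G)) (x : MonoidAlgebra (K V) L.H) :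
    thF V ((L.twI 1 hξ₀ : IrrCharacter L.H) : L.H → ℂ) (cjA L.H g hg' x) =
      thF V ((L.twI 1 hξ₀ : IrrCharacter L.H) : L.H → ℂ) x := by
  have h1 : ((L.twI 1 hξ₀ : IrrCharacter L.H) : L.H → ℂ) = ξ₀ := L.tw_one hξ₀
  rw [h1, thF_apply, thF_apply]
  refine (Fintype.sum_equiv (L.H.normalizerMonoidHom ⟨g, hg'⟩).symm.toEquiv _ _ fun y => ?_)
  simp only [MulEquiv.toEquiv_eq_coe, EquivLike.coe_coe]
  rw [coeff_cjA, L.inv_N hfix hg hg']

include hV in
theorem hoff_of {g : G} (hg : g ∈ L.Nz) (hg' : g ∈ Subgroup.normalizer (L.H : Set G)) (hgN : g ∉ L.N) :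
    eb V L.f * cjA L.H g hg' (eb V L.f) = 0 := by
  haveI := isPrime_of_pModular L.hM
  have hne : L.f ≠ blockMap (L.H.normalizerMonoidHom ⟨g, hg'⟩) L.f := by
    intro h0
    apply hgN
    refine ⟨hg, (Cfsg.Agent.Lib.BlockH.Transport.stabilizesBlock_iff L.hf hg').mpr ?_⟩
    rw [← sigma_eq]
    exact h0.symm
  have hb : IsPBlock M (blockMap (L.H.normalizerMonoidHom ⟨g, hg'⟩) L.f) := isPBlock_blockMap _ L.hf
  have h0 := idem_mul_idem_of_ne L.hf hb hne
  rw [eb, ← rd_cjA, cjA_idem, ← rd_mul (rv_idem hV L.hf) (rv_idem hV hb)]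
  have h1 := congrArg Subtype.val h0
  rw [Subalgebra.coe_mul] at h1
  rw [h1]
  exact rd_zero

/-- The trace of the defect class. -/
noncomputable def trD (y : L.H) [Fintype (L.H ⧸ L.D')] : GA L.H :=
  ∑ b : L.H ⧸ L.D', single (b.out * y * b.out⁻¹) 1

theorem isCentral_trD {y : L.H} [Fintype (L.H ⧸ L.D')] (hy : L.D' ≤ Subgroup.centralizer ({y} : Set L.H)) :
    IsCentral (L.trD y) := by
  classical
  have hcoe : ∀ z : L.H, (L.trD y).coeff z = ∑ b : L.H ⧸ L.D', (if b.out * y * b.out⁻¹ = z then (1 : ℂ) else 0) := by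
    intro z
    rw [trD, coeff_sum']
    refine Finset.sum_congr rfl fun b _ => ?_
    rw [coeff_single, Finsupp.single_apply]
  intro z a
  rw [hcoe, hcoe]
  let φ : L.H → ℂ := fun b => if b * y * b⁻¹ = z then 1 else 0
  have hφ : ∀ b, ∀ d ∈ L.D', φ (b * d) = φ b := by
    intro b d hd
    have h1 : d * y * d⁻¹ = y := by
      have := Subgroup.mem_centralizer_iff.mp (hy hd) y (Set.mem_singleton y)
      rw [← this]
      group
    simp only [φ]
    have h2 : b * d * y * (b * d)⁻¹ = b * y * b⁻¹ := by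
      calc b * d * y * (b * d)⁻¹ = b * (d * y * d⁻¹) * b⁻¹ := by group
        _ = _ := by rw [h1]
    rw [h2]
  have h1 := Cfsg.Agent.Lib.D1.Simple.qsum_mul L.D' φ hφ a⁻¹
  have h2 : ∀ b : L.H, (b * y * b⁻¹ = a * z * a⁻¹) ↔ (a⁻¹ * b * y * (a⁻¹ * b)⁻¹ = z) := by
    intro b
    constructor
    · intro h
      calc a⁻¹ * b * y * (a⁻¹ * b)⁻¹ = a⁻¹ * (b * y * b⁻¹) * a := by group
        _ = z := by rw [h]; group
    · intro h
      calc b * y * b⁻¹ = a * (a⁻¹ * b * y * (a⁻¹ * b)⁻¹) * a⁻¹ := by group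
        _ = _ := by rw [h]
  simp only [φ] at h1
  simp only [h2]
  exact h1

include hV hH in
/-- **The block idempotent is a relative trace.** -/
theorem exists_A₀ {hT : TwData V L.f (fun γ : D →* ℂˣ => L.twI γ hξ₀) (L.phi ξ₀) ((ξ₀ : L.H → ℂ) 1)}
    {q : ℕ} {U : MonoidAlgebra (K V) L.H}
    (hC : Core q (eb V L.f) U (rd V i) (thF V ((L.twI 1 hξ₀ : IrrCharacter L.H) : L.H → ℂ)) s
      (fun j => rd V (u j)) (fun j => rd V (w j))) :
    ∃ A₀ : MonoidAlgebra (K V) L.H,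
      (∀ d (hd : d ∈ D), (single (⟨d, L.hDH hd⟩ : L.H) 1 : MonoidAlgebra (K V) L.H) * A₀ =
        A₀ * single (⟨d, L.hDH hd⟩ : L.H) 1) ∧
      (∃ _ : Fintype (L.H ⧸ D.subgroupOf L.H), ∑ b : L.H ⧸ D.subgroupOf L.H,
        (single (b.out : L.H) 1 : MonoidAlgebra (K V) L.H) * A₀ * single ((b.out : L.H)⁻¹) 1 = eb V L.f) := by
  classical
  haveI := isPrime_of_pModular L.hM
  have hpp : p.Prime := Fact.out
  obtain ⟨y, hy, hS⟩ := Cfsg.Agent.Lib.Blocks.Defect2.isDefectGroup_isSylowIn L.isDefect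
  have hle := hS.le
  letI : Fintype (L.H ⧸ L.D') := Fintype.ofFinite _
  have hcen := L.isCentral_trD hle
  let TrC : Subalgebra.center ℂ (GA L.H) := ⟨L.trD y, (mem_center_iff _).mpr hcen⟩
  have hrvT : RV V (L.trD y) := RV.sum _ _ fun b _ => RV.single _ V.one_mem
  have hrdT : rd V (L.trD y) = ∑ b : L.H ⧸ L.D', single (b.out * y * b.out⁻¹) (1 : K V) := by
    rw [trD, rd_sum _ _ fun b _ => RV.single _ V.one_mem]
    refine Finset.sum_congr rfl fun b _ => ?_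
    rw [rd_single _ V.one_mem, Cfsg.Agent.Lib.D1.Res.red_one]
  set x : MonoidAlgebra (K V) L.H := rd V (L.trD y) * eb V L.f with hx
  have hrvi := rv_i hV L.hf hT hH
  have hxc : ∀ z, z * x = x * z := by
    intro z
    rw [hx, ← mul_assoc, rd_central hcen, mul_assoc, eb_cen, mul_assoc]
  have hex : eb V L.f * x = x := by
    rw [hx, ← eb_cen, mul_assoc, eb_mul_self hV L.hf]
  have hm : ¬ p ∣ L.D'.relIndex (Subgroup.centralizer ({y} : Set L.H)) := by
    intro hdvd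
    have h1 := Subgroup.card_mul_index (L.D'.subgroupOf (Subgroup.centralizer ({y} : Set L.H)))
    rw [Nat.card_congr (Subgroup.subgroupOfEquivOfLe hle).toEquiv, hS.card_eq] at h1
    obtain ⟨m', hm'⟩ := hdvd
    have h2 : p ^ ((Nat.card (Subgroup.centralizer ({y} : Set L.H))).factorization p + 1) ∣
        Nat.card (Subgroup.centralizer ({y} : Set L.H)) := by
      refine ⟨m', ?_⟩
      have e : (L.D'.subgroupOf (Subgroup.centralizer ({y} : Set L.H))).index = p * m' := hm'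
      rw [e] at h1
      rw [pow_succ, mul_assoc]
      exact h1.symm
    exact Nat.pow_succ_factorization_not_dvd Nat.card_pos.ne' hpp h2
  have hθ : thF V ((L.twI 1 hξ₀ : IrrCharacter L.H) : L.H → ℂ) (x * rd V i) ≠ 0 := by
    have hξ1 : ∀ g, ((L.twI 1 hξ₀ : IrrCharacter L.H) : L.H → ℂ) g ∈ V := fun g =>
      Cfsg.Agent.Lib.D1.Modl.mem_of_isIntegral (Cfsg.Agent.Lib.BlockP.Stable.isIntegral_irr _ g)
    have hχ : L.twI 1 hξ₀ ∈ L.f := hT.mem 1
    have h0 : x * rd V i = rd V (L.trD y * i) := by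
      rw [hx, mul_assoc, eb_mul_P hV L.hf hT hH, rd_mul hrvT hrvi]
    have h1 : lin ((L.twI 1 hξ₀ : IrrCharacter L.H) : L.H → ℂ) (L.trD y * i) = omegaHom (L.twI 1 hξ₀) TrC := by
      have h2 := lin_central_eq (L.twI 1 hξ₀) TrC i
      rw [hH.lin_one _ hχ, mul_one] at h2
      exact h2
    have h3 : lin ((L.twI 1 hξ₀ : IrrCharacter L.H) : L.H → ℂ) (L.trD y) =
        (L.D'.index : ℂ) * ((L.twI 1 hξ₀ : IrrCharacter L.H) : L.H → ℂ) y := by
      rw [trD, map_sum]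
      have h4 : ∀ b : L.H ⧸ L.D', lin ((L.twI 1 hξ₀ : IrrCharacter L.H) : L.H → ℂ) (single (b.out * y * b.out⁻¹) 1) =
          ((L.twI 1 hξ₀ : IrrCharacter L.H) : L.H → ℂ) y := by
        intro b
        rw [lin_single, one_mul, class_irr]
      rw [Finset.sum_congr rfl fun b _ => h4 b, Finset.sum_const, nsmul_eq_mul, Finset.card_univ,
        Subgroup.index_eq_card, Nat.card_eq_fintype_card]
    have h5 : omegaHom (L.twI 1 hξ₀) TrC =
        (L.D'.relIndex (Subgroup.centralizer ({y} : Set L.H)) : ℂ) * centralChar ((L.twI 1 hξ₀ : IrrCharacter L.H) : L.H → ℂ) y := by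
      rw [omegaHom_apply, centralChar]
      change lin _ (L.trD y) / _ = _
      rw [h3, ← Subgroup.relIndex_mul_index hle]
      push_cast
      ring
    rw [h0, thF_rd hξ1 (hrvT.mul hrvi), h1, h5]
    have hcc : MemLocalRing M (centralChar ((L.twI 1 hξ₀ : IrrCharacter L.H) : L.H → ℂ) y) :=
      memLocalRing_of_isIntegral (isIntegral_centralChar _ y)
    rw [red_mul (natCast_mem _) (hV _ hcc), red_natCast]
    refine mul_ne_zero ?_ (red_ne_zero_of_not_ideal hV hcc (hy.2.2 _ hχ))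
    intro h6
    exact hm ((CharP.cast_eq_zero_iff (K V) p _).mp h6)
  obtain ⟨v, hvc, hvx⟩ := hC.exists_inv hxc hex hθ
  refine ⟨v * eb V L.f * single y 1, ?_, inferInstance, ?_⟩
  · intro d hd
    have h1 : (⟨d, L.hDH hd⟩ : L.H) ∈ L.D' := Subgroup.mem_subgroupOf.mpr hd
    have h2 := Subgroup.mem_centralizer_iff.mp (hle h1) y (Set.mem_singleton y)
    have h3 : (single (⟨d, L.hDH hd⟩ : L.H) 1 : MonoidAlgebra (K V) L.H) * (v * eb V L.f) =
        v * eb V L.f * single (⟨d, L.hDH hd⟩ : L.H) 1 := by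
      rw [← mul_assoc, hvc, mul_assoc, eb_cen, mul_assoc]
    rw [← mul_assoc, h3, mul_assoc, mul_assoc (v * eb V L.f), single_mul_single, single_mul_single, mul_one, h2]
  · have h1 : ∀ b : L.H ⧸ D.subgroupOf L.H, (single (b.out : L.H) 1 : MonoidAlgebra (K V) L.H) *
        (v * eb V L.f * single y 1) * single ((b.out : L.H)⁻¹) 1 =
        v * eb V L.f * single (b.out * y * b.out⁻¹) (1 : K V) := by
      intro b
      have h2 : (single (b.out : L.H) 1 : MonoidAlgebra (K V) L.H) * (v * eb V L.f) = v * eb V L.f * single (b.out : L.H) 1 := by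
        rw [← mul_assoc, hvc, mul_assoc, eb_cen, mul_assoc]
      rw [← mul_assoc, h2, mul_assoc, mul_assoc, mul_assoc, single_mul_single, single_mul_single, mul_one, mul_one]
      simp only [mul_assoc]
    rw [Finset.sum_congr rfl fun b _ => h1 b, ← Finset.mul_sum]
    have h3 : ∑ b : L.H ⧸ D.subgroupOf L.H, single (b.out * y * b.out⁻¹) (1 : K V) = rd V (L.trD y) := hrdT.symm
    rw [h3, mul_assoc, ← eb_cen, ← hx, hvx]

include hfix hV hξ₀ hH hg₀ in
/-- **The local setup.** -/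
theorem exists_setup {n : ℕ} (hcard : Nat.card D = p ^ n) :
    ∃ A₀, MSetup L.H L.N L.Nz D (Nat.card D) (eb V L.f) (Ub V L.f (fun γ : D →* ℂˣ => L.twI γ hξ₀) g₀) (rd V i) A₀
      (thF V ((L.twI 1 hξ₀ : IrrCharacter L.H) : L.H → ℂ)) s (fun j => rd V (u j)) (fun j => rd V (w j)) := by
  haveI := isPrime_of_pModular L.hM
  have hT := L.twData hV hξ₀
  have hC := core hV L.hf hT hH hcard L.two_le_card hg₀
  obtain ⟨A₀, h1, h2⟩ := L.exists_A₀ hV hξ₀ hH (hT := hT) hC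
  exact ⟨A₀, { core := hC
               hDH := L.hDH
               hHN := L.hHN
               hNN := L.hNN
               hNzH := L.hNzH
               hfree := L.hfreeZ
               hidx := fun h => L.not_dvd_idx ((CharP.cast_eq_zero_iff (K V) p _).mp h)
               hcU := fun g hg => L.hcU_of hfix hV hξ₀ hg₀ hg _
               hce := fun g hg => L.cjA_eb hV hg _
               hcθ := fun g hg x => L.hcθ_of hfix hξ₀ hg _ x
               hoff := fun g hg hn => L.hoff_of hV hg _ hn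
               hA₀ := h1
               hA₀e := h2 }⟩

end Setup

end Data

end Cfsg.Agent.Lib.Dade.Loc
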