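import Mathlib
import Cfsg.Agent.Lib.Dade.LE
import Cfsg.Agent.Lib.Char.Extend
import Cfsg.Agent.Lib.D1.Count

/-!
# The simple modules of the normalizer of the subgroup of order `p`
-/

set_option linter.unusedSectionVars false
set_option linter.style.haveILetI false
set_option autoImplicit false

namespace Cfsg.Agent.Lib.Dade.MS

open Module MonoidAlgebra Cfsg.Agent.Lib.Dade.MA
open scoped BigOperators

universe u v w w'

section Tw

variable {k Ñ T H : Type*} [Field k] [Group Ñ] [Group H] [AddCommGroup T] [Module k T]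

/-- The twist of a representation by a linear character. -/
noncomputable def twRep (τ : Representation k Ñ T) (ν : Ñ →* kˣ) : Representation k Ñ T where
  toFun n := ((ν n : kˣ) : k) • τ n
  map_one' := by simp
  map_mul' a b := by
    simp only [map_mul, Units.val_mul, smul_mul_smul_comm]

theorem twRep_apply (τ : Representation k Ñ T) (ν : Ñ →* kˣ) (n : Ñ) : twRep τ ν n = ((ν n : kˣ) : k) • τ n := rfl

theorem Op_twRep (j : H →* Ñ) (τ : Representation k Ñ T) (ν : Ñ →* kˣ) (hν : ∀ h, ν (j h) = 1)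
    (x : MonoidAlgebra k H) : Op j (twRep τ ν) x = Op j τ x := by
  induction x using MonoidAlgebra.induction_linear with
  | zero => simp
  | add x y hx hy => rw [map_add, map_add, hx, hy]
  | single h c => rw [Op_single, Op_single, twRep_apply, hν, Units.val_one, one_smul]

end Tw

variable {G : Type u} [Group G] [Finite G] {k : Type v} [Field k]
variable {H N Nz D : Subgroup G} {J : Type*} {q : ℕ} {e U P A₀ : MonoidAlgebra k H}
  {θ : MonoidAlgebra k H →ₗ[k] k} {s : Finset J} {a b : J → MonoidAlgebra k H}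

section Twist

variable (hS : MSetup H N Nz D q e U P A₀ θ s a b)
variable {T : Type w} [AddCommGroup T] [Module k T] {τ : Representation k N T} {t₀ : T} {ℓ₀ : T →ₗ[k] k}
variable (hT : TData hS.hHN e U P τ t₀ ℓ₀)

local notation "Ot" => Op (Subgroup.inclusion hS.hHN) τ

include hS hT

theorem tData_twRep {ν : N →* kˣ} (hν : ∀ h, ν (Subgroup.inclusion hS.hHN h) = 1) :
    TData hS.hHN e U P (twRep τ ν) t₀ ℓ₀ where
  he := by rw [Op_twRep _ _ _ hν, hT.he]
  hU := by rw [Op_twRep _ _ _ hν, hT.hU]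
  hP := fun t => by rw [Op_twRep _ _ _ hν, hT.hP]
  h1 := hT.h1

/-- **Non-isomorphism of the twists.** -/
theorem eq_of_equiv {ν₁ ν₂ : N →* kˣ} (h1 : ∀ h, ν₁ (Subgroup.inclusion hS.hHN h) = 1)
    (h2 : ∀ h, ν₂ (Subgroup.inclusion hS.hHN h) = 1) (φ : T ≃ₗ[k] T)
    (hφ : ∀ n t, φ (twRep τ ν₁ n t) = twRep τ ν₂ n (φ t)) : ν₁ = ν₂ := by
  classical
  have hC := hS.core
  have hcomm : ∀ (x : MonoidAlgebra k H) (t : T), φ (Ot x t) = Ot x (φ t) := by
    intro x t
    induction x using MonoidAlgebra.induction_linear with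
    | zero => simp
    | add x y hx hy =>
      rw [map_add, LinearMap.add_apply, map_add, hx, hy, LinearMap.add_apply]
    | single h c =>
      have h3 := hφ (Subgroup.inclusion hS.hHN h) t
      simp only [twRep_apply, h1, h2, Units.val_one, one_smul] at h3
      rw [Op_single, LinearMap.smul_apply, LinearMap.smul_apply, map_smul, h3]
  set c := ℓ₀ (φ t₀) with hc
  have ht₀ : φ t₀ = c • t₀ := by
    have h3 : Ot P t₀ = t₀ := by
      rw [hT.hP, hT.h1, one_smul]
    have h4 := hcomm P t₀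
    rw [h3, hT.hP] at h4
    exact h4
  have hes : Ot e = ∑ j ∈ s, Ot (a j) * Ot (b j) := by
    have h3 := congrArg Ot hC.sum
    rw [map_sum] at h3
    rw [← h3]
    exact Finset.sum_congr rfl fun j _ => map_mul _ _ _
  have hall : ∀ t, φ t = c • t := by
    intro t
    have h3 : Ot e t = t := by
      rw [hT.he]
      rfl
    have h4 : ∀ j ∈ s, φ (Ot (a j) (Ot (b j) t)) = c • Ot (a j) (Ot (b j) t) := by
      intro j hj
      rw [Ot_P_b hS hT hj t, map_smul, map_smul, hcomm, ht₀, map_smul, smul_comm]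
    calc φ t = φ (Ot e t) := by rw [h3]
      _ = ∑ j ∈ s, φ (Ot (a j) (Ot (b j) t)) := by
          rw [hes, LinearMap.sum_apply, map_sum]
          rfl
      _ = ∑ j ∈ s, c • Ot (a j) (Ot (b j) t) := Finset.sum_congr rfl h4
      _ = c • Ot e t := by
          rw [hes, LinearMap.sum_apply, Finset.smul_sum]
          rfl
      _ = c • t := by rw [h3]
  have ht₀0 : t₀ ≠ 0 := by
    intro h0
    have h3 := hT.h1
    rw [h0, map_zero] at h3
    exact zero_ne_one h3
  have hc0 : c ≠ 0 := by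
    intro h0
    rw [h0, zero_smul] at ht₀
    exact ht₀0 (φ.map_eq_zero_iff.mp ht₀)
  ext n
  have h3 := hφ n t₀
  rw [twRep_apply, twRep_apply, LinearMap.smul_apply, LinearMap.smul_apply, map_smul, hall, ht₀, map_smul, smul_comm] at h3
  have hn0 : τ n t₀ ≠ 0 := by
    intro h0
    apply ht₀0
    have h4 : τ n⁻¹ (τ n t₀) = t₀ := by
      rw [← Module.End.mul_apply, ← map_mul, inv_mul_cancel, map_one]
      rfl
    rw [← h4, h0, map_zero]
  have h4 := smul_left_injective k (smul_ne_zero hc0 hn0)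
  have h5 : ((ν₁ n : kˣ) : k) • c • τ n t₀ = ((ν₂ n : kˣ) : k) • c • τ n t₀ := by
    first
    | exact h3
    | (rw [smul_comm] at h3; exact h3)
    | (rw [h3]; exact (smul_comm _ _ _))
    | (simpa [smul_comm] using h3)
  exact h4 (by simpa [smul_smul] using h5)

end Twist

/-- Transporting a stable embedding along an isomorphism. -/
theorem stableEmb_comp' {S₁ S₂ T : Type*} [AddCommGroup S₁] [Module k S₁] [AddCommGroup S₂] [Module k S₂]
    [AddCommGroup T] [Module k T] {ρ₁ : Representation k G S₁} {ρ₂ : Representation k G S₂}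
    {τ : Representation k N T} {ι : T →ₗ[k] S₁} (h : StableEmb q e U ρ₁ N τ ι) (φ : S₁ →ₗ[k] S₂)
    (hφ : ∀ g, φ ∘ₗ ρ₁ g = ρ₂ g ∘ₗ φ) (hb : Function.Bijective φ) :
    StableEmb q e U ρ₂ N τ (φ ∘ₗ ι) := by
  have hφ' : ∀ g v, φ (ρ₁ g v) = ρ₂ g (φ v) := fun g v => LinearMap.congr_fun (hφ g) v
  have hO : ∀ (x : MonoidAlgebra k H) (v : S₁), φ (Op H.subtype ρ₁ x v) = Op H.subtype ρ₂ x (φ v) := by
    intro x v
    induction x using MonoidAlgebra.induction_linear with
    | zero => simp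
    | add x y hx hy =>
      rw [map_add, LinearMap.add_apply, map_add, hx, hy, map_add, LinearMap.add_apply]
    | single h c =>
      rw [Op_single, Op_single, LinearMap.smul_apply, LinearMap.smul_apply, map_smul, hφ']
  refine ⟨fun n t => ?_, fun t => ?_, fun t ht => ?_⟩
  · simp only [LinearMap.comp_apply]
    rw [h.equiv, hφ']
  · obtain ⟨h1, w, hw⟩ := h.fix t
    refine ⟨?_, ⟨φ w, ?_⟩⟩
    · change Op H.subtype ρ₂ U (φ (ι t)) = 0
      rw [← hO]
      have h1' : Op H.subtype ρ₁ U (ι t) = 0 := h1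
      rw [h1', map_zero]
    · change Op H.subtype ρ₂ e (φ w) = φ (ι t)
      rw [← hO, hw]
  · obtain ⟨w, hw⟩ := ht
    obtain ⟨w₀, rfl⟩ := hb.2 w
    apply h.stable
    refine ⟨w₀, hb.1 ?_⟩
    rw [← map_pow, hO, map_pow, hw]
    rfl

end Cfsg.Agent.Lib.Dade.MS

namespace Cfsg.Agent.Lib.Dade.Loc

open Cfsg Module MonoidAlgebra
open Cfsg.Agent.Lib.Blocks.Local Cfsg.Agent.Lib.Blocks.Central Cfsg.Agent.Lib.Blocks.Brauer Cfsg.Agent.Lib.Blocks.Induced
open Cfsg.Agent.Lib.BlockH.Transport Cfsg.Agent.Lib.BlockH.Subpair Cfsg.Agent.Lib.BlockH.SubpairLE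
open Cfsg.Agent.Lib.BlockH.ConjPair Cfsg.Agent.Lib.BlockH.Descent Cfsg.Agent.Lib.BlockH.MaxPair
open Cfsg.Agent.Lib.BlockH.InducedPairs Cfsg.Agent.Lib.BlockH.AbelianDefect Cfsg.Agent.Lib.BlockH.Pairs
open Cfsg.Agent.Lib.BP.Cj Cfsg.Agent.Lib.BP.MIS
open Cfsg.Agent.Lib.BP.StarDefs Cfsg.Agent.Lib.BP.Star1
open Cfsg.Agent.Lib.BP.Star2 Cfsg.Agent.Lib.BP.Star3 Cfsg.Agent.Lib.BP.Rob1 Cfsg.Agent.Lib.BP.Rob2
open Cfsg.Agent.Lib.BP.Nil1 Cfsg.Agent.Lib.BP.Nil2 Cfsg.Agent.Lib.BP.Nil3 Cfsg.Agent.Lib.BP.Nil4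
open Cfsg.Agent.Lib.Contrib.Section
open Cfsg.Agent.Lib.Char.Basic Cfsg.Agent.Lib.Char.Complete Cfsg.Agent.Lib.Char.Ortho Cfsg.Agent.Lib.Char.GenLattice
open Cfsg.Agent.Lib.Char.Degree Cfsg.Agent.Lib.Char.Conj
open Cfsg.Agent.Lib.Dade.Base Cfsg.Agent.Lib.Dade.NilDual Cfsg.Agent.Lib.Dade.Gen
open Cfsg.Agent.Lib.Dade.LA Cfsg.Agent.Lib.Dade.LB Cfsg.Agent.Lib.Dade.LC Cfsg.Agent.Lib.D1.Res
open Cfsg.Agent.Lib.Dade.MS Cfsg.Agent.Lib.Dade.MA Cfsg.Agent.Lib.Dade.LT Cfsg.Agent.Lib.D1.Reduce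
open Cfsg.Agent.Lib.BK.HC Cfsg.Agent.Lib.BK.Coef
open scoped ComplexConjugate

universe u'

variable {G : Type u'} [Group G] [Fintype G] {p : ℕ} {M : Ideal AlgInt} [Fact p.Prime]

attribute [local instance] fK fIrr fBl

variable {B : Set (IrrCharacter G)} {D : Subgroup G} {c : Set (IrrCharacter (Subgroup.centralizer (D : Set G)))}

namespace Data

variable (L : Data p M B D c) {V : ValuationSubring ℂ}

include L in
theorem exists_Phi : ∃ Φ : L.N →* (ZMod p)ˣ, Φ.ker = L.H.subgroupOf L.N := by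
  obtain ⟨Φ, h1, -⟩ := Cfsg.Agent.Lib.BlockH.CyclicDefect.cyclic_core (T := L.N) (P := L.Z)
    (L.hmax.1.1.1.to_le L.hZD) L.hZ1 (isCyclic_of_prime_card L.hZc) L.hNN L.not_dvd_idx
  exact ⟨Φ, h1⟩

/-- The stable character extends to the stabilizer of the block. -/
theorem exists_ext {ξ₀ : IrrCharacter L.H} (hfix : ∀ t : stabSub D c, L.cjI t ξ₀ = ξ₀) :
    ∃ β : IrrCharacter L.N, ∀ h : L.H, (β : L.N → ℂ) (Subgroup.inclusion L.hHN h) = (ξ₀ : L.H → ℂ) h := by
  classical
  obtain ⟨Φ, hΦ⟩ := L.exists_Phi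
  have hN : (L.H.subgroupOf L.N).Normal := by
    rw [← hΦ]
    exact Φ.normal_ker
  let E : L.H.subgroupOf L.N ≃* L.H := Subgroup.subgroupOfEquivOfLe L.hHN
  have hϑ := isIrrCharacter_comp_mulEquiv E ξ₀.2
  have hinv : ∀ g : L.N, conjOn hN g ((ξ₀ : L.H → ℂ) ∘ E) = (ξ₀ : L.H → ℂ) ∘ E := by
    intro g
    funext h
    rw [conjOn_apply]
    have hg' : ((g⁻¹ : L.N) : G) ∈ Subgroup.normalizer (L.H : Set G) := L.hNzH (L.hNN (g⁻¹).2)
    have h1 := L.inv_N hfix (g⁻¹).2 hg' (E h)
    simp only [Function.comp]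
    rw [← h1]
    refine congrArg _ (Subtype.ext ?_)
    rw [L.coe_sigma_symm]
    simp [E]
  have hcyc : IsCyclic (L.N ⧸ L.H.subgroupOf L.N) := by
    let e : L.N ⧸ L.H.subgroupOf L.N →* (ZMod p)ˣ := QuotientGroup.lift _ Φ (fun x hx => by
      rw [← hΦ] at hx
      exact hx)
    refine isCyclic_of_injective e ((injective_iff_map_eq_one _).mpr fun a => ?_)
    obtain ⟨x, rfl⟩ := QuotientGroup.mk_surjective a
    intro h1
    have h2 : Φ x = 1 := h1
    have h3 : x ∈ Φ.ker := h2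
    rw [hΦ] at h3
    exact (QuotientGroup.eq_one_iff x).mpr h3
  obtain ⟨χ, hχ, hext⟩ := Cfsg.Agent.Lib.Char.Extend.exists_irr_ext_of_cyclic hN hϑ hinv hcyc
  refine ⟨⟨χ, hχ⟩, fun h => ?_⟩
  have h1 := hext ⟨Subgroup.inclusion L.hHN h, Subgroup.mem_subgroupOf.mpr h.2⟩
  change χ (((⟨Subgroup.inclusion L.hHN h, Subgroup.mem_subgroupOf.mpr h.2⟩ : L.H.subgroupOf L.N)) : L.N) = _
  rw [h1]
  simp only [Function.comp]
  congr 1

theorem one_ne_zero_end {k : Type*} [Field k] {m : ℕ} (hm : 0 < m) : (1 : End k (Fin m → k)) ≠ 0 := by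
  haveI : Nonempty (Fin m) := ⟨⟨0, hm⟩⟩
  exact one_ne_zero

section Main

variable [CharP (K V) p] {ξ₀ : IrrCharacter L.H} (hfix : ∀ t : stabSub D c, L.cjI t ξ₀ = ξ₀)
  (hV : ∀ z, MemLocalRing M z → z ∈ V) (hVn : ∀ z, MemLocalIdeal M z → z ∈ V.nonunits) (hξ₀ : ξ₀ ∈ L.f)
  [Fintype (D →* ℂˣ)]
  {i : GA L.H} {s : Finset (GA L.H)} {u w : GA L.H → GA L.H} (hH : HCData M L.f i s u w) (g₀ : D)

include hfix hV hVn hξ₀ hH in
/-- **The module of the stabilizer.** -/
theorem exists_T : ∃ (m : ℕ) (τ : Representation (K V) L.N (Fin m → K V)) (t₀ : Fin m → K V)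
      (ℓ₀ : (Fin m → K V) →ₗ[K V] K V), 0 < m ∧
      TData L.hHN (eb V L.f) (Ub V L.f (fun γ : D →* ℂˣ => L.twI γ hξ₀) g₀) (rd V i) τ t₀ ℓ₀ ∧
      (∀ z : L.N, (z : G) ∈ L.Z → τ z = 1) ∧
      (∑ h : L.H, red V (blockCoeff B (h : G)) • τ (Subgroup.inclusion L.hHN h) = 1) := by
  classical
  haveI := isPrime_of_pModular L.hM
  have hT := L.twData hV hξ₀
  obtain ⟨β, hβ⟩ := L.exists_ext hfix
  obtain ⟨n, ρ, hρ, hc⟩ := id β.2
  have hβ' : ∀ h : L.H, LinearMap.trace ℂ (Fin n → ℂ) (ρ (Subgroup.inclusion L.hHN h)) = (ξ₀ : L.H → ℂ) h := by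
    intro h
    rw [← hβ, ← hc]
    rfl
  obtain ⟨m, b, MV, hI⟩ := exists_intForm V ρ
  have hnt : Nontrivial (Fin n → ℂ) := Cfsg.Agent.Lib.Char.Complete.nontrivial_of_isIrreducible hρ
  have hm : 0 < m := by
    have h1 := Module.finrank_pos (R := ℂ) (M := Fin n → ℂ)
    rw [Module.finrank_eq_card_basis b] at h1
    simpa using h1
  have hsc : ∀ (z : Subalgebra.center ℂ (GA L.H)), RV V (z : GA L.H) →
      Op (Subgroup.inclusion L.hHN) (redRep hI) (rd V (z : GA L.H)) = red V (omegaHom ξ₀ z) • (1 : End (K V) (Fin m → K V)) :=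
    fun z hz => (Op_rd_of_scalar _ hI hz (Op_central _ ρ hβ' z) hm).2
  have heb : Op (Subgroup.inclusion L.hHN) (redRep hI) (eb V L.f) = 1 := by
    rw [eb, hsc _ (rv_idem hV L.hf), omegaHom_idem, if_pos hξ₀, Cfsg.Agent.Lib.D1.Res.red_one, one_smul]
  have hξ1 : L.twI 1 hξ₀ = ξ₀ := Subtype.ext (L.tw_one hξ₀)
  have hzb : Op (Subgroup.inclusion L.hHN) (redRep hI) (zb V (fun γ : D →* ℂˣ => L.twI γ hξ₀) g₀) = 1 := by
    rw [zb, hsc _ (rv_zz hT g₀)]
    have h1 := omega_zz hT 1 g₀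
    simp only [hξ1] at h1
    rw [h1]
    simp [Cfsg.Agent.Lib.D1.Res.red_one]
  have hi := rv_i hV L.hf hT hH
  obtain ⟨t₀, ℓ₀, hl1, hl2⟩ := exists_line _ hI hi hH.ii (by
    rw [trace_Op' _ ρ hβ' i]
    exact hH.lin_one ξ₀ hξ₀)
  refine ⟨m, redRep hI, t₀, ℓ₀, hm, ⟨heb, ?_, hl1, hl2⟩, ?_, ?_⟩
  · rw [Ub_eq, map_sub, hzb, heb, sub_self]
  · intro z hz
    have hzH : (z : G) ∈ L.H := L.hDH (L.hZD hz)
    let zH : L.H := ⟨z, hzH⟩
    have hcom : ∀ h : L.H, h * zH = zH * h := by
      intro h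
      apply Subtype.ext
      exact (Subgroup.mem_centralizer_iff.mp h.2 _ hz).symm
    have hcen : IsCentral (single zH 1 : GA L.H) := by
      intro g h
      rw [coeff_single, Finsupp.single_apply, Finsupp.single_apply]
      have hiff : zH = h * g * h⁻¹ ↔ zH = g := by
        constructor
        · intro h1
          have h2 : zH * h = h * g := by
            rw [h1]
            group
          rw [← hcom] at h2
          exact mul_left_cancel h2
        · intro h1
          rw [← h1, hcom]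
          group
      simp only [hiff]
    let zC : Subalgebra.center ℂ (GA L.H) := ⟨single zH 1, (mem_center_iff _).mpr hcen⟩
    have h1 := hsc zC (RV.single _ V.one_mem)
    have h2 : rd V ((zC : Subalgebra.center ℂ (GA L.H)) : GA L.H) = single zH 1 := by
      change rd V (single zH 1) = _
      rw [rd_single _ V.one_mem, Cfsg.Agent.Lib.D1.Res.red_one]
    rw [h2, Op_one_single] at h1
    have h3 : Subgroup.inclusion L.hHN zH = z := Subtype.ext rfl
    rw [h3] at h1
    set κ := red V (omegaHom ξ₀ zC) with hκ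
    have hzp : z ^ p = 1 := by
      have h4 := pow_card_eq_one' (G := L.Z) (x := ⟨z, hz⟩)
      rw [L.hZc] at h4
      have h5 := congrArg Subtype.val h4
      apply Subtype.ext
      exact h5
    have h4 : (redRep hI z) ^ p = 1 := by
      rw [← map_pow, hzp, map_one]
    rw [h1, smul_pow, one_pow] at h4
    have h5 : κ ^ p = 1 := by
      have h6 := congrFun (LinearMap.congr_fun h4 (fun _ => 1)) ⟨0, hm⟩
      simpa using h6
    have h6 : κ = 1 := by
      have h7 : (κ - 1) ^ p = κ ^ p - 1 ^ p := sub_pow_char κ 1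
      rw [h5, one_pow, sub_self] at h7
      exact sub_eq_zero.mp (pow_eq_zero_iff (Fact.out : p.Prime).ne_zero |>.mp h7)
    rw [h1, h6, one_smul]
  · have hB : IsPBlock M B := L.hmax.1.2.1
    haveI := Cfsg.Agent.Lib.Char.Ortho.finite_irrCharacter (G := G)
    letI := Fintype.ofFinite (IrrCharacter G)
    let zR : Subalgebra.center ℂ (GA L.H) := restrCenter L.H (idem B)
    have hcoe : ∀ h : L.H, (zR : GA L.H).coeff h = blockCoeff B (h : G) := by
      intro h
      rw [coe_restrCenter, coeff_restr, coeff_idem]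
    have hrv : RV V (zR : GA L.H) := fun h => by
      rw [hcoe]
      exact hV _ (memLocalRing_blockCoeff hB _)
    have h1 := hsc zR hrv
    have hκ : indHom L.H ξ₀ (idem B) = omegaHom ξ₀ zR := rfl
    have hind : IsInducedBlock M L.H L.f B :=
      isInducedBlock_of_isBrauerPairOf L.hM ((isBrauerPairOf_iff_of_subpairLE L.hM L.hle hB).mp L.hmax.1)
    have hκred : red V (omegaHom ξ₀ zR) = 1 := by
      obtain ⟨α, hα⟩ := isPBlock_nonempty hB
      have h2 := IsInducedBlock.sub_mem L.H hind hξ₀ hα (idem_mem_localCenter hB)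
      rw [omegaHom_idem, if_pos hα, hκ] at h2
      have h3 := hVn _ h2
      have h4 : omegaHom ξ₀ zR - 1 ∈ V := nonunits_le h3
      have h5 : omegaHom ξ₀ zR ∈ V := by
        have h6 := V.add_mem _ _ h4 V.one_mem
        rwa [sub_add_cancel] at h6
      have h6 := (red_eq_zero_iff h4).mpr h3
      rw [red_sub h5 V.one_mem, Cfsg.Agent.Lib.D1.Res.red_one, sub_eq_zero] at h6
      exact h6
    rw [hκred, one_smul, Op_apply] at h1
    rw [← h1]
    refine Finset.sum_congr rfl fun h _ => ?_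
    rw [coeff_rd, hcoe]

include L in
/-- The sum over the elements outside the centralizer vanishes. -/
theorem sum_outside {A : Type*} [AddCommGroup A] [Module (K V) A] (F : L.N → A)
    (hF : ∀ a : L.N, (a : G) ∉ L.H → ∀ u : L.N, (u : G) ∈ L.Z → F (a * u) = F a) :
    ∑ a : L.N, (open Classical in if (a : G) ∈ L.H then 0 else F a) = 0 := by
  classical
  let Q : Subgroup L.N := L.Z.subgroupOf L.N
  letI : Fintype Q := Fintype.ofFinite _
  letI : Fintype (L.N ⧸ Q) := Fintype.ofFinite _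
  have hQle : L.Z ≤ L.N := fun z hz => L.hHN (L.hDH (L.hZD hz))
  have hQ : Nat.card Q = p := by
    have h1 : Nat.card Q = Nat.card L.Z := Nat.card_congr (Subgroup.subgroupOfEquivOfLe hQle).toEquiv
    rw [h1, L.hZc]
  rw [Cfsg.Agent.Lib.ModRep.Count.sum_cosets Q]
  refine Finset.sum_eq_zero fun c _ => ?_
  have h1 : ∀ u : Q, (if (((c.out * (u : L.N) : L.N)) : G) ∈ L.H then 0 else F (c.out * (u : L.N))) =
      (if ((c.out : L.N) : G) ∈ L.H then 0 else F c.out) := by
    intro u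
    have huP : (((u : L.N)) : G) ∈ L.Z := u.2
    have huC : (((u : L.N)) : G) ∈ L.H := L.hDH (L.hZD huP)
    have hiff : (((c.out * (u : L.N) : L.N)) : G) ∈ L.H ↔ ((c.out : L.N) : G) ∈ L.H := by
      rw [Subgroup.coe_mul]
      exact Subgroup.mul_mem_cancel_right _ huC
    by_cases hc : ((c.out : L.N) : G) ∈ L.H
    · rw [if_pos hc, if_pos (hiff.mpr hc)]
    · rw [if_neg hc, if_neg (fun h => hc (hiff.mp h))]
      exact hF _ hc _ huP
  rw [Finset.sum_congr rfl (fun u _ => h1 u), Finset.sum_const, Finset.card_univ,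
    ← Nat.card_eq_fintype_card, hQ, ← Nat.cast_smul_eq_nsmul (K V), CharP.cast_eq_zero, zero_smul]

include L in
/-- The local computation for the twists. -/
theorem hlocal_twist {m : ℕ} {τ : Representation (K V) L.N (Fin m → K V)} (hZ : ∀ z : L.N, (z : G) ∈ L.Z → τ z = 1)
    (hsum : ∑ h : L.H, red V (blockCoeff B (h : G)) • τ (Subgroup.inclusion L.hHN h) = 1)
    (ν : L.N →* (K V)ˣ) (hν : ∀ h, ν (Subgroup.inclusion L.hHN h) = 1) :
    ∑ a : L.N, red V (blockCoeff B (a : G)) • twRep τ ν a = 1 := by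
  classical
  haveI := Cfsg.Agent.Lib.Char.Ortho.finite_irrCharacter (G := G)
  letI := Fintype.ofFinite (IrrCharacter G)
  set F : L.N → End (K V) (Fin m → K V) := fun a => red V (blockCoeff B (a : G)) • twRep τ ν a with hF
  have hout := L.sum_outside (V := V) F (by
    intro a ha u hu
    obtain ⟨v, -, hv⟩ := Cfsg.Agent.Lib.D1.CountA.exists_conj_eq_mul L.hZc (L.hNN a.2) ha hu
    have h1 : blockCoeff B ((a * u : L.N) : G) = blockCoeff B (a : G) := by
      have h2 : ((a * u : L.N) : G) = v * a * v⁻¹ := by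
        rw [hv]
        rfl
      rw [h2]
      exact blockCoeff_conj_invariant B _ _
    simp only [hF]
    have h2 : ν u = 1 := by
      have h3 := hν ⟨u, L.hDH (L.hZD hu)⟩
      have h4 : Subgroup.inclusion L.hHN ⟨(u : G), L.hDH (L.hZD hu)⟩ = u := Subtype.ext rfl
      rwa [h4] at h3
    rw [h1, map_mul, twRep_apply, twRep_apply, hZ u hu, h2, Units.val_one, one_smul, mul_one])
  have hin : ∑ a : L.N, (if (a : G) ∈ L.H then F a else 0) = 1 := by
    rw [sum_eq_sum_subgroup (L.H.subgroupOf L.N) _ (fun a ha => by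
      rw [if_neg (fun h => ha (Subgroup.mem_subgroupOf.mpr h))])]
    rw [← hsum]
    refine Fintype.sum_equiv (Subgroup.subgroupOfEquivOfLe L.hHN).toEquiv _ _ fun x => ?_
    have hx : ((x : L.N) : G) ∈ L.H := Subgroup.mem_subgroupOf.mp x.2
    rw [if_pos hx]
    simp only [hF]
    have h1 : Subgroup.inclusion L.hHN ((Subgroup.subgroupOfEquivOfLe L.hHN).toEquiv x) = (x : L.N) := Subtype.ext rfl
    rw [h1, twRep_apply]
    have h2 : ν (x : L.N) = 1 := by
      have h3 := hν ((Subgroup.subgroupOfEquivOfLe L.hHN).toEquiv x)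
      rwa [h1] at h3
    rw [h2, Units.val_one, one_smul]
    rfl
  have hadd : ∑ a : L.N, F a = ∑ a : L.N, (if (a : G) ∈ L.H then F a else 0) +
      ∑ a : L.N, (if (a : G) ∈ L.H then 0 else F a) := by
    rw [← Finset.sum_add_distrib]
    refine Finset.sum_congr rfl fun a _ => ?_
    by_cases h : (a : G) ∈ L.H
    · rw [if_pos h, if_pos h, add_zero]
    · rw [if_neg h, if_neg h, zero_add]
  change ∑ a : L.N, F a = 1
  rw [hadd, hin, hout, add_zero]

include L in
/-- The twists of the module of the stabilizer. -/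
theorem exists_twists : ∃ ν : Fin (L.H.relIndex L.N) → (L.N →* (K V)ˣ), Function.Injective ν ∧
    ∀ j h, ν j (Subgroup.inclusion L.hHN h) = 1 := by
  classical
  obtain ⟨Φ, hΦ⟩ := L.exists_Phi
  let r : (ZMod p)ˣ →* (K V)ˣ := Units.map (ZMod.castHom (dvd_refl p) (K V) : ZMod p →* K V)
  have hr : Function.Injective r := by
    intro a b hab
    have h1 := congrArg (fun x : (K V)ˣ => (x : K V)) hab
    exact Units.ext ((ZMod.castHom (dvd_refl p) (K V)).injective h1)
  let ν₁ : L.N →* (K V)ˣ := r.comp Φ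
  have hΦ1 : ∀ h : L.H, Φ (Subgroup.inclusion L.hHN h) = 1 := by
    intro h
    have h1 : Subgroup.inclusion L.hHN h ∈ Φ.ker := by
      rw [hΦ]
      exact Subgroup.mem_subgroupOf.mpr h.2
    exact h1
  haveI : IsCyclic Φ.range := Subgroup.isCyclic _
  obtain ⟨x, hx⟩ := IsCyclic.exists_generator (α := Φ.range)
  obtain ⟨n₀, hn₀⟩ := x.2
  have hcard : Nat.card Φ.range = L.H.relIndex L.N := by
    rw [Subgroup.relIndex]
    have h1 := Subgroup.index_ker Φ
    rw [hΦ] at h1
    exact h1.symm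
  have ho : orderOf (Φ n₀) = L.H.relIndex L.N := by
    rw [← hcard, hn₀]
    change orderOf (x : (ZMod p)ˣ) = _
    rw [Subgroup.orderOf_coe, orderOf_eq_card_of_forall_mem_zpowers hx]
  have ho' : orderOf (ν₁ n₀) = L.H.relIndex L.N := by
    change orderOf (r (Φ n₀)) = _
    rw [orderOf_injective r hr, ho]
  refine ⟨fun j => ν₁ ^ (j : ℕ), ?_, ?_⟩
  · intro j j' hjj'
    have h1 := DFunLike.congr_fun hjj' n₀
    simp only [MonoidHom.pow_apply] at h1
    have h2 : (j : ℕ) = j' := pow_injOn_Iio_orderOf (x := ν₁ n₀)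
      (by rw [Set.mem_Iio, ho']; exact j.2) (by rw [Set.mem_Iio, ho']; exact j'.2) h1
    exact Fin.ext h2
  · intro j h
    simp only [MonoidHom.pow_apply]
    have h1 : ν₁ (Subgroup.inclusion L.hHN h) = 1 := by
      change r (Φ _) = 1
      rw [hΦ1, map_one]
    rw [h1, one_pow]

end Main

end Data

section Rank

variable {V : ValuationSubring ℂ}

open Cfsg.Agent.Lib.D1.Span Cfsg.Agent.Lib.ModRep.Span

/-- **An independent family in the span of the reductions of a block bounds the rank.** -/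
theorem le_blockRank (hM : IsPModular p M) (hVn : ∀ z, MemLocalIdeal M z → z ∈ V.nonunits) [CharP (K V) p]
    {ι : Type*} [Fintype ι] (τ' : ι → G → K V) (hli : LinearIndependent (K V) τ')
    (hW : ∀ j, τ' j ∈ Submodule.span (K V) (bar (redA V) '' B)) : Fintype.card ι ≤ blockRank p B := by
  classical
  haveI := isPrime_of_pModular hM
  haveI := Cfsg.Agent.Lib.Char.Ortho.finite_irrCharacter (G := G)
  letI := Fintype.ofFinite (IrrCharacter G)
  set X : Set (G → K V) := bar (redA V) '' B with hX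
  obtain ⟨b, hbX, hspan, hbli⟩ := exists_linearIndependent (K V) X
  have hXfin : X.Finite := (Set.toFinite B).image _
  letI : Fintype b := (hXfin.subset hbX).fintype
  have h1 : Fintype.card ι ≤ Fintype.card b := by
    have h2 := linearIndependent_le_span' τ' hli b (by
      rw [Set.range_subset_iff]
      intro j
      rw [hspan]
      exact hW j)
    rw [Cardinal.mk_fintype, Nat.cast_le] at h2
    exact h2
  choose χ hχB hχb using (fun x : b => hbX x.2 : ∀ x : b, ∃ χ ∈ B, bar (redA V) χ = (x : G → K V))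
  have h2 : LinearIndependent ℂ (fun x : b => pRegularPart p ((χ x : IrrCharacter G) : G → ℂ)) := by
    rw [Fintype.linearIndependent_iff]
    intro a ha b₀
    by_contra hb₀
    obtain ⟨x₀, -, hmax⟩ := Finset.exists_max_image Finset.univ (fun x => V.valuation (a x)) ⟨b₀, Finset.mem_univ _⟩
    have hx₀ : a x₀ ≠ 0 := by
      intro h0
      have h3 := hmax b₀ (Finset.mem_univ _)
      rw [h0, map_zero, le_zero_iff, map_eq_zero] at h3
      exact hb₀ h3
    set d : b → ℂ := fun x => a x / a x₀ with hd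
    have hdV : ∀ x, d x ∈ V := fun x => by
      rw [← V.valuation_le_one_iff]
      simp only [hd]
      rw [map_div₀]
      exact div_le_one_of_le₀ (hmax x (Finset.mem_univ _)) zero_le
    have hsum : ∀ y : G, ¬ p ∣ orderOf y → ∑ x, d x * ((χ x : IrrCharacter G) : G → ℂ) y = 0 := by
      intro y hy
      have h3 := congrFun ha y
      simp only [Finset.sum_apply, Pi.smul_apply, smul_eq_mul, Pi.zero_apply] at h3
      have h4 : ∑ x, a x * ((χ x : IrrCharacter G) : G → ℂ) y = 0 := by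
        rw [← h3]
        refine Finset.sum_congr rfl fun x _ => ?_
        have hy' : IsPRegular p y := hy
        rw [Cfsg.Agent.Lib.BlockH.Regular.pRegularPart_apply, if_pos hy']
      have h5 : ∑ x, d x * ((χ x : IrrCharacter G) : G → ℂ) y =
          (a x₀)⁻¹ * ∑ x, a x * ((χ x : IrrCharacter G) : G → ℂ) y := by
        rw [Finset.mul_sum]
        refine Finset.sum_congr rfl fun x _ => ?_
        simp only [hd]
        ring
      rw [h5, h4, mul_zero]
    have hbar : ∑ x, red V (d x) • ((x : b) : G → K V) = 0 := by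
      funext g
      obtain ⟨b', y, hab, hcomm, ⟨n, hn⟩, hreg⟩ := Cfsg.Agent.Lib.Blocks.PPart.exists_pPart_y (p := p) g
      have hbp : b' ^ p ^ n = 1 := by rw [← hn]; exact pow_orderOf_eq_one b'
      have hg : ∀ ψ : IrrCharacter G, bar (redA V) ψ g = bar (redA V) ψ y := by
        intro ψ
        rw [← hab, hcomm.eq]
        exact bar_mul_eq (redA V) hM (fun a' ha' => (red_eq_zero_iff (Cfsg.Agent.Lib.D1.Modl.mem_of_isIntegral a'.2)).mpr
          (hVn _ ((memLocalIdeal_coe_iff (M := M)).mpr ha'))) ψ hcomm.symm hbp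
      have h3 := congrArg (red V) (hsum y hreg)
      rw [red_zero, red_sum _ _ fun x _ => V.mul_mem _ _ (hdV x)
        (Cfsg.Agent.Lib.D1.Modl.mem_of_isIntegral (Cfsg.Agent.Lib.BlockP.Stable.isIntegral_irr _ y))] at h3
      simp only [Finset.sum_apply, Pi.smul_apply, smul_eq_mul, Pi.zero_apply]
      rw [← h3]
      refine Finset.sum_congr rfl fun x _ => ?_
      rw [← hχb x, hg, red_mul (hdV x) (Cfsg.Agent.Lib.D1.Modl.mem_of_isIntegral (Cfsg.Agent.Lib.BlockP.Stable.isIntegral_irr _ y))]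
      rfl
    have h3 := Fintype.linearIndependent_iff.mp hbli (fun x => red V (d x)) hbar x₀
    have h4 : d x₀ = 1 := div_self hx₀
    rw [h4, Cfsg.Agent.Lib.D1.Res.red_one] at h3
    exact one_ne_zero h3
  have h3 : Fintype.card b ≤ blockRank p B := by
    rw [blockRank]
    let W' := Submodule.span ℂ ((fun χ : IrrCharacter G => pRegularPart p (χ : G → ℂ)) '' B)
    let v' : b → W' := fun x => ⟨_, Submodule.subset_span ⟨χ x, hχB x, rfl⟩⟩
    have hv' : LinearIndependent ℂ v' := LinearIndependent.of_comp W'.subtype h2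
    exact hv'.fintype_card_le_finrank
  exact h1.trans h3

end Rank

section Count

open Cfsg.Agent.Lib.D1.Span Cfsg.Agent.Lib.ModRep.Span Cfsg.Agent.Lib.D1.Comp

/-- **The number of modular constituents of a block with a cyclic defect group is at least the inertial index.** -/
theorem relIndex_le_blockRank (hM : IsPModular p M) (hmax : IsMaximalBrauerPair p M B D c) (hD1 : D ≠ ⊥)
    (hcyc : IsCyclic D) : (Subgroup.centralizer (D : Set G)).relIndex (stabSub D c) ≤ blockRank p B := by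
  classical
  obtain ⟨L⟩ := exists_loc hM hmax hD1 hcyc
  rw [← L.pack.2]
  haveI := isPrime_of_pModular hM
  haveI := Cfsg.Agent.Lib.Char.Ortho.finite_irrCharacter (G := G)
  letI := Fintype.ofFinite (IrrCharacter G)
  obtain ⟨V, hV, hVn, hVp⟩ := exists_val hM
  haveI : CharP (K V) p := charP_K hM.1 hVp
  obtain ⟨ξ₀, hξ₀, hfix⟩ := L.exists_fixed
  have hD : ∀ u v : D, u * v = v * u := fun u v => Subtype.ext (L.hab _ u.2 _ v.2)
  haveI : Finite (D →* ℂˣ) := (Cfsg.Agent.Lib.Glauberman.Act.dual_facts hD).1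
  letI : Fintype (D →* ℂˣ) := Fintype.ofFinite _
  obtain ⟨i, s, u, w, hH⟩ := L.exists_hc
  obtain ⟨g₀, hg₀⟩ := L.exists_gen
  obtain ⟨n, hn⟩ := L.hmax.1.1.1.exists_card_eq
  obtain ⟨A₀, hS⟩ := L.exists_setup hfix hV hξ₀ hH hg₀ hn
  obtain ⟨m, τ, t₀, ℓ₀, hm, hT, hZ, hsum⟩ := L.exists_T hfix hV hVn hξ₀ hH g₀
  obtain ⟨ν, hνi, hν⟩ := L.exists_twists (V := V)
  haveI : Nonempty (Fin m) := ⟨⟨0, hm⟩⟩
  have hB : IsPBlock M B := hmax.1.2.1
  have hb : ∀ g, blockCoeff B g ∈ V := fun g => hV _ (memLocalRing_blockCoeff hB g)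
  let f : G → K V := fun g => red V (blockCoeff B g)
  have hcent : ∀ a g, f (a * g * a⁻¹) = f g := by
    intro a g
    simp only [f]
    rw [blockCoeff_conj_invariant]
  have hidem : ∀ g, (∑ a : G, f a * f (a⁻¹ * g)) = f g := by
    intro g
    have h1 := congrArg (red V) (Cfsg.Agent.Lib.D1.CountA.sum_blockCoeff_mul B g)
    rw [red_sum _ _ (fun a _ => V.mul_mem _ _ (hb _) (hb _))] at h1
    simp only [f]
    rw [← h1]
    refine Finset.sum_congr rfl fun a _ => ?_
    rw [red_mul (hb _) (hb _)]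
  choose Sm i1 i2 i3 ρ hirr heOp ι hemb using fun j : Fin (L.H.relIndex L.N) =>
    exists_simple_of_local hS (tData_twRep hS hT (hν j)) f hcent (by
      convert hidem) (by
      convert L.hlocal_twist hZ hsum (ν j) (hν j))
  letI := i1
  letI := i2
  haveI := i3
  haveI := hirr
  have hne : ∀ j j' : Fin (L.H.relIndex L.N), j ≠ j' → ∀ φ : Sm j →ₗ[K V] Sm j',
      (∀ g, φ ∘ₗ ρ j g = ρ j' g ∘ₗ φ) → φ = 0 := by
    intro j j' hjj' φ hφ
    by_contra hφ0
    have hbij := Cfsg.Agent.Lib.D1.Modl.bijective_of_intertwiner (hirr j) (hirr j') φ hφ hφ0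
    have h₂ := stableEmb_comp' (hemb j) φ hφ hbij
    obtain ⟨ψ, hψ⟩ := MSetup.exists_equiv hS (ρ j') h₂ (hemb j')
    exact hjj' (hνi (eq_of_equiv hS hT (hν j) (hν j') ψ hψ))
  let τ' : Fin (L.H.relIndex L.N) → G → K V := fun j g => LinearMap.trace (K V) (Sm j) (ρ j g)
  have hli : LinearIndependent (K V) τ' := by
    rw [Fintype.linearIndependent_iff]
    intro a hc i₀
    obtain ⟨a', ha⟩ := Cfsg.Agent.Lib.D1.Density.exists_dual (k := K V) ρ hne i₀
    have h1 : ∑ β, a β * ∑ g : G, a' g * τ' β g = 0 := by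
      simp_rw [Finset.mul_sum]
      rw [Finset.sum_comm]
      refine Finset.sum_eq_zero fun g _ => ?_
      have h2 := congrFun hc g
      simp only [Finset.sum_apply, Pi.smul_apply, smul_eq_mul, Pi.zero_apply] at h2
      have h3 : ∑ β, a β * (a' g * τ' β g) = a' g * ∑ β, a β * τ' β g := by
        rw [Finset.mul_sum]
        refine Finset.sum_congr rfl fun β _ => ?_
        ring
      rw [h3, h2, mul_zero]
    simp only [τ'] at h1
    simp only [ha] at h1
    rw [Finset.sum_eq_single i₀] at h1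
    · rw [if_pos rfl, mul_one] at h1
      exact h1
    · intro j _ hj
      rw [if_neg hj, mul_zero]
    · intro h
      exact absurd (Finset.mem_univ _) h
  have hcardF := le_blockRank hM hVn τ' hli (fun j => by
    refine Cfsg.Agent.Lib.D1.Count.trace_mem_span hM hV hVn hB (ρ j) ?_ _ (fun χ hχ => Submodule.subset_span ⟨χ, hχ, rfl⟩)
    have h1 := heOp j
    unfold eOp at h1
    convert h1)
  simpa using hcardF

end Count

end Cfsg.Agent.Lib.Dade.Loc
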