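import Mathlib
import Cfsg.Agent.Lib.Dade.Count

/-!
# The numerical structure of a block with a cyclic defect group
-/

set_option linter.unusedSectionVars false
set_option linter.style.haveILetI false
set_option autoImplicit false

namespace Cfsg.Agent.Lib.Dade.Num

open Cfsg MonoidAlgebra
open Cfsg.Agent.Lib.Blocks.Local Cfsg.Agent.Lib.Blocks.Central Cfsg.Agent.Lib.Blocks.Brauer
open Cfsg.Agent.Lib.BlockH.Transport Cfsg.Agent.Lib.BlockH.Subpair Cfsg.Agent.Lib.BlockH.SubpairLE
open Cfsg.Agent.Lib.BlockH.ConjPair Cfsg.Agent.Lib.BlockH.Descent Cfsg.Agent.Lib.BlockH.MaxPair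
open Cfsg.Agent.Lib.BlockH.InducedPairs Cfsg.Agent.Lib.BlockH.AbelianDefect
open Cfsg.Agent.Lib.BP.StarDefs Cfsg.Agent.Lib.BP.Star1
open Cfsg.Agent.Lib.BP.Star2 Cfsg.Agent.Lib.BP.Star3 Cfsg.Agent.Lib.BP.Rob1 Cfsg.Agent.Lib.BP.Rob2
open Cfsg.Agent.Lib.BP.Nil1 Cfsg.Agent.Lib.BP.Nil2 Cfsg.Agent.Lib.BP.Nil3 Cfsg.Agent.Lib.BP.Nil4
open Cfsg.Agent.Lib.Contrib.Section
open Cfsg.Agent.Lib.Char.Basic Cfsg.Agent.Lib.Char.Complete Cfsg.Agent.Lib.Char.Ortho Cfsg.Agent.Lib.Char.GenLattice
open Cfsg.Agent.Lib.Char.Degree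
open Cfsg.Agent.Lib.Dade.Base Cfsg.Agent.Lib.Dade.NilDual Cfsg.Agent.Lib.Dade.Gen Cfsg.Agent.Lib.Dade.Loc
open Cfsg.Agent.Lib.Dade.Row Cfsg.Agent.Lib.Dade.Count
open scoped ComplexConjugate

universe u

/-! ### Linear algebra -/

section LA

variable {ι I : Type*} [Fintype ι] [Fintype I] [DecidableEq ι] [DecidableEq I]

/-- **The rank argument.** -/
theorem la_core (P : Matrix ι ι ℂ) (A : Matrix ι I ℂ) (E : Matrix I ι ℂ) (l : ℕ) (hP : P.rank ≤ l)
    (hc : l + Fintype.card I ≤ Fintype.card ι) (h : P + A * E = 1) : E * A = 1 ∧ E * P = 0 := by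
  classical
  set V := LinearMap.ker E.mulVecLin with hV
  have hnull : Module.finrank ℂ (LinearMap.range E.mulVecLin) + Module.finrank ℂ V = Fintype.card ι := by
    have := LinearMap.finrank_range_add_finrank_ker E.mulVecLin
    rwa [Module.finrank_fintype_fun_eq_card] at this
  have hrE : Module.finrank ℂ (LinearMap.range E.mulVecLin) ≤ Fintype.card I := by
    have := Submodule.finrank_le (LinearMap.range E.mulVecLin)
    rwa [Module.finrank_fintype_fun_eq_card] at this
  have hsub : V ≤ LinearMap.range P.mulVecLin := by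
    intro v hv
    refine ⟨v, ?_⟩
    have hEv : E.mulVec v = 0 := hv
    have h1 : (P + A * E).mulVec v = v := by rw [h, Matrix.one_mulVec]
    rw [Matrix.add_mulVec, ← Matrix.mulVec_mulVec, hEv, Matrix.mulVec_zero, add_zero] at h1
    exact h1
  have hrP : Module.finrank ℂ (LinearMap.range P.mulVecLin) ≤ l := hP
  have hle : Module.finrank ℂ (LinearMap.range P.mulVecLin) ≤ Module.finrank ℂ V := by
    omega
  have heq : V = LinearMap.range P.mulVecLin := Submodule.eq_of_le_of_finrank_le hsub hle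
  have hEP : E * P = 0 := by
    apply Matrix.toLin'.injective
    refine LinearMap.ext fun v => ?_
    have h1 : P.mulVec v ∈ V := by
      rw [heq]
      exact ⟨v, rfl⟩
    have h2 : E.mulVec (P.mulVec v) = 0 := h1
    simp only [Matrix.toLin'_mul, LinearMap.comp_apply, Matrix.toLin'_apply, map_zero, LinearMap.zero_apply]
    exact h2
  refine ⟨?_, hEP⟩
  have hsurj : Function.Surjective E.mulVecLin := by
    rw [← LinearMap.range_eq_top]
    apply Submodule.eq_top_of_finrank_eq
    rw [Module.finrank_fintype_fun_eq_card]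
    have h3 : Module.finrank ℂ V ≤ l := by
      rw [heq]
      exact hrP
    omega
  have h5 : (E * A - 1) * E = 0 := by
    have h6 : E = E * (P + A * E) := by rw [h, Matrix.mul_one]
    have h7 : E * (P + A * E) = E * P + E * (A * E) := Matrix.mul_add _ _ _
    rw [hEP, zero_add] at h7
    rw [Matrix.sub_mul, Matrix.one_mul, Matrix.mul_assoc, ← h7, ← h6, sub_self]
  have h8 : E * A - 1 = 0 := by
    apply Matrix.toLin'.injective
    refine LinearMap.ext fun u => ?_
    obtain ⟨v, rfl⟩ := hsurj u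
    have h9 : ((E * A - 1) * E).mulVec v = 0 := by
      rw [h5, Matrix.zero_mulVec]
    rw [← Matrix.mulVec_mulVec] at h9
    simp only [Matrix.toLin'_apply, map_zero, LinearMap.zero_apply, Matrix.mulVecLin_apply]
    exact h9
  exact sub_eq_zero.mp h8

end LA

/-! ### The dual of a cyclic defect group -/

section Dual

variable {A : Type*} [Group A] [Fintype A]

/-- Orthogonality of homomorphisms. -/
theorem sum_hom_mul_conj (γ γ' : A →* ℂˣ) [Decidable (γ = γ')] :
    ∑ a : A, ((γ a : ℂˣ) : ℂ) * conj ((γ' a : ℂˣ) : ℂ) = if γ = γ' then (Nat.card A : ℂ) else 0 := by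
  have hA : (Nat.card A : ℂ) ≠ 0 := by exact_mod_cast Nat.card_pos.ne'
  split_ifs with h
  · subst h
    have h1 := classInner_self_of_isIrr (homFun_isIrr γ)
    rw [classInner] at h1
    field_simp at h1
    simpa [homFun] using h1
  · have hne : homFun γ ≠ homFun γ' := by
      intro h1
      apply h
      ext a
      exact congrFun h1 a
    have h1 := classInner_eq_zero_of_isIrr_of_ne (homFun_isIrr γ) (homFun_isIrr γ') hne
    rw [classInner] at h1
    rcases mul_eq_zero.mp h1 with h2 | h2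
    · exact absurd h2 (inv_ne_zero hA)
    · simpa [homFun] using h2

end Dual

section Orbits

variable {G : Type u} [Group G] [Fintype G] {p : ℕ} {M : Ideal AlgInt} [Fact p.Prime]

attribute [local instance] fK fIrr fBl fDual

variable {B : Set (IrrCharacter G)} {D : Subgroup G} {c : Set (IrrCharacter (Subgroup.centralizer (D : Set G)))}

variable (D c) in
/-- The orbits of the stabilizer on the nontrivial elements of the dual. -/
abbrev Orb : Type u := MulAction.orbitRel.Quotient (stabSub D c) (DSh D)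

/-- A finiteness structure on the orbits. -/
noncomputable def fOrb (D : Subgroup G) (c : Set (IrrCharacter (Subgroup.centralizer (D : Set G)))) :
    Fintype (Orb D c) := Fintype.ofFinite _

attribute [local instance] fOrb

open Classical in
/-- The orbit of an element. -/
noncomputable def orbOf (γ : DSh D) : Orb D c := Quotient.mk _ γ

/-- The representative of an orbit. -/
noncomputable def rp (i : Orb D c) : DSh D := Quotient.out i

theorem orbOf_rp (i : Orb D c) : orbOf (rp i) = i := Quotient.out_eq i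

open Classical in
/-- The sum over an orbit. -/
noncomputable def sig (i : Orb D c) (w : D) : ℂ :=
  ∑ γ : DSh D, if orbOf γ = i then ((γ.1 w : ℂˣ) : ℂ) else 0

theorem exists_smul_rp (γ : DSh D) : ∃ t : stabSub D c, t • rp (orbOf γ : Orb D c) = γ := by
  have h1 : (orbOf (rp (orbOf γ : Orb D c)) : Orb D c) = orbOf γ := orbOf_rp _
  have h2 : (MulAction.orbitRel (stabSub D c) (DSh D)) γ (rp (orbOf γ : Orb D c)) := Quotient.exact h1.symm
  exact h2

theorem orbOf_smul (t : stabSub D c) (γ : DSh D) : (orbOf (t • γ) : Orb D c) = orbOf γ :=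
  Quotient.sound ⟨t, rfl⟩

/-- An invariant function on an orbit. -/
theorem inv_eq_rp {α : Type*} {F : (D →* ℂˣ) → α} (hF : ∀ (t : stabSub D c) γ, F (Data.dA t γ) = F γ) (γ : DSh D) :
    F γ.1 = F (rp (orbOf γ : Orb D c)).1 := by
  obtain ⟨t, ht⟩ := exists_smul_rp (c := c) γ
  conv_lhs => rw [← ht]
  exact hF t _

open Classical in
variable (c) in
/-- The size of the orbits. -/
theorem card_fiber (L : Data p M B D c) (i : Orb D c) :
    (Finset.univ.filter fun γ : DSh D => orbOf γ = i).card =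
      (Subgroup.centralizer (D : Set G)).relIndex (stabSub D c) := by
  have h2 := MulAction.index_stabilizer (G := stabSub D c) (x := rp i)
  rw [stabilizer_dsh L] at h2
  rw [Subgroup.relIndex, h2, ← Fintype.card_subtype, ← Nat.card_eq_fintype_card]
  refine Nat.card_congr (Equiv.subtypeEquivRight fun γ => ?_)
  constructor
  · intro hγ
    subst hγ
    obtain ⟨t, ht⟩ := exists_smul_rp (c := c) γ
    exact ⟨t, ht⟩
  · rintro ⟨t, rfl⟩
    rw [orbOf_smul, orbOf_rp]

theorem sig_one (L : Data p M B D c) (i : Orb D c) :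
    sig i (1 : D) = ((Subgroup.centralizer (D : Set G)).relIndex (stabSub D c) : ℂ) := by
  classical
  rw [sig, ← card_fiber c L i, Finset.card_eq_sum_ones, Finset.sum_filter]
  push_cast
  refine Finset.sum_congr rfl fun γ _ => ?_
  simp

theorem sum_sig (L : Data p M B D c) {w : D} (hw : w ≠ 1) : ∑ i : Orb D c, sig i w = -1 := by
  classical
  have hD : ∀ u v : D, u * v = v * u := fun u v => Subtype.ext (L.hab _ u.2 _ v.2)
  have h1 := Cfsg.Agent.Lib.Glauberman.Act.sum_dual hD w
  rw [if_neg hw] at h1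
  simp only [sig]
  rw [Finset.sum_comm]
  have h2 : ∀ γ : DSh D, (∑ i : Orb D c, if orbOf γ = i then ((γ.1 w : ℂˣ) : ℂ) else 0) = ((γ.1 w : ℂˣ) : ℂ) := by
    intro γ
    rw [Finset.sum_ite_eq]
    simp
  simp_rw [h2]
  rw [Fintype.sum_eq_add_sum_subtype_ne _ (1 : D →* ℂˣ)] at h1
  have h3 : ((((1 : D →* ℂˣ) w : ℂˣ)) : ℂ) = 1 := by simp
  rw [h3] at h1
  linear_combination h1

/-- The expansion of an invariant combination on the nontrivial elements. -/
theorem sum_eq_sum_sig (L : Data p M B D c) (m : (D →* ℂˣ) → ℕ) (hm : ∀ (t : stabSub D c) γ, m (Data.dA t γ) = m γ)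
    {w : D} (hw : w ≠ 1) :
    ∑ γ : D →* ℂˣ, (m γ : ℂ) * ((γ w : ℂˣ) : ℂ) =
      ∑ i : Orb D c, (((m (rp i).1 : ℤ) - (m 1 : ℤ) : ℤ) : ℂ) * sig i w := by
  classical
  rw [Fintype.sum_eq_add_sum_subtype_ne _ (1 : D →* ℂˣ)]
  have h3 : ((((1 : D →* ℂˣ) w : ℂˣ)) : ℂ) = 1 := by simp
  rw [h3, mul_one]
  have h1 : ∑ γ : DSh D, (m γ.1 : ℂ) * ((γ.1 w : ℂˣ) : ℂ) = ∑ i : Orb D c, (m (rp i).1 : ℂ) * sig i w := by
    simp only [sig, Finset.mul_sum]
    rw [Finset.sum_comm]
    refine Finset.sum_congr rfl fun γ _ => ?_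
    have h2 : ∀ i : Orb D c, ((m (rp i).1 : ℂ) * if orbOf γ = i then ((γ.1 w : ℂˣ) : ℂ) else 0) =
        if orbOf γ = i then (m (rp (orbOf γ : Orb D c)).1 : ℂ) * ((γ.1 w : ℂˣ) : ℂ) else 0 := by
      intro i
      by_cases hi : orbOf γ = i
      · subst hi
        simp
      · simp [hi]
    simp_rw [h2]
    rw [Finset.sum_ite_eq]
    simp only [Finset.mem_univ, if_true]
    rw [← inv_eq_rp (F := m) hm γ]
  have h4 := sum_sig L hw
  rw [h1]
  push_cast
  simp only [sub_mul, Finset.sum_sub_distrib]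
  rw [← Finset.mul_sum, h4]
  ring

/-- **Orthogonality of the orbit sums.** -/
theorem sum_sig_mul_conj (L : Data p M B D c) (i j : Orb D c) [Decidable (i = j)] :
    ∑ w : D, sig i w * conj (sig j w) =
      if i = j then (Nat.card D : ℂ) * ((Subgroup.centralizer (D : Set G)).relIndex (stabSub D c) : ℂ) else 0 := by
  classical
  have h1 : ∀ w : D, sig i w * conj (sig j w) = ∑ γ : DSh D, ∑ γ' : DSh D,
      (if orbOf γ = i then (if orbOf γ' = j then ((γ.1 w : ℂˣ) : ℂ) * conj ((γ'.1 w : ℂˣ) : ℂ) else 0) else 0) := by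
    intro w
    rw [sig, sig, map_sum, Finset.sum_mul_sum]
    refine Finset.sum_congr rfl fun γ _ => Finset.sum_congr rfl fun γ' _ => ?_
    by_cases h2 : orbOf γ = i <;> by_cases h3 : orbOf γ' = j <;> simp [h2, h3]
  simp_rw [h1]
  rw [Finset.sum_comm]
  have h2 : ∀ γ : DSh D, (∑ w : D, ∑ γ' : DSh D,
      (if orbOf γ = i then (if orbOf γ' = j then ((γ.1 w : ℂˣ) : ℂ) * conj ((γ'.1 w : ℂˣ) : ℂ) else 0) else 0)) =
      if orbOf γ = i then (if orbOf γ = j then (Nat.card D : ℂ) else 0) else 0 := by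
    intro γ
    rw [Finset.sum_comm]
    by_cases h3 : orbOf γ = i
    · simp only [if_pos h3]
      rw [Finset.sum_eq_single γ]
      · by_cases h4 : orbOf γ = j
        · simp only [if_pos h4]
          rw [sum_hom_mul_conj, if_pos rfl]
        · simp [h4]
      · intro γ' _ hne
        by_cases h4 : orbOf γ' = j
        · simp only [if_pos h4]
          rw [sum_hom_mul_conj, if_neg (fun h => hne (Subtype.ext h.symm))]
        · simp [h4]
      · intro h
        exact absurd (Finset.mem_univ _) h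
    · simp [h3]
  simp_rw [h2]
  by_cases hij : i = j
  · subst hij
    rw [if_pos rfl, ← card_fiber c L i, Finset.card_eq_sum_ones, Finset.sum_filter]
    push_cast
    rw [Finset.mul_sum]
    refine Finset.sum_congr rfl fun γ _ => ?_
    by_cases h3 : orbOf γ = i <;> simp [h3]
  · rw [if_neg hij]
    refine Finset.sum_eq_zero fun γ _ => ?_
    by_cases h3 : orbOf γ = i
    · rw [if_pos h3, if_neg (fun h => hij (h3.symm.trans h))]
    · rw [if_neg h3]

open Classical in
/-- Orthogonality of the orbit sums on the nontrivial elements. -/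
theorem sum_erase_sig_mul_conj (L : Data p M B D c) (i j : Orb D c) [Decidable (i = j)] :
    ∑ w ∈ Finset.univ.erase (1 : D), sig i w * conj (sig j w) =
      (if i = j then (Nat.card D : ℂ) * ((Subgroup.centralizer (D : Set G)).relIndex (stabSub D c) : ℂ) else 0) -
        ((Subgroup.centralizer (D : Set G)).relIndex (stabSub D c) : ℂ) ^ 2 := by
  classical
  have h1 := Finset.add_sum_erase Finset.univ (fun w : D => sig i w * conj (sig j w)) (Finset.mem_univ (1 : D))
  rw [sum_sig_mul_conj L i j, sig_one L, sig_one L, map_natCast] at h1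
  rw [← h1]
  ring

/-! ### The row formula -/

/-- The combination of the dual attached to multiplicities. -/
noncomputable def kap (m : (D →* ℂˣ) → ℕ) (w : D) : ℂ := ∑ γ : D →* ℂˣ, (m γ : ℂ) * ((γ w : ℂˣ) : ℂ)

open Classical in
/-- The scalar product on the `p`-regular elements. -/
noncomputable def Pm (p : ℕ) (χ ψ : G → ℂ) : ℂ :=
  (Nat.card G : ℂ)⁻¹ * ∑ y : G, if ¬ p ∣ orderOf y then χ y * conj (ψ y) else 0

open Classical in
/-- **The row formula.** -/
theorem row_formula (L : Data p M B D c) (m : IrrCharacter G → (D →* ℂˣ) → ℕ) (Ξ : G → G → ℂ)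
    (hsec : ∀ (χ : IrrCharacter G) w (hw : w ∈ D), w ≠ 1 → ∀ y ∈ cZ w, ¬ p ∣ orderOf y →
        Fs (χ : G → ℂ) w (bb p M c w) y = (∑ γ : D →* ℂˣ, (m χ γ : ℂ) * ((γ ⟨w, hw⟩ : ℂˣ) : ℂ)) * Ξ w y)
    (hnorm : ∀ w ∈ D, w ≠ 1 → (∑ y : G, if y ∈ cZ w ∧ ¬ p ∣ orderOf y then Ξ w y * conj (Ξ w y) else 0) =
        (Nat.card (cZ w) : ℂ) / Nat.card D)
    {χ ψ : IrrCharacter G} (hχ : χ ∈ B) (hψ : ψ ∈ B) :
    classInner (χ : G → ℂ) (ψ : G → ℂ) = Pm p (χ : G → ℂ) (ψ : G → ℂ) +
      ((Nat.card D : ℂ) * ((Subgroup.centralizer (D : Set G)).relIndex (stabSub D c) : ℂ))⁻¹ *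
        ∑ w ∈ Finset.univ.erase (1 : D), kap (m χ) w * conj (kap (m ψ) w) := by
  have hG : (Nat.card G : ℂ) ≠ 0 := by exact_mod_cast Nat.card_pos.ne'
  have h1 := classInner_eq_sum L.hM L.hmax hχ hψ
  rw [classInner, h1, ← mul_assoc, inv_mul_cancel₀ hG, one_mul,
    ← Finset.add_sum_erase Finset.univ _ (Finset.mem_univ (1 : D))]
  have h2 := NN_one_div L.hM L.hmax hχ hψ
  refine congrArg₂ (· + ·) h2 ?_
  rw [Finset.mul_sum]
  refine Finset.sum_congr rfl fun w hw => ?_
  have hw1 : w ≠ 1 := Finset.ne_of_mem_erase hw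
  have hw1' : (w : G) ≠ 1 := fun h => hw1 (Subtype.ext h)
  have hq : (Nat.card D : ℂ) ≠ 0 := by exact_mod_cast Nat.card_pos.ne'
  have he : ((Subgroup.centralizer (D : Set G)).relIndex (stabSub D c) : ℂ) ≠ 0 := by
    have : (Subgroup.centralizer (D : Set G)).relIndex (stabSub D c) ≠ 0 := by
      rw [Subgroup.relIndex]
      exact Subgroup.index_ne_zero_of_finite
    exact_mod_cast this
  have hC : (Nat.card (cZ (w : G)) : ℂ) ≠ 0 := by exact_mod_cast Nat.card_pos.ne'
  rw [nU_bb L.hM L.hmax L.hD1 L.hcyc w.2 hw1']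
  have h3 : NN p (χ : G → ℂ) (ψ : G → ℂ) (w : G) (bb p M c (w : G)) =
      kap (m χ) w * conj (kap (m ψ) w) * ((Nat.card (cZ (w : G)) : ℂ) / Nat.card D) := by
    rw [← hnorm _ w.2 hw1', NN, Finset.mul_sum]
    refine Finset.sum_congr rfl fun y _ => ?_
    by_cases hy : y ∈ cZ (w : G) ∧ ¬ p ∣ orderOf y
    · rw [if_pos hy, if_pos hy, hsec χ _ w.2 hw1' y hy.1 hy.2, hsec ψ _ w.2 hw1' y hy.1 hy.2, map_mul, kap, kap]
      ring
    · rw [if_neg hy, if_neg hy, mul_zero]
  rw [h3]
  push_cast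
  field_simp

/-- A finiteness structure on a set of characters. -/
noncomputable def fB (B : Set (IrrCharacter G)) : Fintype B :=
  haveI := Cfsg.Agent.Lib.Char.Ortho.finite_irrCharacter (G := G)
  Fintype.ofFinite _

attribute [local instance] fB

open Classical in
/-- **The numerical structure of a block with a cyclic defect group**, on the orbits of the stabilizer. -/
theorem exists_numeric_orb (hM : IsPModular p M) (hmax : IsMaximalBrauerPair p M B D c) (hD1 : D ≠ ⊥)
    (hcyc : IsCyclic D) :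
    ∃ (n : IrrCharacter G → Orb D c → ℤ) (Ξ : G → G → ℂ),
      (Subgroup.centralizer (D : Set G)).relIndex (stabSub D c) * Fintype.card (Orb D c) = Nat.card D - 1 ∧
      blockRank p B + Fintype.card (Orb D c) ≤ Nat.card B ∧
      (∀ i j, ∑ χ : B, n χ i * n χ j =
        ((Subgroup.centralizer (D : Set G)).relIndex (stabSub D c) : ℤ) + if i = j then 1 else 0) ∧
      (∀ i y, ¬ p ∣ orderOf y → ∑ χ : B, (n χ i : ℂ) * ((χ : IrrCharacter G) : G → ℂ) y = 0) ∧
      (∀ (χ : IrrCharacter G) w (hw : w ∈ D), w ≠ 1 → ∀ y ∈ cZ w, ¬ p ∣ orderOf y →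
        Fs (χ : G → ℂ) w (bb p M c w) y = (∑ i, (n χ i : ℂ) * sig i ⟨w, hw⟩) * Ξ w y) := by
  obtain ⟨L⟩ := exists_loc hM hmax hD1 hcyc
  obtain ⟨m, Ξ, hsec, hnorm, hinv⟩ := exists_section_package hM hmax hD1 hcyc
  set e : ℕ := (Subgroup.centralizer (D : Set G)).relIndex (stabSub D c) with he
  set q : ℕ := Nat.card D with hq
  have hq0 : (q : ℂ) ≠ 0 := by exact_mod_cast Nat.card_pos.ne'
  have he0' : e ≠ 0 := by
    rw [he, Subgroup.relIndex]
    exact Subgroup.index_ne_zero_of_finite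
  have he0 : (e : ℂ) ≠ 0 := by exact_mod_cast he0'
  let n : IrrCharacter G → Orb D c → ℤ := fun χ i => (m χ (rp i).1 : ℤ) - (m χ 1 : ℤ)
  have hcard : e * Fintype.card (Orb D c) = q - 1 := by
    rw [← Nat.card_eq_fintype_card]
    exact relIndex_mul_card_dsh L
  have hcard2 : Nat.card (MulAction.orbitRel.Quotient (stabSub D c) (Sh D)) = Fintype.card (Orb D c) := by
    have h1 := relIndex_mul_card_sh L
    rw [← hcard] at h1
    exact Nat.eq_of_mul_eq_mul_left (Nat.pos_of_ne_zero he0') h1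
  have hcount : blockRank p B + Fintype.card (Orb D c) ≤ Nat.card B := by
    rw [← hcard2]
    exact add_card_sh_le L
  have hq1 : 1 ≤ q := Nat.card_pos
  have hqt : (q : ℂ) = (e : ℂ) * (Fintype.card (Orb D c) : ℂ) + 1 := by
    have : q = e * Fintype.card (Orb D c) + 1 := by omega
    exact_mod_cast this
  let s : IrrCharacter G → ℂ := fun χ => ∑ i, (n χ i : ℂ)
  let P : Matrix B B ℂ := fun χ ψ => Pm p ((χ : IrrCharacter G) : G → ℂ) ((ψ : IrrCharacter G) : G → ℂ)
  let A : Matrix B (Orb D c) ℂ := fun χ i => (n χ i : ℂ)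
  let E : Matrix (Orb D c) B ℂ := fun i χ => (n χ i : ℂ) - (e : ℂ) / q * s χ
  -- the rank of `P`
  have hrank : P.rank ≤ blockRank p B := by
    let R : Matrix B G ℂ := Matrix.of fun χ y => pRegularPart p ((χ : IrrCharacter G) : G → ℂ) y
    have h1 : P = R * (((Nat.card G : ℂ)⁻¹) • R.conjTranspose) := by
      ext χ ψ
      simp only [P, Pm, R, Matrix.mul_apply, Matrix.smul_apply, Matrix.conjTranspose_apply, smul_eq_mul, Matrix.of_apply]
      rw [Finset.mul_sum]
      refine Finset.sum_congr rfl fun y _ => ?_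
      simp only [Cfsg.Agent.Lib.BlockH.Regular.pRegularPart_apply]
      by_cases hy : IsPRegular p y
      · have hy' : ¬ p ∣ orderOf y := hy
        rw [if_pos hy, if_pos hy, if_pos hy']
        simp only [Complex.star_def]
        ring
      · have hy' : ¬ ¬ p ∣ orderOf y := hy
        rw [if_neg hy, if_neg hy, if_neg hy']
        simp
    rw [h1]
    refine le_trans (Matrix.rank_mul_le_left _ _) ?_
    rw [Matrix.rank_eq_finrank_span_row, blockRank]
    have h2 : Set.range R.row = (fun χ : IrrCharacter G => pRegularPart p (χ : G → ℂ)) '' B := by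
      ext f
      constructor
      · rintro ⟨χ, rfl⟩
        exact ⟨χ, χ.2, rfl⟩
      · rintro ⟨χ, hχ, rfl⟩
        exact ⟨⟨χ, hχ⟩, rfl⟩
    rw [h2]
  -- the identity
  have hid : P + A * E = 1 := by
    ext χ ψ
    have h1 := row_formula L m Ξ hsec hnorm χ.2 ψ.2
    rw [← he, ← hq] at h1
    have h2 : classInner ((χ : IrrCharacter G) : G → ℂ) ((ψ : IrrCharacter G) : G → ℂ) = (1 : Matrix B B ℂ) χ ψ := by
      rw [Matrix.one_apply]
      by_cases h : χ = ψ
      · subst h
        rw [if_pos rfl, classInner_self_of_isIrr (χ : IrrCharacter G).2]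
      · rw [if_neg h]
        refine classInner_eq_zero_of_isIrr_of_ne (χ : IrrCharacter G).2 (ψ : IrrCharacter G).2 fun h3 => h ?_
        exact Subtype.ext (Subtype.ext h3)
    rw [← h2, h1, Matrix.add_apply]
    congr 1
    rw [Matrix.mul_apply]
    have h3 : ∀ w ∈ Finset.univ.erase (1 : D), kap (m χ) w * conj (kap (m ψ) w) =
        ∑ i, ∑ j, (n χ i : ℂ) * (n ψ j : ℂ) * (sig i w * conj (sig j w)) := by
      intro w hw
      have hw1 : w ≠ 1 := Finset.ne_of_mem_erase hw
      rw [kap, kap, sum_eq_sum_sig L _ (hinv χ) hw1, sum_eq_sum_sig L _ (hinv ψ) hw1, map_sum, Finset.sum_mul_sum]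
      refine Finset.sum_congr rfl fun i _ => Finset.sum_congr rfl fun j _ => ?_
      rw [map_mul, map_intCast]
      ring
    rw [Finset.sum_congr rfl h3, Finset.sum_comm]
    have h4 : ∀ i : Orb D c, (∑ w ∈ Finset.univ.erase (1 : D), ∑ j, (n χ i : ℂ) * (n ψ j : ℂ) * (sig i w * conj (sig j w))) =
        (n χ i : ℂ) * ((n ψ i : ℂ) * ((q : ℂ) * e)) - (n χ i : ℂ) * s ψ * (e : ℂ) ^ 2 := by
      intro i
      rw [Finset.sum_comm]
      have h5 : ∀ j : Orb D c, (∑ w ∈ Finset.univ.erase (1 : D), (n χ i : ℂ) * (n ψ j : ℂ) * (sig i w * conj (sig j w))) =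
          (n χ i : ℂ) * (n ψ j : ℂ) * ((if i = j then (q : ℂ) * e else 0) - (e : ℂ) ^ 2) := by
        intro j
        rw [← Finset.mul_sum, sum_erase_sig_mul_conj L i j]
      simp_rw [h5, mul_sub, Finset.sum_sub_distrib]
      congr 1
      · rw [Finset.sum_eq_single i]
        · rw [if_pos rfl]
          ring
        · intro j _ hj
          rw [if_neg hj.symm, mul_zero]
        · intro h
          exact absurd (Finset.mem_univ _) h
      · simp only [s]
        rw [Finset.mul_sum, Finset.sum_mul]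
    rw [Finset.sum_congr rfl fun i _ => h4 i, Finset.mul_sum]
    refine Finset.sum_congr rfl fun i _ => ?_
    simp only [A, E]
    field_simp
  obtain ⟨hEA, hEP⟩ := la_core P A E (blockRank p B) hrank
    (by rw [Fintype.card_eq_nat_card (α := B)]; exact hcount) hid
  -- the scalar `1 - e t / q`
  have hscal : (1 : ℂ) - (e : ℂ) / q * (Fintype.card (Orb D c) : ℂ) = (q : ℂ)⁻¹ := by
    field_simp
    rw [hqt]
    ring
  -- the Gram matrix
  have hEA' : ∀ i j, (∑ χ : B, (n χ i : ℂ) * n χ j) - (e : ℂ) / q * (∑ χ : B, s χ * n χ j) =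
      if i = j then 1 else 0 := by
    intro i j
    have h1 := congrFun (congrFun hEA i) j
    rw [Matrix.mul_apply, Matrix.one_apply] at h1
    rw [← h1, Finset.mul_sum, ← Finset.sum_sub_distrib]
    refine Finset.sum_congr rfl fun χ _ => ?_
    simp only [E, A]
    ring
  have hbj : ∀ j, (∑ i : Orb D c, ∑ χ : B, (n χ i : ℂ) * n χ j) = ∑ χ : B, s χ * n χ j := by
    intro j
    rw [Finset.sum_comm]
    refine Finset.sum_congr rfl fun χ _ => ?_
    simp only [s]
    rw [Finset.sum_mul]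
  have hb : ∀ j, (∑ χ : B, s χ * n χ j) = (q : ℂ) := by
    intro j
    have h1 : (∑ i : Orb D c, ((∑ χ : B, (n χ i : ℂ) * n χ j) - (e : ℂ) / q * (∑ χ : B, s χ * n χ j))) = 1 := by
      simp_rw [hEA']
      rw [Finset.sum_ite_eq']
      simp
    rw [Finset.sum_sub_distrib, hbj, Finset.sum_const, Finset.card_univ, nsmul_eq_mul] at h1
    have h2 : (∑ χ : B, s χ * n χ j) * ((1 : ℂ) - (e : ℂ) / q * (Fintype.card (Orb D c) : ℂ)) = 1 := by
      linear_combination h1
    rw [hscal] at h2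
    field_simp at h2
    exact h2
  have hgram : ∀ i j, ∑ χ : B, n χ i * n χ j = (e : ℤ) + if i = j then 1 else 0 := by
    intro i j
    have h1 := hEA' i j
    rw [hb j] at h1
    have h2 : (((∑ χ : B, n χ i * n χ j : ℤ)) : ℂ) = (((e : ℤ) + if i = j then 1 else 0 : ℤ) : ℂ) := by
      push_cast
      have h3 : (e : ℂ) / q * q = e := by field_simp
      rw [h3] at h1
      rw [sub_eq_iff_eq_add] at h1
      rw [h1]
      split_ifs <;> ring
    exact_mod_cast h2
  -- the combinations vanish on the regular elements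
  have hEP' : ∀ i ψ, (∑ χ : B, (n χ i : ℂ) * P χ ψ) - (e : ℂ) / q * (∑ χ : B, s χ * P χ ψ) = 0 := by
    intro i ψ
    have h1 := congrFun (congrFun hEP i) ψ
    rw [Matrix.mul_apply] at h1
    rw [Matrix.zero_apply] at h1
    rw [← h1, Finset.mul_sum, ← Finset.sum_sub_distrib]
    refine Finset.sum_congr rfl fun χ _ => ?_
    simp only [E]
    ring
  have hd : ∀ ψ, (∑ χ : B, s χ * P χ ψ) = 0 := by
    intro ψ
    have h1 : (∑ i : Orb D c, ((∑ χ : B, (n χ i : ℂ) * P χ ψ) - (e : ℂ) / q * (∑ χ : B, s χ * P χ ψ))) = 0 := by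
      simp_rw [hEP']
      simp
    have h3 : (∑ i : Orb D c, ∑ χ : B, (n χ i : ℂ) * P χ ψ) = ∑ χ : B, s χ * P χ ψ := by
      rw [Finset.sum_comm]
      refine Finset.sum_congr rfl fun χ _ => ?_
      simp only [s]
      rw [Finset.sum_mul]
    rw [Finset.sum_sub_distrib, h3, Finset.sum_const, Finset.card_univ, nsmul_eq_mul] at h1
    have h2 : (∑ χ : B, s χ * P χ ψ) * ((1 : ℂ) - (e : ℂ) / q * (Fintype.card (Orb D c) : ℂ)) = 0 := by
      linear_combination h1
    rw [hscal] at h2
    rcases mul_eq_zero.mp h2 with h4 | h4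
    · exact h4
    · exact absurd h4 (inv_ne_zero hq0)
  have hc : ∀ i ψ, (∑ χ : B, (n χ i : ℂ) * P χ ψ) = 0 := by
    intro i ψ
    have h1 := hEP' i ψ
    rwa [hd ψ, mul_zero, sub_zero] at h1
  have hvan : ∀ i y, ¬ p ∣ orderOf y → ∑ χ : B, (n χ i : ℂ) * ((χ : IrrCharacter G) : G → ℂ) y = 0 := by
    intro i
    let f : G → ℂ := fun y => ∑ χ : B, (n χ i : ℂ) * ((χ : IrrCharacter G) : G → ℂ) y
    have h1 : ∑ y : G, (if ¬ p ∣ orderOf y then ((Complex.normSq (f y) : ℝ) : ℂ) else 0) = 0 := by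
      have h2 : (∑ ψ : B, (n ψ i : ℂ) * ∑ χ : B, (n χ i : ℂ) * P χ ψ) = 0 := by
        simp_rw [hc]
        simp
      have h3 : (∑ ψ : B, (n ψ i : ℂ) * ∑ χ : B, (n χ i : ℂ) * P χ ψ) =
          (Nat.card G : ℂ)⁻¹ * ∑ y : G, (if ¬ p ∣ orderOf y then ((Complex.normSq (f y) : ℝ) : ℂ) else 0) := by
        have h5 : ∀ y : G, (if ¬ p ∣ orderOf y then ((Complex.normSq (f y) : ℝ) : ℂ) else 0) =
            ∑ ψ : B, (n ψ i : ℂ) * ∑ χ : B, (n χ i : ℂ) *
              (if ¬ p ∣ orderOf y then ((χ : IrrCharacter G) : G → ℂ) y * conj (((ψ : IrrCharacter G) : G → ℂ) y) else 0) := by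
          intro y
          by_cases hy : ¬ p ∣ orderOf y
          · simp only [if_pos hy]
            rw [← Complex.mul_conj]
            have h6 : conj (f y) = ∑ ψ : B, (n ψ i : ℂ) * conj (((ψ : IrrCharacter G) : G → ℂ) y) := by
              simp only [f]
              rw [map_sum]
              refine Finset.sum_congr rfl fun ψ _ => ?_
              rw [map_mul, map_intCast]
            rw [h6]
            simp only [f]
            rw [Finset.sum_mul_sum, Finset.sum_comm]
            refine Finset.sum_congr rfl fun ψ _ => ?_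
            rw [Finset.mul_sum]
            refine Finset.sum_congr rfl fun χ _ => ?_
            ring
          · simp [if_neg hy]
        rw [Finset.sum_congr rfl fun y _ => h5 y, Finset.sum_comm, Finset.mul_sum]
        refine Finset.sum_congr rfl fun ψ _ => ?_
        rw [← Finset.mul_sum, mul_left_comm]
        congr 1
        rw [Finset.sum_comm, Finset.mul_sum]
        refine Finset.sum_congr rfl fun χ _ => ?_
        rw [← Finset.mul_sum, mul_left_comm]
        rfl
      rw [h3] at h2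
      rcases mul_eq_zero.mp h2 with h4 | h4
      · exact absurd h4 (inv_ne_zero (by exact_mod_cast Nat.card_pos.ne'))
      · exact h4
    intro y hy
    have h2 : ∑ y : G, (if ¬ p ∣ orderOf y then Complex.normSq (f y) else 0) = 0 := by
      have h3 : ((∑ y : G, (if ¬ p ∣ orderOf y then Complex.normSq (f y) else 0) : ℝ) : ℂ) = 0 := by
        rw [← h1]
        push_cast
        refine Finset.sum_congr rfl fun y _ => ?_
        split_ifs <;> simp
      exact_mod_cast h3
    have h3 := (Finset.sum_eq_zero_iff_of_nonneg (fun y _ => by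
      split_ifs
      · exact le_rfl
      · exact Complex.normSq_nonneg _)).mp h2 y (Finset.mem_univ y)
    rw [if_pos hy] at h3
    exact Complex.normSq_eq_zero.mp h3
  -- the sections
  have hs : ∀ (χ : IrrCharacter G) w (hw : w ∈ D), w ≠ 1 → ∀ y ∈ cZ w, ¬ p ∣ orderOf y →
      Fs (χ : G → ℂ) w (bb p M c w) y = (∑ i, (n χ i : ℂ) * sig i ⟨w, hw⟩) * Ξ w y := by
    intro χ w hw hw1 y hy hyr
    have hw1' : (⟨w, hw⟩ : D) ≠ 1 := fun h => hw1 (congrArg Subtype.val h)
    rw [hsec χ w hw hw1 y hy hyr, sum_eq_sum_sig L _ (hinv χ) hw1']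
  exact ⟨n, Ξ, hcard, hcount, fun i j => by convert hgram i j, hvan, hs⟩

open Classical in
/-- **The numerical structure of a block with a cyclic defect group.** -/
theorem exists_numeric (hM : IsPModular p M) (hmax : IsMaximalBrauerPair p M B D c) (hD1 : D ≠ ⊥)
    (hcyc : IsCyclic D) :
    ∃ (I : Type u) (_ : Fintype I) (n : IrrCharacter G → I → ℤ) (Ξ : G → G → ℂ),
      (Subgroup.centralizer (D : Set G)).relIndex (stabSub D c) * Fintype.card I = Nat.card D - 1 ∧
      blockRank p B + Fintype.card I ≤ Nat.card B ∧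
      (∀ i j, ∑ χ : B, n χ i * n χ j =
        ((Subgroup.centralizer (D : Set G)).relIndex (stabSub D c) : ℤ) + if i = j then 1 else 0) ∧
      (∀ i y, ¬ p ∣ orderOf y → ∑ χ : B, (n χ i : ℂ) * ((χ : IrrCharacter G) : G → ℂ) y = 0) ∧
      (∀ χ ∈ B, ∀ a : ℤ, (∀ i, n χ i = a) → ∀ w ∈ D, w ≠ 1 → ∀ y ∈ cZ w, ¬ p ∣ orderOf y →
        Fs (χ : G → ℂ) w (bb p M c w) y = -(a : ℂ) * Ξ w y) := by
  obtain ⟨L⟩ := exists_loc hM hmax hD1 hcyc
  obtain ⟨n, Ξ, hcard, hcount, hgram, hvan, hsec⟩ := exists_numeric_orb hM hmax hD1 hcyc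
  refine ⟨Orb D c, inferInstance, n, Ξ, hcard, hcount, fun i j => by convert hgram i j, hvan, ?_⟩
  intro χ _ a ha w hw hw1 y hy hyr
  have hw1' : (⟨w, hw⟩ : D) ≠ 1 := fun h => hw1 (congrArg Subtype.val h)
  rw [hsec χ w hw hw1 y hy hyr]
  have h1 : ∀ i : Orb D c, (n χ i : ℂ) * sig i ⟨w, hw⟩ = (a : ℂ) * sig i ⟨w, hw⟩ := by
    intro i
    rw [ha i]
  rw [Finset.sum_congr rfl fun i _ => h1 i, ← Finset.mul_sum, sum_sig L hw1']
  ring

end Orbits

end Cfsg.Agent.Lib.Dade.Num
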