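import Mathlib

/-!
# Integer vectors with a Gram matrix `e + δ`

Let `v_i` be integer vectors on a finite set, with inner products `e + δ_ij`, orthogonal to a positive vector.  If the
supports cover the set, and the set has at least `e + t` points (`t` the number of vectors), then
`v_i = u + ε e_{ν_i}` for distinct points `ν_i`, a sign `ε`, and a vector `u` with entries `± 1` outside the `ν_i` and
vanishing at the `ν_i`.
-/

set_option autoImplicit false
set_option linter.unusedSectionVars false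

namespace Cfsg.Agent.Lib.Dade.Shape

open scoped BigOperators

variable {Χ I : Type*} [Fintype Χ] [Fintype I] [DecidableEq Χ] [DecidableEq I]

/-- An integer vector of norm `2` orthogonal to a positive vector. -/
theorem root_of_norm (x d : Χ → ℤ) (hd : ∀ c, 0 < d c) (h2 : ∑ c, x c ^ 2 = 2) (h0 : ∑ c, x c * d c = 0) :
    ∃ a b, a ≠ b ∧ ∀ c, x c = (if c = a then 1 else 0) - (if c = b then 1 else 0) := by
  have hne : ∃ c, x c ≠ 0 := by
    by_contra hcon
    push Not at hcon
    rw [Finset.sum_eq_zero fun c _ => by rw [hcon c]; rfl] at h2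
    exact absurd h2 (by norm_num)
  have hpos : ∃ a, 0 < x a := by
    by_contra hcon
    push Not at hcon
    obtain ⟨c, hc⟩ := hne
    have h1 : x c * d c < 0 := mul_neg_of_neg_of_pos (lt_of_le_of_ne (hcon c) hc) (hd c)
    have h3 : ∑ z, x z * d z < 0 :=
      Finset.sum_neg' (fun z _ => mul_nonpos_of_nonpos_of_nonneg (hcon z) (hd z).le) ⟨c, Finset.mem_univ _, h1⟩
    omega
  have hneg : ∃ b, x b < 0 := by
    by_contra hcon
    push Not at hcon
    obtain ⟨c, hc⟩ := hne
    have h1 : 0 < x c * d c := mul_pos (lt_of_le_of_ne (hcon c) hc.symm) (hd c)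
    have h3 : 0 < ∑ z, x z * d z :=
      Finset.sum_pos' (fun z _ => mul_nonneg (hcon z) (hd z).le) ⟨c, Finset.mem_univ _, h1⟩
    omega
  obtain ⟨a, ha⟩ := hpos
  obtain ⟨b, hb⟩ := hneg
  have hab : a ≠ b := by
    rintro rfl
    omega
  refine ⟨a, b, hab, ?_⟩
  have hsum : x a ^ 2 + (x b ^ 2 + ∑ c ∈ (Finset.univ.erase a).erase b, x c ^ 2) = 2 := by
    rw [Finset.add_sum_erase _ (fun c => x c ^ 2) (Finset.mem_erase.mpr ⟨hab.symm, Finset.mem_univ _⟩),
      Finset.add_sum_erase _ (fun c => x c ^ 2) (Finset.mem_univ _)]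
    exact h2
  have hrest : 0 ≤ ∑ c ∈ (Finset.univ.erase a).erase b, x c ^ 2 := Finset.sum_nonneg fun c _ => sq_nonneg _
  have ha2 : 1 ≤ x a ^ 2 := by nlinarith
  have hb2 : 1 ≤ x b ^ 2 := by nlinarith
  have hxa : x a = 1 := by nlinarith
  have hxb : x b = -1 := by nlinarith
  have hr0 : ∑ c ∈ (Finset.univ.erase a).erase b, x c ^ 2 = 0 := by
    rw [hxa, hxb] at hsum
    linarith
  have hzero := (Finset.sum_eq_zero_iff_of_nonneg (fun c _ => sq_nonneg (x c))).mp hr0
  intro c
  by_cases h1 : c = a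
  · subst h1
    simp [hab, hxa]
  by_cases h2' : c = b
  · subst h2'
    simp [h1, hxb]
  have h3 := hzero c (Finset.mem_erase.mpr ⟨h2', Finset.mem_erase.mpr ⟨h1, Finset.mem_univ _⟩⟩)
  have h4 : x c = 0 := by simpa using h3
  simp [h1, h2', h4]

/-- The triple lemma. -/
theorem triple {a b c d x y : Χ} (hab : a ≠ b) (hcd : c ≠ d)
    (h : ∀ z : Χ, ((if z = c then (1 : ℤ) else 0) - (if z = d then 1 else 0)) - ((if z = a then 1 else 0) - (if z = b then 1 else 0)) =
      (if z = x then 1 else 0) - (if z = y then 1 else 0)) : c = a ∨ d = b := by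
  by_contra hcon
  push Not at hcon
  obtain ⟨h1, h2⟩ := hcon
  have hc := h c
  have hb := h b
  rw [if_pos rfl, if_neg hcd, if_neg h1] at hc
  rw [if_pos rfl, if_neg (Ne.symm h2), if_neg (Ne.symm hab)] at hb
  by_cases hcb : c = b
  · subst hcb
    rw [if_pos rfl] at hc
    split_ifs at hc <;> omega
  rw [if_neg hcb] at hc
  rw [if_neg (Ne.symm hcb)] at hb
  have hcx : c = x := by
    by_contra h3
    rw [if_neg h3] at hc
    split_ifs at hc <;> omega
  have hbx : b = x := by
    by_contra h3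
    rw [if_neg h3] at hb
    split_ifs at hb <;> omega
  exact hcb (hcx.trans hbx.symm)

section Main

variable (n : Χ → I → ℤ) (e : ℕ) (d : Χ → ℤ) (hd : ∀ χ, 0 < d χ)
  (gram : ∀ i j, ∑ χ, n χ i * n χ j = (e : ℤ) + if i = j then 1 else 0)
  (hdeg : ∀ i, ∑ χ, n χ i * d χ = 0)

include hd gram hdeg

/-- The difference of two of the vectors. -/
theorem exists_root {i j : I} (hij : i ≠ j) :
    ∃ a b, a ≠ b ∧ ∀ c, n c i - n c j = (if c = a then 1 else 0) - (if c = b then 1 else 0) := by
  apply root_of_norm (fun c => n c i - n c j) d hd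
  · have h1 : ∀ c, (n c i - n c j) ^ 2 = n c i * n c i + n c j * n c j - 2 * (n c i * n c j) := fun c => by ring
    simp only [h1]
    rw [Finset.sum_sub_distrib, Finset.sum_add_distrib, ← Finset.mul_sum, gram, gram, gram, if_pos rfl, if_pos rfl,
      if_neg hij]
    ring
  · simp only [sub_mul]
    rw [Finset.sum_sub_distrib, hdeg, hdeg, sub_zero]

/-- **The clique lemma.** -/
theorem exists_clique {i₀ i₁ : I} (h01 : i₀ ≠ i₁) :
    ∃ (u : Χ → ℤ) (ε : ℤ) (ν : I → Χ), (ε = 1 ∨ ε = -1) ∧ Function.Injective ν ∧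
      ∀ i χ, n χ i = u χ + ε * (if χ = ν i then 1 else 0) := by
  classical
  have hR : ∀ k : I, ∃ a b : Χ, k ≠ i₀ → a ≠ b ∧ ∀ c, n c i₀ - n c k = (if c = a then 1 else 0) - (if c = b then 1 else 0) := by
    intro k
    by_cases hk : k = i₀
    · obtain ⟨χ⟩ : Nonempty Χ := by
        by_contra hem
        rw [not_nonempty_iff] at hem
        have h1 := gram i₀ i₀
        rw [if_pos rfl, Fintype.sum_empty] at h1
        omega
      exact ⟨χ, χ, fun h => absurd hk h⟩
    · obtain ⟨a, b, h1, h2⟩ := exists_root n e d hd gram hdeg (Ne.symm hk)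
      exact ⟨a, b, fun _ => ⟨h1, h2⟩⟩
  choose top bot hTB using hR
  have hne : ∀ {k : I}, k ≠ i₀ → top k ≠ bot k := fun hk => (hTB _ hk).1
  have hdiff : ∀ {k : I}, k ≠ i₀ → ∀ c, n c i₀ - n c k = (if c = top k then 1 else 0) - (if c = bot k then 1 else 0) :=
    fun hk => (hTB _ hk).2
  have htr : ∀ {j k : I}, j ≠ i₀ → k ≠ i₀ → j ≠ k → top k = top j ∨ bot k = bot j := by
    intro j k hj hk hjk
    obtain ⟨x, y, hxy, hr⟩ := exists_root n e d hd gram hdeg hjk
    refine triple (hne hj) (hne hk) (x := x) (y := y) fun z => ?_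
    rw [← hdiff hk z, ← hdiff hj z, ← hr z]
    ring
  have hinj : ∀ {ν : I → Χ} {u : Χ → ℤ} {ε : ℤ}, (∀ i χ, n χ i = u χ + ε * (if χ = ν i then 1 else 0)) →
      Function.Injective ν := by
    intro ν u ε h i j hij
    by_contra hne'
    have h1 : ∀ χ, n χ i = n χ j := fun χ => by rw [h i χ, h j χ, hij]
    have h2 := gram i i
    have h3 := gram i j
    rw [if_pos rfl] at h2
    rw [if_neg hne'] at h3
    simp only [← h1] at h3
    omega
  by_cases hcase : ∀ k, k ≠ i₀ → top k = top i₁
  · -- top type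
    let ν : I → Χ := fun k => if k = i₀ then top i₁ else bot k
    have hform : ∀ i χ, n χ i = (n χ i₀ - if χ = top i₁ then 1 else 0) + 1 * (if χ = ν i then 1 else 0) := by
      intro i χ
      by_cases hi : i = i₀
      · subst hi
        simp [ν]
      · have h1 := hdiff hi χ
        rw [hcase i hi] at h1
        simp only [ν, if_neg hi]
        linarith
    exact ⟨_, 1, ν, Or.inl rfl, hinj hform, hform⟩
  · push Not at hcase
    obtain ⟨k₀, hk₀, htk₀⟩ := hcase
    have hi₁ : i₁ ≠ i₀ := Ne.symm h01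
    have hbk₀ : bot k₀ = bot i₁ := by
      by_cases hk : i₁ = k₀
      · rw [hk]
      · rcases htr hi₁ hk₀ hk with h | h
        · exact absurd h htk₀
        · exact h
    have hall : ∀ k, k ≠ i₀ → bot k = bot i₁ := by
      intro k hk
      by_cases h1 : k = i₁
      · rw [h1]
      by_cases h2 : k = k₀
      · rw [h2, hbk₀]
      rcases htr hi₁ hk (Ne.symm h1) with h | h
      · rcases htr hk₀ hk (Ne.symm h2) with h' | h'
        · exact absurd (h'.symm.trans h) htk₀
        · rw [h', hbk₀]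
      · exact h
    let ν : I → Χ := fun k => if k = i₀ then bot i₁ else top k
    have hform : ∀ i χ, n χ i = (n χ i₀ + if χ = bot i₁ then 1 else 0) + (-1) * (if χ = ν i then 1 else 0) := by
      intro i χ
      by_cases hi : i = i₀
      · have h2 : ν i = bot i₁ := if_pos hi
        rw [h2, hi]
        ring
      · have h1 := hdiff hi χ
        rw [hall i hi] at h1
        simp only [ν, if_neg hi]
        linarith
    exact ⟨_, -1, ν, Or.inr rfl, hinj hform, hform⟩

/-- **The shape of the vectors.** -/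
theorem shape [Nonempty I] (hcov : ∀ χ, ∃ i, n χ i ≠ 0) (hcard : e + Fintype.card I ≤ Fintype.card Χ) :
    Fintype.card Χ = e + Fintype.card I ∧ ∃ (ν : I → Χ) (ε : ℤ) (a : Χ → ℤ), Function.Injective ν ∧
      (ε = 1 ∨ ε = -1) ∧ (∀ χ, χ ∉ Set.range ν → a χ = 1 ∨ a χ = -1) ∧
      (∀ i χ, χ ∉ Set.range ν → n χ i = a χ) ∧ (∀ i j, n (ν j) i = if j = i then ε else 0) := by
  classical
  by_cases hsub : Subsingleton I
  · obtain ⟨i₀⟩ := ‹Nonempty I›
    have ht : Fintype.card I = 1 := by
      rw [Fintype.card_eq_one_iff]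
      exact ⟨i₀, fun y => Subsingleton.elim _ _⟩
    have hg := gram i₀ i₀
    rw [if_pos rfl] at hg
    have h1 : ∀ χ, 1 ≤ n χ i₀ * n χ i₀ := by
      intro χ
      obtain ⟨i, hi⟩ := hcov χ
      rw [Subsingleton.elim i i₀] at hi
      have h2 : 0 < n χ i₀ * n χ i₀ := mul_self_pos.mpr hi
      omega
    have h2 : (Fintype.card Χ : ℤ) ≤ ∑ χ, n χ i₀ * n χ i₀ := by
      have h3 : ∑ _χ : Χ, (1 : ℤ) ≤ ∑ χ, n χ i₀ * n χ i₀ := Finset.sum_le_sum fun χ _ => h1 χ
      simpa using h3
    rw [ht] at hcard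
    have hk : Fintype.card Χ = e + 1 := by omega
    have h3 : ∑ χ, (n χ i₀ * n χ i₀ - 1) = 0 := by
      rw [Finset.sum_sub_distrib, hg]
      simp [hk]
    have h4 := (Finset.sum_eq_zero_iff_of_nonneg (fun χ _ => sub_nonneg.mpr (h1 χ))).mp h3
    have h5 : ∀ χ, n χ i₀ = 1 ∨ n χ i₀ = -1 := by
      intro χ
      have h6 := h4 χ (Finset.mem_univ _)
      have h7 : n χ i₀ * n χ i₀ = 1 := by omega
      rcases Int.eq_one_or_neg_one_of_mul_eq_one' h7 with h8 | h8
      · exact Or.inl h8.1
      · exact Or.inr h8.1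
    obtain ⟨χ₁⟩ : Nonempty Χ := by
      rw [← Fintype.card_pos_iff]
      omega
    refine ⟨by rw [ht, hk], fun _ => χ₁, n χ₁ i₀, fun χ => n χ i₀, fun a b _ => Subsingleton.elim _ _, h5 χ₁,
      fun χ _ => h5 χ, fun i χ _ => by rw [Subsingleton.elim i i₀], fun i j => ?_⟩
    rw [if_pos (Subsingleton.elim _ _), Subsingleton.elim i i₀]
  rw [not_subsingleton_iff_nontrivial] at hsub
  obtain ⟨i₀, i₁, h01⟩ := hsub
  obtain ⟨u, ε, ν, hε, hinj, hform⟩ := exists_clique n e d hd gram hdeg h01
  have hε2 : ε * ε = 1 := by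
    rcases hε with h | h <;> rw [h] <;> norm_num
  set s : ℤ := ∑ χ, u χ * u χ with hs
  have hi : ∀ i, s + 2 * (ε * u (ν i)) = e := by
    intro i
    have hg := gram i i
    rw [if_pos rfl] at hg
    have h1 : ∀ χ, n χ i * n χ i = u χ * u χ + 2 * (ε * (if χ = ν i then u χ else 0)) + (if χ = ν i then 1 else 0) := by
      intro χ
      rw [hform i χ]
      by_cases h : χ = ν i
      · simp only [if_pos h]
        linear_combination hε2
      · simp only [if_neg h]
        ring
    simp only [h1] at hg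
    rw [Finset.sum_add_distrib, Finset.sum_add_distrib, ← Finset.mul_sum, ← Finset.mul_sum, Finset.sum_ite_eq',
      Finset.sum_ite_eq', if_pos (Finset.mem_univ _), if_pos (Finset.mem_univ _)] at hg
    linarith
  set b : ℤ := ε * u (ν i₀) with hb
  have hbi : ∀ i, ε * u (ν i) = b := by
    intro i
    have h1 := hi i
    have h2 := hi i₀
    rw [← hb] at h2
    linarith
  have hu2 : ∀ i, u (ν i) * u (ν i) = b * b := by
    intro i
    rw [← hbi i]
    linear_combination (-(u (ν i) * u (ν i))) * hε2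
  set R : Finset Χ := Finset.univ.image ν with hR
  have hRc : R.card = Fintype.card I := by
    rw [hR, Finset.card_image_of_injective _ hinj, Finset.card_univ]
  have hmem : ∀ χ, χ ∉ Set.range ν ↔ χ ∈ Rᶜ := by
    intro χ
    simp [hR]
  have hAc : Rᶜ.card + Fintype.card I = Fintype.card Χ := by
    rw [Finset.card_compl, hRc]
    exact Nat.sub_add_cancel (by rw [← hRc]; exact Finset.card_le_univ _)
  have hsplit : s = (Fintype.card I : ℤ) * (b * b) + ∑ χ ∈ Rᶜ, u χ * u χ := by
    rw [hs, ← Finset.sum_add_sum_compl R]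
    congr 1
    rw [hR, Finset.sum_image (fun x _ y _ h => hinj h)]
    simp only [hu2]
    simp
  have huA : ∀ χ ∈ Rᶜ, ∀ i, n χ i = u χ := by
    intro χ hχ i
    have h1 : χ ≠ ν i := by
      rintro rfl
      exact (hmem _).mpr hχ ⟨i, rfl⟩
    rw [hform i χ, if_neg h1, mul_zero, add_zero]
  have h1A : ∀ χ ∈ Rᶜ, 1 ≤ u χ * u χ := by
    intro χ hχ
    obtain ⟨i, hi'⟩ := hcov χ
    rw [huA χ hχ i] at hi'
    have h2 : 0 < u χ * u χ := mul_self_pos.mpr hi'
    omega
  have hle : (Rᶜ.card : ℤ) ≤ ∑ χ ∈ Rᶜ, u χ * u χ := by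
    have h3 : ∑ _χ ∈ Rᶜ, (1 : ℤ) ≤ ∑ χ ∈ Rᶜ, u χ * u χ := Finset.sum_le_sum h1A
    simpa using h3
  have hb0 := hi i₀
  rw [← hb] at hb0
  have hAe : (e : ℤ) ≤ Rᶜ.card := by
    have : e ≤ Rᶜ.card := by omega
    exact_mod_cast this
  have hkey : 2 * b + (Fintype.card I : ℤ) * (b * b) ≤ 0 := by linarith
  have ht2 : (2 : ℤ) ≤ Fintype.card I := by
    have : 2 ≤ Fintype.card I := by
      have h3 := Finset.card_le_univ ({i₀, i₁} : Finset I)
      rwa [Finset.card_pair h01] at h3
    exact_mod_cast this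
  have hcases : b = 0 ∨ (b = -1 ∧ (Fintype.card I : ℤ) = 2) := by
    rcases lt_trichotomy b 0 with h | h | h
    · right
      set t : ℤ := (Fintype.card I : ℤ) with ht
      have hc : b ≤ -1 := by omega
      have h3 : t * (-b) ≤ 2 := by
        by_contra hcon
        push Not at hcon
        nlinarith
      have h4 : 2 * (-b) ≤ t * (-b) := by nlinarith
      have h5 : b = -1 := by omega
      refine ⟨h5, ?_⟩
      rw [h5] at h3
      omega
    · exact Or.inl h
    · exfalso
      have h3 : 0 ≤ (Fintype.card I : ℤ) * (b * b) := by positivity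
      omega
  have heq0 : 2 * b + (Fintype.card I : ℤ) * (b * b) = 0 := by
    rcases hcases with h | ⟨h, h'⟩
    · rw [h]
      ring
    · rw [h, h']
      norm_num
  have hsA : ∑ χ ∈ Rᶜ, u χ * u χ = e := by linarith
  have hAcard : Rᶜ.card = e := by
    have h3 : (Rᶜ.card : ℤ) = e := by linarith
    exact_mod_cast h3
  have hk : Fintype.card Χ = e + Fintype.card I := by omega
  have h3 : ∑ χ ∈ Rᶜ, (u χ * u χ - 1) = 0 := by
    rw [Finset.sum_sub_distrib, hsA]
    simp [hAcard]
  have h4 := (Finset.sum_eq_zero_iff_of_nonneg (fun χ hχ => sub_nonneg.mpr (h1A χ hχ))).mp h3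
  have h5 : ∀ χ, χ ∉ Set.range ν → u χ = 1 ∨ u χ = -1 := by
    intro χ hχ
    have h6 := h4 χ ((hmem χ).mp hχ)
    have h7 : u χ * u χ = 1 := by omega
    rcases Int.eq_one_or_neg_one_of_mul_eq_one' h7 with h8 | h8
    · exact Or.inl h8.1
    · exact Or.inr h8.1
  refine ⟨hk, ?_⟩
  rcases hcases with hb1 | ⟨hb1, hb2⟩
  · have hu0 : ∀ i, u (ν i) = 0 := by
      intro i
      have h6 := hbi i
      rw [hb1] at h6
      rcases hε with h | h <;> rw [h] at h6 <;> omega
    refine ⟨ν, ε, u, hinj, hε, h5, fun i χ hχ => huA χ ((hmem χ).mp hχ) i, fun i j => ?_⟩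
    rw [hform i (ν j), hu0, zero_add]
    by_cases hij : j = i
    · rw [if_pos hij, if_pos (by rw [hij]), mul_one]
    · rw [if_neg hij, if_neg (fun h => hij (hinj h)), mul_zero]
  · have huε : ∀ i, u (ν i) = -ε := by
      intro i
      have h6 := hbi i
      rw [hb1] at h6
      rcases hε with h | h <;> rw [h] at h6 ⊢ <;> omega
    have hall : ∀ i, i = i₀ ∨ i = i₁ := by
      have h6 : ({i₀, i₁} : Finset I) = Finset.univ := by
        apply Finset.eq_univ_of_card
        rw [Finset.card_pair h01]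
        have : Fintype.card I = 2 := by exact_mod_cast hb2
        omega
      intro i
      have h7 := Finset.mem_univ i
      rw [← h6] at h7
      simpa using h7
    let σ : Equiv.Perm I := Equiv.swap i₀ i₁
    have hσ : ∀ j i, σ j = i ↔ j ≠ i := by
      intro j i
      rcases hall j with rfl | rfl <;> rcases hall i with rfl | rfl <;> simp [σ, h01, Ne.symm h01]
    have hrange : Set.range (ν ∘ σ) = Set.range ν := (σ.surjective).range_comp ν
    refine ⟨ν ∘ σ, -ε, u, hinj.comp σ.injective, ?_, ?_, ?_, fun i j => ?_⟩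
    · rcases hε with h | h
      · exact Or.inr (by rw [h])
      · exact Or.inl (by rw [h]; norm_num)
    · rw [hrange]
      exact h5
    · rw [hrange]
      exact fun i χ hχ => huA χ ((hmem χ).mp hχ) i
    · simp only [Function.comp]
      rw [hform i (ν (σ j)), huε]
      by_cases hij : j = i
      · rw [if_pos hij, if_neg (fun h => ((hσ j i).mp (hinj h)) hij), mul_zero, add_zero]
      · rw [if_neg hij, if_pos (by rw [(hσ j i).mpr hij]), mul_one]
        ring

end Main

end Cfsg.Agent.Lib.Dade.Shape
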