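import Mathlib
import Cfsg.Agent.Lib.Dade.LF
import Cfsg.Agent.Lib.Dade.Num
import Cfsg.Agent.Lib.Dade.Shape

/-!
# Blocks with a cyclic defect group
-/

set_option linter.unusedSectionVars false
set_option linter.style.haveILetI false
set_option autoImplicit false

namespace Cfsg.Agent.Lib.Dade.Main

open Cfsg MonoidAlgebra
open Cfsg.Agent.Lib.Blocks.Local Cfsg.Agent.Lib.Blocks.Central Cfsg.Agent.Lib.Blocks.Brauer
open Cfsg.Agent.Lib.BlockH.MaxPair
open Cfsg.Agent.Lib.BP.Star1 Cfsg.Agent.Lib.BP.Star2 Cfsg.Agent.Lib.BP.Nil1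
open Cfsg.Agent.Lib.BP.Cj Cfsg.Agent.Lib.BP.MIS Cfsg.Agent.Lib.BP.StarDefs
open Cfsg.Agent.Lib.Contrib.Section
open Cfsg.Agent.Lib.Char.Basic Cfsg.Agent.Lib.Char.Complete Cfsg.Agent.Lib.Char.Ortho Cfsg.Agent.Lib.Char.GenLattice
open Cfsg.Agent.Lib.Char.Degree
open Cfsg.Agent.Lib.Dade.Base Cfsg.Agent.Lib.Dade.Gen Cfsg.Agent.Lib.Dade.Num
open Cfsg.Agent.Lib.Dade.Loc

universe u

variable {G : Type u} [Group G] [Fintype G] {p : ℕ} {M : Ideal AlgInt} [Fact p.Prime]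

attribute [local instance] fK fIrr fBl fB

variable {B : Set (IrrCharacter G)} {D : Subgroup G} {c : Set (IrrCharacter (Subgroup.centralizer (D : Set G)))}

/-- A function with vanishing sections vanishes on the `p`-singular elements. -/
theorem vanish_of_sec (hM : IsPModular p M) (hmax : IsMaximalBrauerPair p M B D c) {θ : G → ℂ}
    (hcl : IsClassFunction G θ)
    (hout : ∀ (r : G) (c' : Set (IrrCharacter (cZ r))), (∃ k : ℕ, orderOf r = p ^ k) → IsPBlock M c' →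
      (¬ ∃ t, IsUnder p M c r c' t) → ∀ y, y ∈ cZ r → ¬ p ∣ orderOf y → Fs θ r c' y = 0)
    (hsec : ∀ w ∈ D, w ≠ 1 → ∀ y ∈ cZ w, ¬ p ∣ orderOf y → Fs θ w (bb p M c w) y = 0) :
    ∀ g, p ∣ orderOf g → θ g = 0 := by
  intro g hg
  obtain ⟨r, y, rfl, hr, hcm, hy⟩ := exists_sec (p := p) g
  by_cases hr1 : r = 1
  · subst hr1
    rw [one_mul] at hg
    exact absurd hg hy
  refine eq_zero_of_sec hM hmax hcl hout hr (mem_cZ.mpr hcm) hy (fun t ht hy' => ?_)
  refine hsec _ ht ?_ _ (mem_cZ_conj.mpr hy') (by rwa [orderOf_conj'])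
  intro h
  apply hr1
  have : r = t⁻¹ * (t * r * t⁻¹) * t := by group
  rw [this, h]
  group

/-- A member of a block which vanishes on the `p`-singular elements is alone in its block. -/
theorem singleton_of_vanish (hM : IsPModular p M) (hB : IsPBlock M B) {χ : IrrCharacter G} (hχ : χ ∈ B)
    (hv : ∀ x : G, p ∣ orderOf x → (χ : G → ℂ) x = 0) : B = {χ} := by
  have hp : p.Prime := Fact.out
  haveI := isPrime_of_pModular hM
  haveI := Cfsg.Agent.Lib.Char.Ortho.finite_irrCharacter (G := G)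
  letI := Fintype.ofFinite (IrrCharacter G)
  rw [isPBlock_eq_blockOf hB hχ, ← Cfsg.Agent.Lib.Blocks.Inducing.blockOf_eq_singleton_iff hM χ]
  obtain ⟨n, hn⟩ := Cfsg.Agent.Lib.Blocks.RegPart.exists_eq_mul_of_vanish (p := p) (isGenChar_of_isIrr χ.2) hv
  rw [Cfsg.Agent.Lib.Blocks.Heights.irr_one_eq] at hn
  have h2 : ((charDegree (χ : G → ℂ) : ℕ) : ℤ) = ((p ^ (Nat.card G).factorization p : ℕ) : ℤ) * n := by
    exact_mod_cast hn
  have h4 : p ^ (Nat.card G).factorization p ∣ charDegree (χ : G → ℂ) :=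
    Int.natCast_dvd_natCast.mp ⟨n, h2⟩
  have h3 : charDegree (χ : G → ℂ) ∣ Nat.card G := Cfsg.Agent.Lib.Char.Degree.charDegree_dvd_card χ.2
  intro h5
  have h6 : p * charDegree (χ : G → ℂ) ∣ Nat.card G := by
    obtain ⟨m, hm⟩ := h5
    refine ⟨m, ?_⟩
    have h7 := Nat.div_mul_cancel h3
    rw [hm] at h7
    rw [← h7]
    ring
  have h7 : p ^ ((Nat.card G).factorization p + 1) ∣ Nat.card G := by
    refine dvd_trans ?_ h6
    rw [pow_succ, mul_comm]
    exact mul_dvd_mul_left p h4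
  exact Nat.pow_succ_factorization_not_dvd Nat.card_pos.ne' hp h7

open Classical in
/-- **The shape of a block with a cyclic defect group.** -/
theorem exists_shape (hM : IsPModular p M) (hmax : IsMaximalBrauerPair p M B D c) (hD1 : D ≠ ⊥)
    (hcyc : IsCyclic D) :
    ∃ (I : Type u) (_ : Fintype I) (ν : I → B) (ε : ℤ) (a : B → ℤ), Function.Injective ν ∧
      (Subgroup.centralizer (D : Set G)).relIndex (stabSub D c) * Fintype.card I = Nat.card D - 1 ∧
      Nat.card B = (Subgroup.centralizer (D : Set G)).relIndex (stabSub D c) + Fintype.card I ∧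
      blockRank p B = (Subgroup.centralizer (D : Set G)).relIndex (stabSub D c) ∧
      (ε = 1 ∨ ε = -1) ∧ (∀ χ, χ ∉ Set.range ν → a χ = 1 ∨ a χ = -1) ∧
      (∀ i y, ¬ p ∣ orderOf y → (ε : ℂ) * ((ν i : IrrCharacter G) : G → ℂ) y +
        ∑ χ ∈ (Finset.univ.image ν)ᶜ, (a χ : ℂ) * ((χ : IrrCharacter G) : G → ℂ) y = 0) ∧
      (∀ χ χ', χ ∉ Set.range ν → χ' ∉ Set.range ν → ∀ g, p ∣ orderOf g →
        (a χ : ℂ) * ((χ : IrrCharacter G) : G → ℂ) g - (a χ' : ℂ) * ((χ' : IrrCharacter G) : G → ℂ) g = 0) := by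
  haveI := isPrime_of_pModular hM
  haveI := Cfsg.Agent.Lib.Char.Ortho.finite_irrCharacter (G := G)
  letI := Fintype.ofFinite (IrrCharacter G)
  have hB : IsPBlock M B := hmax.1.2.1
  obtain ⟨I, iI, n, Ξ, hcard, hcount, hgram, hreg, hsec⟩ := exists_numeric hM hmax hD1 hcyc
  letI := iI
  have hle := relIndex_le_blockRank hM hmax hD1 hcyc
  set e := (Subgroup.centralizer (D : Set G)).relIndex (stabSub D c) with he
  have hq : 1 < Nat.card D := (Subgroup.one_lt_card_iff_ne_bot D).mpr hD1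
  have he0 : 0 < e := by
    rw [he, Subgroup.relIndex]
    exact Nat.pos_of_ne_zero Subgroup.index_ne_zero_of_finite
  have hI : 0 < Fintype.card I := by
    apply Nat.pos_of_ne_zero
    intro h0
    rw [h0, mul_zero] at hcard
    omega
  haveI : Nonempty I := Fintype.card_pos_iff.mp hI
  have hreg1 : ¬ p ∣ orderOf (1 : G) := by
    rw [orderOf_one]
    exact fun h => (Fact.out : p.Prime).one_lt.ne' (Nat.dvd_one.mp h)
  have hdeg : ∀ i, ∑ χ : B, n χ i * ((charDegree ((χ : IrrCharacter G) : G → ℂ) : ℕ) : ℤ) = 0 := by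
    intro i
    have h1 := hreg i 1 hreg1
    have h2 : ∀ χ : B, (((χ : IrrCharacter G) : G → ℂ) 1) = ((charDegree ((χ : IrrCharacter G) : G → ℂ) : ℕ) : ℂ) :=
      fun χ => Cfsg.Agent.Lib.Blocks.Heights.irr_one_eq χ.1
    simp only [h2] at h1
    exact_mod_cast h1
  have hcov : ∀ χ : B, ∃ i, n χ i ≠ 0 := by
    by_contra hcon
    push Not at hcon
    obtain ⟨χ, hχ⟩ := hcon
    have hv := vanish_of_sec hM hmax (θ := ((χ : IrrCharacter G) : G → ℂ)) (fun a b => class_irr χ.1 _ _)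
      (fun r c' hr hc' hn y hy hyp => Fs_eq_zero_of_not_under hM hmax χ.2 hr hc' hn hy hyp)
      (fun w hw h1 y hy hyp => by
        rw [hsec χ.1 χ.2 0 hχ w hw h1 y hy hyp]
        simp)
    have hs := singleton_of_vanish hM hB χ.2 hv
    have hc1 : Nat.card B = 1 := by
      rw [hs]
      simp
    omega
  have hk : e + Fintype.card I ≤ Fintype.card B := by
    have h2 : Nat.card B = Fintype.card B := Nat.card_eq_fintype_card
    omega
  obtain ⟨hk', ν, ε, a, hinj, hε, ha, hA, hν⟩ := Cfsg.Agent.Lib.Dade.Shape.shape (fun (χ : B) i => n χ i) e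
    (fun χ : B => ((charDegree ((χ : IrrCharacter G) : G → ℂ) : ℕ) : ℤ))
    (fun χ => by exact_mod_cast charDegree_pos χ.1.2) hgram hdeg hcov hk
  refine ⟨I, iI, ν, ε, a, hinj, hcard, ?_, ?_, hε, ha, ?_, ?_⟩
  · rw [Nat.card_eq_fintype_card, hk']
  · rw [Nat.card_eq_fintype_card, hk'] at hcount
    omega
  · intro i y hy
    have h1 := hreg i y hy
    rw [← Finset.sum_add_sum_compl (Finset.univ.image ν), Finset.sum_image (fun x _ y _ h => hinj h)] at h1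
    have h2 : ∑ j, (n (ν j : IrrCharacter G) i : ℂ) * ((ν j : IrrCharacter G) : G → ℂ) y =
        (ε : ℂ) * ((ν i : IrrCharacter G) : G → ℂ) y := by
      rw [Finset.sum_eq_single i]
      · rw [hν, if_pos rfl]
      · intro j _ hj
        rw [hν, if_neg hj]
        simp
      · intro h0
        exact absurd (Finset.mem_univ _) h0
    rw [h2] at h1
    rw [← h1]
    congr 1
    refine Finset.sum_congr rfl fun χ hχ => ?_
    have h3 : χ ∉ Set.range ν := by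
      rintro ⟨j, rfl⟩
      exact (Finset.mem_compl.mp hχ) (Finset.mem_image_of_mem _ (Finset.mem_univ _))
    rw [hA i χ h3]
  · intro χ χ' hχ hχ' g hg
    refine vanish_of_sec hM hmax (θ := fun g => (a χ : ℂ) * ((χ : IrrCharacter G) : G → ℂ) g -
      (a χ' : ℂ) * ((χ' : IrrCharacter G) : G → ℂ) g) (fun x y => ?_) (fun r c' hr hc' hn y hy hyp => ?_)
      (fun w hw h1 y hy hyp => ?_) g hg
    · simp only
      rw [class_irr χ.1, class_irr χ'.1]
    · rw [Fs_sub, Fs_smul, Fs_smul, Fs_eq_zero_of_not_under hM hmax χ.2 hr hc' hn hy hyp,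
        Fs_eq_zero_of_not_under hM hmax χ'.2 hr hc' hn hy hyp]
      simp
    · rw [Fs_sub, Fs_smul, Fs_smul,
        hsec χ.1 χ.2 (a χ) (fun i => hA i χ hχ) w hw h1 y hy hyp,
        hsec χ'.1 χ'.2 (a χ') (fun i => hA i χ' hχ') w hw h1 y hy hyp]
      have h1 : ((a χ : ℤ) : ℂ) * (a χ : ℂ) = 1 := by
        rcases ha χ hχ with h | h <;> rw [h] <;> norm_num
      have h2 : ((a χ' : ℤ) : ℂ) * (a χ' : ℂ) = 1 := by
        rcases ha χ' hχ' with h | h <;> rw [h] <;> norm_num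
      linear_combination (-Ξ w y) * h1 + (Ξ w y) * h2

/-- **The structure of a block with a cyclic defect group** (Brauer, Dade). -/
theorem main_structure (hM : IsPModular p M) (hmax : IsMaximalBrauerPair p M B D c) (hD1 : D ≠ ⊥) (hcyc : IsCyclic D)
    {a : ℕ} (hDa : Nat.card D = p ^ a) {e : ℕ} (he : (Subgroup.centralizer (D : Set G)).relIndex (stabSub D c) = e) :
    blockRank p B = e ∧ Nat.card B = e + (p ^ a - 1) / e ∧ e ∣ p - 1 ∧ (∀ χ ∈ B, blockHeight p B (χ : G → ℂ) = 0) ∧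
    ∃ X Y : Set (IrrCharacter G), B = X ∪ Y ∧ Disjoint X Y ∧ Nat.card X = e ∧ Nat.card Y = (p ^ a - 1) / e ∧
      (∀ ψ ∈ Y, ∀ ψ' ∈ Y, ∀ g : G, ¬ p ∣ orderOf g → (ψ : G → ℂ) g = (ψ' : G → ℂ) g) ∧
      ∃ (δ : IrrCharacter G → ℤ) (δ₀ : ℤ), (∀ χ ∈ X, δ χ = 1 ∨ δ χ = -1) ∧ (δ₀ = 1 ∨ δ₀ = -1) ∧
        (∀ ψ ∈ Y, ∀ g : G, ¬ p ∣ orderOf g → (δ₀ : ℂ) * (ψ : G → ℂ) g + ∑ᶠ χ ∈ X, (δ χ : ℂ) * (χ : G → ℂ) g = 0) ∧
        (∀ χ ∈ X, ∀ χ' ∈ X, δ χ * (charDegree (χ : G → ℂ) : ℤ) ≡ δ χ' * (charDegree (χ' : G → ℂ) : ℤ) [ZMOD (p : ℤ) ^ a]) ∧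
        (∀ ψ ∈ Y, ∀ χ ∈ X, (charDegree (ψ : G → ℂ) : ℤ) ≡
          -((e : ℤ) * δ₀ * δ χ * (charDegree (χ : G → ℂ) : ℤ)) [ZMOD (p : ℤ) ^ a]) := by
  classical
  haveI := isPrime_of_pModular hM
  haveI := Cfsg.Agent.Lib.Char.Ortho.finite_irrCharacter (G := G)
  letI := Fintype.ofFinite (IrrCharacter G)
  have hp : p.Prime := Fact.out
  have hB : IsPBlock M B := hmax.1.2.1
  obtain ⟨I, iI, ν, ε, α, hinj, hcard, hk, hrank, hε, hα, hrel, hvan⟩ := exists_shape hM hmax hD1 hcyc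
  letI := iI
  rw [he] at hcard hk hrank
  have he0 : 0 < e := by
    rw [← he, Subgroup.relIndex]
    exact Nat.pos_of_ne_zero Subgroup.index_ne_zero_of_finite
  have hIc : Fintype.card I = (p ^ a - 1) / e := by
    rw [← hDa, ← hcard]
    exact (Nat.mul_div_cancel_left _ he0).symm
  set R : Finset B := Finset.univ.image ν with hR
  have hmemR : ∀ χ : B, χ ∉ Set.range ν ↔ χ ∈ Rᶜ := by
    intro χ
    simp [hR]
  have hRcard : R.card = Fintype.card I := by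
    rw [hR, Finset.card_image_of_injective _ hinj, Finset.card_univ]
  have hRc : Rᶜ.card = e := by
    rw [Finset.card_compl, hRcard, ← Nat.card_eq_fintype_card, hk]
    omega
  have hε2 : ε * ε = 1 := by
    rcases hε with h | h <;> rw [h] <;> norm_num
  have hα2 : ∀ χ ∈ Rᶜ, α χ * α χ = 1 := by
    intro χ hχ
    rcases hα χ ((hmemR χ).mpr hχ) with h | h <;> rw [h] <;> norm_num
  have hreg1 : ¬ p ∣ orderOf (1 : G) := by
    rw [orderOf_one]
    exact fun h => hp.one_lt.ne' (Nat.dvd_one.mp h)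
  -- the degrees
  set Q : ℕ := p ^ (Nat.card G).factorization p with hQdef
  let dg : IrrCharacter G → ℤ := fun χ => ((charDegree (χ : G → ℂ) : ℕ) : ℤ)
  have hone : ∀ χ : IrrCharacter G, (χ : G → ℂ) 1 = (dg χ : ℂ) := by
    intro χ
    rw [Cfsg.Agent.Lib.Blocks.Heights.irr_one_eq]
    simp [dg]
  let Dg : B → ℤ := fun χ => α χ * dg χ
  have hQ : ∀ χ ∈ Rᶜ, ∀ χ' ∈ Rᶜ, (Q : ℤ) ∣ Dg χ - Dg χ' := by
    intro χ hχ χ' hχ'
    have hgen : IsGeneralizedCharacter G (fun g => (α χ : ℂ) * ((χ : IrrCharacter G) : G → ℂ) g -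
        (α χ' : ℂ) * ((χ' : IrrCharacter G) : G → ℂ) g) := by
      have h1 := isGenChar_sub (isGenChar_zsmul (isGenChar_of_isIrr χ.1.2) (α χ))
        (isGenChar_zsmul (isGenChar_of_isIrr χ'.1.2) (α χ'))
      convert h1 using 1
      funext g
      simp
    obtain ⟨m, hm⟩ := Cfsg.Agent.Lib.Blocks.RegPart.exists_eq_mul_of_vanish (p := p) hgen
      (hvan χ χ' ((hmemR χ).mpr hχ) ((hmemR χ').mpr hχ'))
    simp only [hone] at hm
    refine ⟨m, ?_⟩
    exact_mod_cast hm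
  have hdeg0 : ∀ i, ε * dg (ν i) + ∑ χ ∈ Rᶜ, Dg χ = 0 := by
    intro i
    have h1 := hrel i 1 hreg1
    simp only [hone] at h1
    exact_mod_cast h1
  have hψ : ∀ i, ∀ χ₁ ∈ Rᶜ, (Q : ℤ) ∣ dg (ν i) + (e : ℤ) * ε * α χ₁ * dg χ₁ := by
    intro i χ₁ hχ₁
    have h1 : (Q : ℤ) ∣ ∑ χ ∈ Rᶜ, (Dg χ - Dg χ₁) := Finset.dvd_sum fun χ hχ => hQ χ hχ χ₁ hχ₁
    have h2 : ∑ χ ∈ Rᶜ, (Dg χ - Dg χ₁) = ∑ χ ∈ Rᶜ, Dg χ - e * Dg χ₁ := by
      rw [Finset.sum_sub_distrib, Finset.sum_const, hRc, nsmul_eq_mul]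
    have h3 : dg (ν i) + (e : ℤ) * ε * α χ₁ * dg χ₁ = (-ε) * (∑ χ ∈ Rᶜ, (Dg χ - Dg χ₁)) := by
      rw [h2]
      have h4 := hdeg0 i
      have h5 : dg (ν i) = -ε * ∑ χ ∈ Rᶜ, Dg χ := by
        linear_combination ε * h4 - (dg (ν i)) * hε2
      rw [h5]
      simp only [Dg]
      ring
    rw [h3]
    exact Dvd.dvd.mul_left h1 _
  -- the power of `p`
  have hcdvd : p ^ a ∣ Nat.card G := by
    rw [← hDa]
    exact Subgroup.card_subgroup_dvd_card D
  have haN : a ≤ (Nat.card G).factorization p := (hp.pow_dvd_iff_le_factorization Nat.card_pos.ne').mp hcdvd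
  have hdQ : ((p : ℤ) ^ a) ∣ (Q : ℤ) := by
    rw [hQdef]
    push_cast
    exact pow_dvd_pow _ haN
  have hcop : Nat.Coprime p e := by
    rw [← he]
    exact (Nat.Prime.coprime_iff_not_dvd hp).mpr (Cfsg.Agent.Lib.BlockH.CyclicDefect.not_dvd_relIndex_stab hM hmax (hab_of_cyclic hcyc))
  obtain ⟨χe, hχe⟩ : (Rᶜ).Nonempty := by
    rw [← Finset.card_pos, hRc]
    exact he0
  have hεu : ∀ x : ℤ, ∀ P1 : ℤ, P1 ∣ ε * x → P1 ∣ x := by
    intro x P1 h
    have h1 : x = ε * (ε * x) := by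
      linear_combination (-x) * hε2
    rw [h1]
    exact Dvd.dvd.mul_left h _
  have hαu : ∀ χ ∈ Rᶜ, ∀ x : ℤ, ∀ P1 : ℤ, P1 ∣ α χ * x → P1 ∣ x := by
    intro χ hχ x P1 h
    have h1 : x = α χ * (α χ * x) := by
      linear_combination (-x) * hα2 χ hχ
    rw [h1]
    exact Dvd.dvd.mul_left h _
  -- the heights
  have hheight : ∀ χ ∈ B, blockHeight p B (χ : G → ℂ) = 0 := by
    set A := sInf ((fun ψ : IrrCharacter G => (charDegree (ψ : G → ℂ)).factorization p) '' B) with hA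
    obtain ⟨χ₀, hχ₀, -, hs⟩ := Cfsg.Agent.Lib.BP.Nil4.exists_height_zero (p := p) (isPBlock_nonempty hB)
    rw [← hA] at hs
    have hBD : IsDefectGroup p M B D := isDefectGroup_of_isMaximal hM hmax
    have hcD := Cfsg.Agent.Lib.Blocks.Inducing.card_eq_pow_blockDefect hM hB hBD
    rw [hDa] at hcD
    have ha : a = blockDefect p B := Nat.pow_right_injective hp.two_le hcD
    have ha1 : 1 ≤ a := by
      rcases Nat.eq_zero_or_pos a with h | h
      · subst h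
        rw [pow_zero, Subgroup.card_eq_one] at hDa
        exact absurd hDa hD1
      · exact h
    have hA1 : A + 1 ≤ (Nat.card G).factorization p := by
      rw [ha, blockDefect, ← hA] at ha1
      omega
    have hdQ' : ((p ^ (A + 1) : ℕ) : ℤ) ∣ (Q : ℤ) := Int.natCast_dvd_natCast.mpr (pow_dvd_pow p hA1)
    have hnd : ∀ χ : IrrCharacter G, ¬ p ^ (A + 1) ∣ charDegree (χ : G → ℂ) ↔
        (charDegree (χ : G → ℂ)).factorization p ≤ A := by
      intro χ
      rw [hp.pow_dvd_iff_le_factorization (Cfsg.Agent.Lib.Blocks.Heights.charDegree_ne_zero_irr χ)]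
      omega
    have hnd₀ : ¬ ((p ^ (A + 1) : ℕ) : ℤ) ∣ dg χ₀ := by
      intro h
      exact (hnd χ₀).mpr hs.le (Int.natCast_dvd_natCast.mp h)
    -- the characters of `X`
    have hX : ∀ χ ∈ Rᶜ, ¬ ((p ^ (A + 1) : ℕ) : ℤ) ∣ dg χ := by
      intro χ hχ h
      by_cases hχ₀R : (⟨χ₀, hχ₀⟩ : B) ∈ Rᶜ
      · have h1 := hdQ'.trans (hQ χ hχ _ hχ₀R)
        have h2 : ((p ^ (A + 1) : ℕ) : ℤ) ∣ Dg χ := Dvd.dvd.mul_left h _
        have h3 := (Int.dvd_iff_dvd_of_dvd_sub h1).mp h2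
        exact hnd₀ (hαu _ hχ₀R _ _ h3)
      · obtain ⟨i, hi⟩ : (⟨χ₀, hχ₀⟩ : B) ∈ Set.range ν := by
          by_contra hcon
          exact hχ₀R ((hmemR _).mp hcon)
        have h1 := hdQ'.trans (hψ i χ hχ)
        have h2 : dg χ₀ = dg (ν i) := by rw [hi]
        rw [← h2] at h1
        have h3 : ((p ^ (A + 1) : ℕ) : ℤ) ∣ (e : ℤ) * ε * α χ * dg χ := Dvd.dvd.mul_left h _
        exact hnd₀ ((dvd_add_left h3).mp h1)
    intro χ hχ
    rw [blockHeight, ← hA]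
    have hle : (charDegree (χ : G → ℂ)).factorization p ≤ A := by
      rw [← hnd]
      intro hdvd
      have hdvd' : ((p ^ (A + 1) : ℕ) : ℤ) ∣ dg χ := Int.natCast_dvd_natCast.mpr hdvd
      by_cases hχR : (⟨χ, hχ⟩ : B) ∈ Rᶜ
      · exact hX _ hχR hdvd'
      · obtain ⟨i, hi⟩ : (⟨χ, hχ⟩ : B) ∈ Set.range ν := by
          by_contra hcon
          exact hχR ((hmemR _).mp hcon)
        have h1 := hdQ'.trans (hψ i χe hχe)
        have h2 : dg χ = dg (ν i) := by rw [hi]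
        rw [← h2] at h1
        have h3 := (dvd_add_right hdvd').mp h1
        have h4 : (e : ℤ) * ε * α χe * dg χe = ε * (α χe * ((e : ℤ) * dg χe)) := by ring
        rw [h4] at h3
        have h5 := hαu _ hχe _ _ (hεu _ _ h3)
        have h6 : ((p ^ (A + 1) : ℕ) : ℤ) ∣ ((e * charDegree ((χe : IrrCharacter G) : G → ℂ) : ℕ) : ℤ) := by
          simpa [dg] using h5
        have h7 := Int.natCast_dvd_natCast.mp h6
        have h8 := (Nat.Coprime.pow_left (A + 1) hcop).dvd_of_dvd_mul_left h7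
        exact hX _ hχe (Int.natCast_dvd_natCast.mpr h8)
    omega
  have hepm : e ∣ p - 1 := by
    obtain ⟨Φ, hΦ, -⟩ := Cfsg.Agent.Lib.BlockH.CyclicDefect.cyclic_core (T := stabSub D c) hmax.1.1.1 hD1 hcyc
      (fun _ h => h.1) (Cfsg.Agent.Lib.BlockH.CyclicDefect.not_dvd_relIndex_stab hM hmax (hab_of_cyclic hcyc))
    have h1 : Nat.card Φ.range = e := by
      rw [← he, Subgroup.relIndex]
      have h2 := Subgroup.index_ker Φ
      rw [hΦ] at h2
      exact h2.symm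
    rw [← h1, ← ZMod.card_units p, ← Nat.card_eq_fintype_card]
    exact Subgroup.card_subgroup_dvd_card _
  -- the sets
  let XF : Finset (IrrCharacter G) := (Rᶜ).image Subtype.val
  let YF : Finset (IrrCharacter G) := R.image Subtype.val
  have hval : Function.Injective (Subtype.val : B → IrrCharacter G) := Subtype.val_injective
  have hδ : ∃ δ : IrrCharacter G → ℤ, ∀ χ : B, δ χ = α χ :=
    ⟨fun χ => if h : χ ∈ B then α ⟨χ, h⟩ else 0, fun χ => by simp⟩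
  obtain ⟨δ, hδ⟩ := hδ
  have hXmem : ∀ χ ∈ XF, ∃ hχ : χ ∈ B, (⟨χ, hχ⟩ : B) ∈ Rᶜ := by
    intro χ hχ
    obtain ⟨χ', hχ', rfl⟩ := Finset.mem_image.mp hχ
    exact ⟨χ'.2, hχ'⟩
  have hYmem : ∀ ψ ∈ YF, ∃ i, ψ = (ν i : IrrCharacter G) := by
    intro ψ hψ'
    obtain ⟨χ', hχ', rfl⟩ := Finset.mem_image.mp hψ'
    obtain ⟨i, -, rfl⟩ := Finset.mem_image.mp hχ'
    exact ⟨i, rfl⟩
  have hsumX : ∀ g, ∑ᶠ χ ∈ (XF : Set (IrrCharacter G)), (δ χ : ℂ) * (χ : G → ℂ) g =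
      ∑ χ ∈ Rᶜ, (α χ : ℂ) * ((χ : IrrCharacter G) : G → ℂ) g := by
    intro g
    rw [finsum_mem_coe_finset, Finset.sum_image (fun x _ y _ h => hval h)]
    refine Finset.sum_congr rfl fun χ _ => ?_
    rw [hδ]
  refine ⟨hrank, ?_, hepm, hheight, XF, YF, ?_, ?_, ?_, ?_, ?_, δ, ε, ?_, hε, ?_, ?_, ?_⟩
  · rw [hk, hIc]
  · ext χ
    simp only [Set.mem_union, Finset.mem_coe]
    constructor
    · intro hχ
      by_cases h : (⟨χ, hχ⟩ : B) ∈ R
      · exact Or.inr (Finset.mem_image.mpr ⟨_, h, rfl⟩)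
      · exact Or.inl (Finset.mem_image.mpr ⟨_, Finset.mem_compl.mpr h, rfl⟩)
    · rintro (h | h) <;> obtain ⟨χ', -, rfl⟩ := Finset.mem_image.mp h <;> exact χ'.2
  · rw [Finset.disjoint_coe, Finset.disjoint_left]
    intro χ hχ hχ'
    obtain ⟨x, hx, rfl⟩ := Finset.mem_image.mp hχ
    obtain ⟨y, hy, hxy⟩ := Finset.mem_image.mp hχ'
    rw [hval hxy] at hy
    exact (Finset.mem_compl.mp hx) hy
  · rw [Nat.card_coe_set_eq, Set.ncard_coe_finset, Finset.card_image_of_injective _ hval, hRc]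
  · rw [Nat.card_coe_set_eq, Set.ncard_coe_finset, Finset.card_image_of_injective _ hval, hRcard, hIc]
  · intro ψ hψ' ψ' hψ'' g hg
    obtain ⟨i, rfl⟩ := hYmem ψ hψ'
    obtain ⟨j, rfl⟩ := hYmem ψ' hψ''
    have h1 := hrel i g hg
    have h2 := hrel j g hg
    have h3 : (ε : ℂ) * ((ν i : IrrCharacter G) : G → ℂ) g = (ε : ℂ) * ((ν j : IrrCharacter G) : G → ℂ) g := by
      linear_combination h1 - h2
    have h4 : (ε : ℂ) ≠ 0 := by
      rcases hε with h | h <;> rw [h] <;> norm_num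
    exact mul_left_cancel₀ h4 h3
  · intro χ hχ
    obtain ⟨hχB, hχR⟩ := hXmem χ hχ
    have h1 := hδ ⟨χ, hχB⟩
    change δ χ = _ at h1
    rw [h1]
    exact hα _ ((hmemR _).mpr hχR)
  · intro ψ hψ' g hg
    obtain ⟨i, rfl⟩ := hYmem ψ hψ'
    rw [hsumX]
    exact hrel i g hg
  · intro χ hχ χ' hχ'
    obtain ⟨hχB, hχR⟩ := hXmem χ hχ
    obtain ⟨hχB', hχR'⟩ := hXmem χ' hχ'
    have h1 := hδ ⟨χ, hχB⟩
    have h2 := hδ ⟨χ', hχB'⟩
    change δ χ = _ at h1
    change δ χ' = _ at h2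
    rw [h1, h2]
    apply Int.ModEq.symm
    rw [Int.modEq_iff_dvd]
    exact hdQ.trans (hQ _ hχR _ hχR')
  · intro ψ hψ' χ hχ
    obtain ⟨i, rfl⟩ := hYmem ψ hψ'
    obtain ⟨hχB, hχR⟩ := hXmem χ hχ
    have h1 := hδ ⟨χ, hχB⟩
    change δ χ = _ at h1
    rw [h1]
    apply Int.ModEq.symm
    rw [Int.modEq_iff_dvd, sub_neg_eq_add]
    exact hdQ.trans (hψ i _ hχR)

/-- The stabilizer of a block in the form of the statements. -/
theorem eq_stabSub {b : Set (IrrCharacter (Subgroup.centralizer (D : Set G)))} {T : Subgroup G}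
    (hT : ∀ g : G, g ∈ T ↔ (g ∈ Subgroup.normalizer (D : Set G) ∧ ∀ θ ∈ b,
      ∀ θ' : IrrCharacter (Subgroup.centralizer (D : Set G)),
        (∀ h h' : Subgroup.centralizer (D : Set G), (h' : G) = g * h * g⁻¹ →
          (θ' : Subgroup.centralizer (D : Set G) → ℂ) h' = (θ : Subgroup.centralizer (D : Set G) → ℂ) h) → θ' ∈ b)) :
    T = stabSub D b := by
  ext g
  rw [hT, mem_stabSub]
  refine and_congr_right fun hg => ?_
  have hgK := Cfsg.Agent.Lib.BlockH.Pairs.mem_normalizer_centralizer hg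
  let σ := Cfsg.Agent.Lib.BlockH.Pairs.conjOfNormalizer hgK
  have hσ : ∀ k k' : Subgroup.centralizer (D : Set G), (k' : G) = g * (k : G) * g⁻¹ → σ.symm k' = k := by
    intro k k' h
    apply Subtype.ext
    rw [Cfsg.Agent.Lib.BlockH.Pairs.coe_conjOfNormalizer_symm, h]
    group
  constructor
  · intro h
    refine ⟨hgK, fun χ hχ => ?_⟩
    let χ' : IrrCharacter (Subgroup.centralizer (D : Set G)) :=
      ⟨(χ : Subgroup.centralizer (D : Set G) → ℂ) ∘ σ.symm,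
        Cfsg.Agent.Lib.Char.Conj.isIrrCharacter_comp_mulEquiv σ.symm χ.2⟩
    have hχ' : ∀ k k' : Subgroup.centralizer (D : Set G), (k' : G) = g * (k : G) * g⁻¹ →
        (χ' : Subgroup.centralizer (D : Set G) → ℂ) k' = (χ : Subgroup.centralizer (D : Set G) → ℂ) k := by
      intro k k' hk
      change (χ : Subgroup.centralizer (D : Set G) → ℂ) (σ.symm k') = _
      rw [hσ k k' hk]
    exact ⟨χ', h χ hχ χ' hχ', hχ'⟩
  · rintro ⟨-, h⟩ θ hθ θ' hθ'
    obtain ⟨χ', hχ', hc⟩ := h θ hθ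
    have h1 : θ' = χ' := by
      apply Subtype.ext
      funext h'
      have h2 : (h' : G) = g * ((σ.symm h' : Subgroup.centralizer (D : Set G)) : G) * g⁻¹ := by
        rw [Cfsg.Agent.Lib.BlockH.Pairs.coe_conjOfNormalizer_symm]
        group
      rw [hθ' _ h' h2, hc _ h' h2]
    rwa [h1]

end Cfsg.Agent.Lib.Dade.Main
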